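import Mathlib
import Cfsg.Agent.H28.Standard
import Cfsg.Agent.H36.Quasisimple
import Cfsg.Prelude.Def_Local

/-!
# The pointwise stabilizer of four points in `A_n` (`n ≥ 9`) is a standard subgroup (helper28)
-/

set_option autoImplicit false

namespace Cfsg.Agent.H28.AltStd

open Equiv
open scoped commutatorElement

variable {n : ℕ}

/-- `g` maps the points `< 4` to points `< 4`. -/
def Pres (g : Perm (Fin n)) : Prop := ∀ x : Fin n, (x : ℕ) < 4 → ((g x : Fin n) : ℕ) < 4

theorem inv_apply_self' (g : Perm (Fin n)) (x : Fin n) : g⁻¹ (g x) = x := by simp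

theorem apply_inv_self' (g : Perm (Fin n)) (x : Fin n) : g (g⁻¹ x) = x := by simp

theorem pres_inv {g : Perm (Fin n)} (h : Pres g) : Pres g⁻¹ := by
  let φ : {x : Fin n // (x : ℕ) < 4} → {x : Fin n // (x : ℕ) < 4} := fun x => ⟨g x.1, h x.1 x.2⟩
  have hinj : Function.Injective φ := by
    intro a b hab
    have h1 : g a.1 = g b.1 := congrArg Subtype.val hab
    exact Subtype.ext (g.injective h1)
  have hsurj : Function.Surjective φ := Finite.injective_iff_surjective.mp hinj
  intro x hx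
  obtain ⟨y, hy⟩ := hsurj ⟨x, hx⟩
  have h1 : g y.1 = x := congrArg Subtype.val hy
  have h2 : g⁻¹ x = y.1 := by rw [← h1, inv_apply_self']
  rw [h2]; exact y.2

theorem pres_high {g : Perm (Fin n)} (h : Pres g) (x : Fin n) (hx : 4 ≤ (x : ℕ)) :
    4 ≤ ((g x : Fin n) : ℕ) := by
  by_contra hlt
  push Not at hlt
  have h1 := pres_inv h (g x) hlt
  rw [inv_apply_self'] at h1
  omega

/-- The pointwise stabilizer of the four points. -/
abbrev stab4 (n : ℕ) (h4 : 4 ≤ n) : Subgroup (alternatingGroup (Fin n)) :=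
  ⨅ i : Fin 4, MulAction.stabilizer ↥(alternatingGroup (Fin n)) (Fin.castLE h4 i : Fin n)

theorem mem_stab4 (h4 : 4 ≤ n) (σ : alternatingGroup (Fin n)) :
    σ ∈ stab4 n h4 ↔ ∀ x : Fin n, (x : ℕ) < 4 → (σ : Perm (Fin n)) x = x := by
  simp only [stab4, Subgroup.mem_iInf, MulAction.mem_stabilizer_iff]
  constructor
  · intro h x hx
    have h1 := h ⟨x, hx⟩
    have hx' : Fin.castLE h4 ⟨(x : ℕ), hx⟩ = x := Fin.ext rfl
    rw [hx'] at h1
    exact h1
  · intro h i
    exact h _ (by simp)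

/-- The three-cycle `x → a → b → x` as an element of `A_n`. -/
def cyc3 (x a b : Fin n) (hxa : x ≠ a) (hab : a ≠ b) : alternatingGroup (Fin n) :=
  ⟨swap x a * swap a b, by
    rw [Equiv.Perm.mem_alternatingGroup, map_mul, Equiv.Perm.sign_swap hxa,
      Equiv.Perm.sign_swap hab]
    rfl⟩

theorem cyc3_apply_self (x a b : Fin n) (hxa : x ≠ a) (hab : a ≠ b) (hxb : x ≠ b) :
    (cyc3 x a b hxa hab : Perm (Fin n)) x = a := by
  show (swap x a * swap a b) x = a
  rw [Equiv.Perm.mul_apply, swap_apply_of_ne_of_ne hxa hxb, swap_apply_left]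

theorem cyc3_apply_of_ne (x a b : Fin n) (hxa : x ≠ a) (hab : a ≠ b) (y : Fin n) (hyx : y ≠ x)
    (hya : y ≠ a) (hyb : y ≠ b) : (cyc3 x a b hxa hab : Perm (Fin n)) y = y := by
  show (swap x a * swap a b) y = y
  rw [Equiv.Perm.mul_apply, swap_apply_of_ne_of_ne hya hyb, swap_apply_of_ne_of_ne hyx hya]

theorem cyc3_mem_stab4 (h4 : 4 ≤ n) (x a b : Fin n) (hxa : x ≠ a) (hab : a ≠ b)
    (hx : 4 ≤ (x : ℕ)) (ha : 4 ≤ (a : ℕ)) (hb : 4 ≤ (b : ℕ)) :
    cyc3 x a b hxa hab ∈ stab4 n h4 := by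
  rw [mem_stab4]
  intro y hy
  apply cyc3_apply_of_ne
  · intro h; rw [h] at hy; omega
  · intro h; rw [h] at hy; omega
  · intro h; rw [h] at hy; omega

theorem exists_two_high (hn : 9 ≤ n) (x y : Fin n) :
    ∃ a b : Fin n, 4 ≤ (a : ℕ) ∧ 4 ≤ (b : ℕ) ∧ a ≠ b ∧ a ≠ x ∧ a ≠ y ∧ b ≠ x ∧ b ≠ y := by
  classical
  let f : Fin 4 → Fin n := fun i => ⟨i.val + 4, by omega⟩
  have hf : Function.Injective f := by
    intro i j hij
    have h1 : i.val + 4 = j.val + 4 := congrArg Fin.val hij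
    exact Fin.ext (by omega)
  have hcard : 2 ≤ ((Finset.univ.image f) \ {x, y}).card := by
    have h1 : (Finset.univ.image f).card = 4 := by
      rw [Finset.card_image_of_injective _ hf]; simp
    have h2 : ({x, y} : Finset (Fin n)).card ≤ 2 := Finset.card_le_two
    have h3 := Finset.le_card_sdiff ({x, y} : Finset (Fin n)) (Finset.univ.image f)
    omega
  obtain ⟨a, ha, b, hb, hab⟩ := Finset.one_lt_card.mp hcard
  rw [Finset.mem_sdiff, Finset.mem_image] at ha hb
  obtain ⟨⟨i, -, rfl⟩, ha2⟩ := ha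
  obtain ⟨⟨j, -, rfl⟩, hb2⟩ := hb
  simp only [Finset.mem_insert, Finset.mem_singleton, not_or] at ha2 hb2
  exact ⟨f i, f j, Nat.le_add_left 4 i.val, Nat.le_add_left 4 j.val, hab, ha2.1, ha2.2,
    hb2.1, hb2.2⟩

theorem exists_high_high (hn : 9 ≤ n) (g : Perm (Fin n)) :
    ∃ c : Fin n, 4 ≤ (c : ℕ) ∧ 4 ≤ ((g c : Fin n) : ℕ) := by
  by_contra h
  push Not at h
  let φ : Fin 5 → Fin 4 := fun i => ⟨(g ⟨i.val + 4, by omega⟩ : Fin n).val,
    h _ (Nat.le_add_left 4 i.val)⟩
  have hinj : Function.Injective φ := by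
    intro i j hij
    have h1 : (φ i).val = (φ j).val := congrArg Fin.val hij
    have h2 := g.injective (Fin.ext h1)
    have h3 : i.val + 4 = j.val + 4 := congrArg Fin.val h2
    exact Fin.ext (by omega)
  have := Fintype.card_le_of_injective φ hinj
  simp at this

/-- Membership in the centralizer of the stabilizer. -/
theorem mem_centralizer_stab4 (h4 : 4 ≤ n) (hn : 9 ≤ n) (σ : alternatingGroup (Fin n)) :
    σ ∈ Subgroup.centralizer (stab4 n h4 : Set (alternatingGroup (Fin n))) ↔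
      ∀ x : Fin n, 4 ≤ (x : ℕ) → (σ : Perm (Fin n)) x = x := by
  constructor
  · intro hσ x hx
    by_contra hne
    obtain ⟨a, b, ha, hb, hab, hax, hay, hbx, hby⟩ :=
      exists_two_high hn x ((σ : Perm (Fin n)) x)
    have hτ := cyc3_mem_stab4 h4 x a b (Ne.symm hax) hab hx ha hb
    have hcomm := Subgroup.mem_centralizer_iff.mp hσ _ hτ
    have h1 : (cyc3 x a b (Ne.symm hax) hab : Perm (Fin n)) ((σ : Perm (Fin n)) x) =
        (σ : Perm (Fin n)) ((cyc3 x a b (Ne.symm hax) hab : Perm (Fin n)) x) := by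
      have h2 := congrArg (fun ρ : alternatingGroup (Fin n) => (ρ : Perm (Fin n)) x) hcomm
      exact h2
    rw [cyc3_apply_self x a b (Ne.symm hax) hab (Ne.symm hbx),
      cyc3_apply_of_ne x a b (Ne.symm hax) hab _ hne (Ne.symm hay) (Ne.symm hby)] at h1
    exact hax ((σ : Perm (Fin n)).injective h1).symm
  · intro hσ
    rw [Subgroup.mem_centralizer_iff]
    intro τ hτ'
    have hτ := (mem_stab4 h4 τ).mp hτ'
    have hdis : Perm.Disjoint (τ : Perm (Fin n)) (σ : Perm (Fin n)) := by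
      intro x
      by_cases hx : (x : ℕ) < 4
      · exact Or.inl (hτ x hx)
      · exact Or.inr (hσ x (not_lt.mp hx))
    exact Subtype.ext hdis.commute.eq

/-- The identification of `Fin 4` with the points `< 4`. -/
def lowEquiv (h4 : 4 ≤ n) : Fin 4 ≃ {x : Fin n // (x : ℕ) < 4} where
  toFun i := ⟨Fin.castLE h4 i, by simp⟩
  invFun x := ⟨x.1.val, x.2⟩
  left_inv i := by ext; simp
  right_inv x := by ext; simp

/-- Extension of permutations of `Fin 4` to `Fin n`. -/
def extHom (h4 : 4 ≤ n) : Perm (Fin 4) →* Perm (Fin n) := Equiv.Perm.extendDomainHom (lowEquiv h4)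

theorem extHom_apply_low (h4 : 4 ≤ n) (π : Perm (Fin 4)) (i : Fin 4) :
    extHom h4 π (Fin.castLE h4 i) = Fin.castLE h4 (π i) := by
  have := Perm.extendDomain_apply_image π (lowEquiv h4) i
  exact this

theorem extHom_apply_high (h4 : 4 ≤ n) (π : Perm (Fin 4)) (x : Fin n) (hx : 4 ≤ (x : ℕ)) :
    extHom h4 π x = x :=
  Perm.extendDomain_apply_not_subtype π (lowEquiv h4) (not_lt.mpr hx)

theorem sign_extHom (h4 : 4 ≤ n) (π : Perm (Fin 4)) : Perm.sign (extHom h4 π) = Perm.sign π :=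
  Perm.sign_extendDomain π (lowEquiv h4)

theorem exists_extHom (h4 : 4 ≤ n) (ρ : Perm (Fin n)) (hρ : ∀ x : Fin n, 4 ≤ (x : ℕ) → ρ x = x) :
    ∃ π : Perm (Fin 4), extHom h4 π = ρ := by
  have hpres : Pres ρ := by
    intro x hx
    by_contra hlt
    push Not at hlt
    have h1 := hρ (ρ x) hlt
    have h2 := ρ.injective h1
    rw [h2] at hlt
    omega
  have hpres' : Pres ρ⁻¹ := pres_inv hpres
  let π : Perm (Fin 4) :=
    { toFun := fun i => ⟨(ρ (Fin.castLE h4 i)).val, hpres _ (by simp)⟩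
      invFun := fun i => ⟨(ρ⁻¹ (Fin.castLE h4 i)).val, hpres' _ (by simp)⟩
      left_inv := by
        intro i
        apply Fin.ext
        have h1 : Fin.castLE h4 ⟨(ρ (Fin.castLE h4 i)).val, hpres _ (by simp)⟩ =
            ρ (Fin.castLE h4 i) := Fin.ext rfl
        show (ρ⁻¹ (Fin.castLE h4 ⟨(ρ (Fin.castLE h4 i)).val, hpres _ (by simp)⟩)).val = i.val
        rw [h1, inv_apply_self']
        rfl
      right_inv := by
        intro i
        apply Fin.ext
        have h1 : Fin.castLE h4 ⟨(ρ⁻¹ (Fin.castLE h4 i)).val, hpres' _ (by simp)⟩ =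
            ρ⁻¹ (Fin.castLE h4 i) := Fin.ext rfl
        show (ρ (Fin.castLE h4 ⟨(ρ⁻¹ (Fin.castLE h4 i)).val, hpres' _ (by simp)⟩)).val = i.val
        rw [h1, apply_inv_self']
        rfl }
  refine ⟨π, ?_⟩
  ext x
  by_cases hx : (x : ℕ) < 4
  · have hx' : Fin.castLE h4 ⟨(x : ℕ), hx⟩ = x := Fin.ext rfl
    rw [← hx', extHom_apply_low]
    rfl
  · rw [extHom_apply_high h4 π x (not_lt.mp hx), hρ x (not_lt.mp hx)]

theorem decide_cube : ∀ π : Perm (Fin 4), Perm.sign π = 1 → ∀ d : Fin 4, π d = d → π ^ 3 = 1 := by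
  decide

theorem decide_move : ∀ d : Fin 4, ∃ π : Perm (Fin 4), Perm.sign π = 1 ∧ π d ≠ d := by
  decide

theorem pres_mem_normalizer_C (h4 : 4 ≤ n) (hn : 9 ≤ n) (g : alternatingGroup (Fin n))
    (hg : Pres (g : Perm (Fin n))) :
    g ∈ Subgroup.normalizer ((Subgroup.centralizer (stab4 n h4 : Set (alternatingGroup (Fin n))) :
      Subgroup (alternatingGroup (Fin n))) : Set (alternatingGroup (Fin n))) := by
  rw [Subgroup.mem_normalizer_iff]
  intro σ
  rw [mem_centralizer_stab4 h4 hn, mem_centralizer_stab4 h4 hn]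
  constructor
  · intro hσ x hx
    show (g : Perm (Fin n)) ((σ : Perm (Fin n)) ((g : Perm (Fin n))⁻¹ x)) = x
    rw [hσ _ (pres_high (pres_inv hg) x hx), apply_inv_self']
  · intro hσ x hx
    have h1 : (g : Perm (Fin n)) ((σ : Perm (Fin n)) ((g : Perm (Fin n))⁻¹ ((g : Perm (Fin n)) x))) =
        (g : Perm (Fin n)) x := hσ _ (pres_high hg x hx)
    rw [inv_apply_self'] at h1
    exact (g : Perm (Fin n)).injective h1

theorem pres_mem_normalizer_L (h4 : 4 ≤ n) (g : alternatingGroup (Fin n))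
    (hg : Pres (g : Perm (Fin n))) :
    g ∈ Subgroup.normalizer (stab4 n h4 : Set (alternatingGroup (Fin n))) := by
  rw [Subgroup.mem_normalizer_iff]
  intro σ
  rw [mem_stab4, mem_stab4]
  constructor
  · intro hσ x hx
    show (g : Perm (Fin n)) ((σ : Perm (Fin n)) ((g : Perm (Fin n))⁻¹ x)) = x
    rw [hσ _ (pres_inv hg x hx), apply_inv_self']
  · intro hσ x hx
    have h1 : (g : Perm (Fin n)) ((σ : Perm (Fin n)) ((g : Perm (Fin n))⁻¹ ((g : Perm (Fin n)) x))) =
        (g : Perm (Fin n)) x := hσ _ (hg x hx)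
    rw [inv_apply_self'] at h1
    exact (g : Perm (Fin n)).injective h1

theorem not_pres_not_mem_normalizer_C (h4 : 4 ≤ n) (hn : 9 ≤ n) (g : alternatingGroup (Fin n))
    (hg : ¬ Pres (g : Perm (Fin n))) :
    g ∉ Subgroup.normalizer ((Subgroup.centralizer (stab4 n h4 : Set (alternatingGroup (Fin n))) :
      Subgroup (alternatingGroup (Fin n))) : Set (alternatingGroup (Fin n))) := by
  intro hmem
  unfold Pres at hg
  push Not at hg
  obtain ⟨x, hx, hgx⟩ := hg
  obtain ⟨π, hπs, hπx⟩ := decide_move ⟨(x : ℕ), hx⟩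
  have hx' : Fin.castLE h4 ⟨(x : ℕ), hx⟩ = x := Fin.ext rfl
  let σ : alternatingGroup (Fin n) :=
    ⟨extHom h4 π, Perm.mem_alternatingGroup.mpr (by rw [sign_extHom, hπs])⟩
  have hσC : σ ∈ Subgroup.centralizer (stab4 n h4 : Set (alternatingGroup (Fin n))) :=
    (mem_centralizer_stab4 h4 hn σ).mpr (fun y hy => extHom_apply_high h4 π y hy)
  have h1 := (Subgroup.mem_normalizer_iff.mp hmem σ).mp hσC
  rw [mem_centralizer_stab4 h4 hn] at h1
  have h2 : (g : Perm (Fin n)) ((σ : Perm (Fin n)) ((g : Perm (Fin n))⁻¹ ((g : Perm (Fin n)) x))) =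
      (g : Perm (Fin n)) x := h1 _ hgx
  rw [inv_apply_self'] at h2
  have h3 : extHom h4 π x = x := (g : Perm (Fin n)).injective h2
  rw [← hx', extHom_apply_low] at h3
  exact hπx (Fin.castLE_injective h4 h3)

theorem quasisimple_alt {α : Type*} [Fintype α] [DecidableEq α] (h5 : 5 ≤ Nat.card α) :
    Cfsg.IsQuasisimple (alternatingGroup α) := by
  haveI := alternatingGroup.isSimpleGroup h5
  refine ⟨⟨commutator_alternatingGroup_eq_top h5⟩, ?_⟩
  have hc : Subgroup.center (alternatingGroup α) = ⊥ := alternatingGroup.center_eq_bot (by omega)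
  exact MulEquiv.isSimpleGroup
    ((QuotientGroup.quotientMulEquivOfEq hc).trans QuotientGroup.quotientBot)

theorem quasisimple_stab4 (h4 : 4 ≤ n) (hn : 9 ≤ n) : Cfsg.IsQuasisimple ↥(stab4 n h4) := by
  classical
  let Q : Fin n → Prop := fun x => 4 ≤ (x : ℕ)
  have h5 : 5 ≤ Nat.card (Subtype Q) := by
    rw [Nat.card_eq_fintype_card]
    let f : Fin 5 → Subtype Q := fun i => ⟨⟨i.val + 4, by omega⟩, Nat.le_add_left 4 i.val⟩
    have hf : Function.Injective f := by
      intro i j hij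
      have h1 : i.val + 4 = j.val + 4 := congrArg (fun t : Subtype Q => (t.1 : ℕ)) hij
      exact Fin.ext (by omega)
    simpa using Fintype.card_le_of_injective f hf
  let ψ₀ : alternatingGroup (Subtype Q) →* Perm (Fin n) :=
    (Perm.ofSubtype).comp (alternatingGroup (Subtype Q)).subtype
  have hψ₀ : ∀ τ, ψ₀ τ ∈ alternatingGroup (Fin n) := fun τ => by
    rw [Perm.mem_alternatingGroup]
    show Perm.sign (Perm.ofSubtype (τ : Perm (Subtype Q))) = 1
    rw [Perm.sign_ofSubtype]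
    exact Perm.mem_alternatingGroup.mp τ.2
  let ψ : alternatingGroup (Subtype Q) →* alternatingGroup (Fin n) := ψ₀.codRestrict _ hψ₀
  have hinj : Function.Injective ψ := by
    intro a b hab
    have h1 : Perm.ofSubtype (a : Perm (Subtype Q)) = Perm.ofSubtype (b : Perm (Subtype Q)) :=
      congrArg Subtype.val hab
    exact Subtype.ext (Perm.ofSubtype_injective h1)
  have hrange : ψ.range = stab4 n h4 := by
    ext σ
    rw [mem_stab4]
    constructor
    · rintro ⟨τ, rfl⟩ x hx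
      show Perm.ofSubtype (τ : Perm (Subtype Q)) x = x
      exact Perm.ofSubtype_apply_of_not_mem _ (not_le.mpr hx)
    · intro hσ
      have hpres : Pres (σ : Perm (Fin n)) := fun x hx => by rw [hσ x hx]; exact hx
      have h₁ : ∀ x, Q ((σ : Perm (Fin n)) x) ↔ Q x := by
        intro x
        constructor
        · intro h
          by_contra hx
          have hx' : (x : ℕ) < 4 := not_le.mp hx
          rw [hσ x hx'] at h
          exact hx h
        · intro h
          exact pres_high hpres x h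
      have h₂ : ∀ x, (σ : Perm (Fin n)) x ≠ x → Q x := by
        intro x hx
        by_contra hq
        exact hx (hσ x (not_le.mp hq))
      have hsub : Perm.ofSubtype (Perm.subtypePerm (σ : Perm (Fin n)) h₁) = σ :=
        Perm.ofSubtype_subtypePerm h₁ h₂
      refine ⟨⟨Perm.subtypePerm σ h₁, ?_⟩, Subtype.ext hsub⟩
      rw [Perm.mem_alternatingGroup, ← Perm.sign_ofSubtype, hsub]
      exact Perm.mem_alternatingGroup.mp σ.2
  exact Cfsg.Agent.H36.isQuasisimple_of_mulEquiv
    ((MonoidHom.ofInjective hinj).trans (MulEquiv.subgroupCongr hrange)) (quasisimple_alt h5)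

theorem tight_stab4 (h4 : 4 ≤ n) (hn : 9 ≤ n) :
    Cfsg.IsTightlyEmbedded (Subgroup.centralizer (stab4 n h4 : Set (alternatingGroup (Fin n)))) := by
  refine ⟨?_, ?_⟩
  · -- an involution
    let π₀ : Perm (Fin 4) := swap 0 1 * swap 2 3
    have hs : Perm.sign (extHom h4 π₀) = 1 := by
      rw [sign_extHom]; decide
    let t : alternatingGroup (Fin n) := ⟨extHom h4 π₀, Perm.mem_alternatingGroup.mpr hs⟩
    have htC : t ∈ Subgroup.centralizer (stab4 n h4 : Set (alternatingGroup (Fin n))) :=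
      (mem_centralizer_stab4 h4 hn t).mpr (fun y hy => extHom_apply_high h4 π₀ y hy)
    have ht2 : orderOf (⟨t, htC⟩ : Subgroup.centralizer
        (stab4 n h4 : Set (alternatingGroup (Fin n)))) = 2 := by
      haveI : Fact (Nat.Prime 2) := ⟨Nat.prime_two⟩
      apply orderOf_eq_prime
      · apply Subtype.ext
        apply Subtype.ext
        show (extHom h4 π₀) ^ 2 = 1
        rw [← map_pow]
        have : π₀ ^ 2 = 1 := by decide
        rw [this, map_one]
      · intro h
        have h1 : extHom h4 π₀ = 1 := congrArg (fun z : Subgroup.centralizer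
          (stab4 n h4 : Set (alternatingGroup (Fin n))) => ((z : alternatingGroup (Fin n)) :
            Perm (Fin n))) h
        have h2 : π₀ = 1 := by
          apply Equiv.Perm.extendDomainHom_injective (lowEquiv h4)
          rw [map_one]; exact h1
        revert h2
        decide
    have hdvd := orderOf_dvd_natCard (⟨t, htC⟩ : Subgroup.centralizer
        (stab4 n h4 : Set (alternatingGroup (Fin n))))
    rw [ht2] at hdvd
    exact even_iff_two_dvd.mpr hdvd
  · intro g hg
    have hnp : ¬ Pres (g : Perm (Fin n)) := fun hp => hg (pres_mem_normalizer_C h4 hn g hp)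
    have hnp' : ¬ Pres (g : Perm (Fin n))⁻¹ := by
      intro hp
      apply hnp
      have := pres_inv hp
      rwa [inv_inv] at this
    unfold Pres at hnp'
    push Not at hnp'
    obtain ⟨d, hd, hgd⟩ := hnp'
    have hd' : Fin.castLE h4 ⟨(d : ℕ), hd⟩ = d := Fin.ext rfl
    have hcube : ∀ ρ : alternatingGroup (Fin n),
        ρ ∈ (Subgroup.centralizer (stab4 n h4 : Set (alternatingGroup (Fin n))) ⊓
          (Subgroup.centralizer (stab4 n h4 : Set (alternatingGroup (Fin n)))).map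
            (MulAut.conj g).toMonoidHom) → ρ ^ 3 = 1 := by
      rintro ρ ⟨hρ1', σ, hσ', rfl⟩
      have hρ1 := (mem_centralizer_stab4 h4 hn _).mp hρ1'
      have hσ := (mem_centralizer_stab4 h4 hn _).mp hσ'
      obtain ⟨π, hπ⟩ := exists_extHom h4 _ hρ1
      have hfix : ((MulAut.conj g).toMonoidHom σ : Perm (Fin n)) d = d := by
        show (g : Perm (Fin n)) ((σ : Perm (Fin n)) ((g : Perm (Fin n))⁻¹ d)) = d
        rw [hσ _ hgd, apply_inv_self']
      have hπs : Perm.sign π = 1 := by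
        rw [← sign_extHom h4, hπ]
        exact Perm.mem_alternatingGroup.mp ((MulAut.conj g).toMonoidHom σ).2
      have hπd : π ⟨(d : ℕ), hd⟩ = ⟨(d : ℕ), hd⟩ := by
        rw [← hπ, ← hd', extHom_apply_low] at hfix
        exact Fin.castLE_injective h4 hfix
      have h3 := decide_cube π hπs _ hπd
      apply Subtype.ext
      show (((MulAut.conj g).toMonoidHom σ : alternatingGroup (Fin n)) : Perm (Fin n)) ^ 3 = 1
      rw [← hπ, ← map_pow, h3, map_one]
    haveI : Fact (Nat.Prime 3) := ⟨Nat.prime_three⟩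
    have hp3 : IsPGroup 3 ↥(Subgroup.centralizer (stab4 n h4 : Set (alternatingGroup (Fin n))) ⊓
          (Subgroup.centralizer (stab4 n h4 : Set (alternatingGroup (Fin n)))).map
            (MulAut.conj g).toMonoidHom) := by
      intro ρ
      refine ⟨1, ?_⟩
      rw [pow_one]
      exact Subtype.ext (hcube ρ.1 ρ.2)
    obtain ⟨k, hk⟩ := IsPGroup.iff_card.mp hp3
    rw [hk]
    exact Odd.pow (by decide)

theorem comm_ne_stab4 (h4 : 4 ≤ n) (hn : 9 ≤ n) (g : alternatingGroup (Fin n))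
    (hg : (stab4 n h4).map (MulAut.conj g).toMonoidHom ≠ stab4 n h4) :
    ⁅stab4 n h4, (stab4 n h4).map (MulAut.conj g).toMonoidHom⁆ ≠ ⊥ := by
  have hnp : ¬ Pres (g : Perm (Fin n)) := by
    intro hp
    exact hg (Cfsg.Agent.H27.mem_normalizer_iff_map_conj_eq.mp (pres_mem_normalizer_L h4 g hp))
  unfold Pres at hnp
  push Not at hnp
  obtain ⟨x, hx, hgx⟩ := hnp
  obtain ⟨c, hc, hc'⟩ := exists_high_high hn (g : Perm (Fin n))⁻¹
  set y : Fin n := (g : Perm (Fin n)) x with hy
  set c' : Fin n := (g : Perm (Fin n))⁻¹ c with hc'def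
  have hcy : c ≠ y := by
    intro h
    have h1 : c' = x := by rw [hc'def, h, hy, inv_apply_self']
    rw [h1] at hc'
    omega
  obtain ⟨b, _, hb, _, _, hbc, hby, _, _⟩ := exists_two_high hn c y
  obtain ⟨a', b', ha', hb', hab', ha'c, -, hb'c, -⟩ := exists_two_high hn c' c'
  let τ₁ := cyc3 c y b hcy (Ne.symm hby)
  have hτ₁ : τ₁ ∈ stab4 n h4 := cyc3_mem_stab4 h4 c y b hcy (Ne.symm hby) hc hgx hb
  let τ₂ := cyc3 c' a' b' (Ne.symm ha'c) hab'
  have hτ₂ : τ₂ ∈ stab4 n h4 := cyc3_mem_stab4 h4 c' a' b' (Ne.symm ha'c) hab' hc' ha' hb'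
  have hρ : (MulAut.conj g).toMonoidHom τ₂ ∈ (stab4 n h4).map (MulAut.conj g).toMonoidHom :=
    Subgroup.mem_map_of_mem _ hτ₂
  intro hbot
  have hmem := Subgroup.commutator_mem_commutator hτ₁ hρ
  rw [hbot, Subgroup.mem_bot, commutatorElement_eq_one_iff_mul_comm] at hmem
  have h1 : (τ₁ : Perm (Fin n)) ((g : Perm (Fin n)) ((τ₂ : Perm (Fin n)) ((g : Perm (Fin n))⁻¹ c))) =
      (g : Perm (Fin n)) ((τ₂ : Perm (Fin n)) ((g : Perm (Fin n))⁻¹ ((τ₁ : Perm (Fin n)) c))) := by
    have h2 := congrArg (fun ρ : alternatingGroup (Fin n) => (ρ : Perm (Fin n)) c) hmem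
    exact h2
  have e1 : (τ₂ : Perm (Fin n)) c' = a' := cyc3_apply_self c' a' b' (Ne.symm ha'c) hab' (Ne.symm hb'c)
  have e2 : (τ₁ : Perm (Fin n)) c = y := cyc3_apply_self c y b hcy (Ne.symm hby) (Ne.symm hbc)
  have e3 : (g : Perm (Fin n))⁻¹ y = x := by rw [hy, inv_apply_self']
  have e4 : (τ₂ : Perm (Fin n)) x = x := (mem_stab4 h4 τ₂).mp hτ₂ x hx
  rw [← hc'def, e1, e2, e3, e4, ← hy, ← e2] at h1
  have h3 := (τ₁ : Perm (Fin n)).injective h1
  have h4' : a' = c' := by rw [hc'def, ← h3, inv_apply_self']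
  exact ha'c h4'

/-- For `n ≥ 9`, the pointwise stabilizer of four points in `A_n` is a standard subgroup. -/
theorem isStandard_stab4 (n : ℕ) (h4 : 4 ≤ n) (hn : 9 ≤ n) :
    Cfsg.IsStandardSubgroup (⨅ i : Fin 4, MulAction.stabilizer ↥(alternatingGroup (Fin n))
      (Fin.castLE h4 i : Fin n)) := by
  refine ⟨quasisimple_stab4 h4 hn, tight_stab4 h4 hn, comm_ne_stab4 h4 hn, ?_⟩
  apply le_antisymm (Cfsg.Agent.H28.normalizer_le_normalizer_centralizer _)
  intro g hg
  by_contra hgL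
  have hnp : ¬ Pres (g : Perm (Fin n)) := fun hp => hgL (pres_mem_normalizer_L h4 g hp)
  exact not_pres_not_mem_normalizer_C h4 hn g hnp hg

end Cfsg.Agent.H28.AltStd
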