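import Mathlib
import Cfsg.Agent.H49.FieldAutCyc

set_option autoImplicit false

/-!
# P-FIELD, Mathlib half (S2607 team project, helper96)

The automorphism group of a field with `2 ^ f` elements is cyclic of order `f`.
-/

namespace Cfsg.Agent.H28.D4

universe u

theorem ringAut_zmod (F : Type u) [Field F] [Finite F] (f : ℕ) (hF : Nat.card F = 2 ^ f) :
    Nonempty ((F ≃+* F) ≃* Multiplicative (ZMod f)) := by
  classical
  haveI : Fintype F := Fintype.ofFinite F
  haveI : Fact (Nat.Prime 2) := ⟨Nat.prime_two⟩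
  have hf : 1 ≤ f := by
    rcases Nat.eq_zero_or_pos f with h0 | h0
    · exfalso
      rw [h0, pow_zero] at hF
      have := Finite.one_lt_card (α := F)
      omega
    · exact h0
  have hF' : Fintype.card F = 2 ^ f := by rw [← Nat.card_eq_fintype_card, hF]
  obtain ⟨hC, hcard⟩ := Cfsg.Agent.H49.ringAut_card (F := F) 2 f hf hF'
  subst hcard
  exact ⟨(zmodCyclicMulEquiv hC).symm⟩

end Cfsg.Agent.H28.D4

#print axioms Cfsg.Agent.H28.D4.ringAut_zmod
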