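import Mathlib
import Cfsg.Agent.H86.GsDefs

set_option autoImplicit false

/-!
# GS-Z (S5665 team project, helper86): the key step

If `M ≤ Sp` contains the torus maps, `g ∈ M`, `e`, `e₁` are good and `g e` is `K`-orthogonal to
`e₁`, then the projection of `g (J e)` to the `K`-line of `e₁` is the centre of a full
transvection group in `M`.
-/

namespace Cfsg.Agent.H28.Gs

open Cfsg Cfsg.Geo Cfsg.Agent.H95 Cfsg.Agent.H86.Gs
open scoped MatrixGroups Matrix

universe u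

section Z

variable {m : ℕ} {F : Type*} [Field F]

lemma zTransv_add (z : V m F) (d d' : F) :
    sympTransv z (d + d') = sympTransv z d * sympTransv z d' := by
  apply Units.ext
  apply Cfsg.Agent.H17.matrix_ext_mulVec
  intro x
  rw [Units.val_mul, ← Matrix.mulVec_mulVec]
  simp only [sympTransv_mulVec, sympForm_add_left, sympForm_smul_left, sympForm_self, mul_zero,
    add_zero]
  module

lemma zTransv_zero (z : V m F) : sympTransv z (0 : F) = 1 := by
  apply Units.ext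
  apply Cfsg.Agent.H17.matrix_ext_mulVec
  intro x
  rw [sympTransv_mulVec, Units.val_one, Matrix.one_mulVec, zero_mul, zero_smul, add_zero]

/-- The additive group of parameters `d` with `sympTransv z d ∈ M`. -/
noncomputable def zSub (M : Subgroup (GL (Fin m ⊕ Fin m) F)) (z : V m F) : AddSubgroup F where
  carrier := {d | sympTransv z d ∈ M}
  zero_mem' := by
    show sympTransv z 0 ∈ M
    rw [zTransv_zero]; exact M.one_mem
  add_mem' := by
    intro d d' hd hd'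
    show sympTransv z (d + d') ∈ M
    rw [zTransv_add]; exact M.mul_mem hd hd'
  neg_mem' := by
    intro d hd
    show sympTransv z (-d) ∈ M
    have h : sympTransv z (-d) = (sympTransv z d)⁻¹ := by
      rw [eq_inv_iff_mul_eq_one, ← zTransv_add, neg_add_cancel, zTransv_zero]
    rw [h]; exact M.inv_mem hd

/-- The conjugate of a torus map by `g ∈ Sp`, in terms of `P = g e`, `Q = g (J e)`. -/
lemma conj_tor {J : Mat m F} {δ : F} (C : Ctx J δ) {g c' : GL (Fin m ⊕ Fin m) F}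
    (hg : g ∈ spGL m F) {e : V m F} {α β : F} {P Q : V m F}
    (hP : (g : Mat m F) *ᵥ e = P) (hQ : (g : Mat m F) *ᵥ (J *ᵥ e) = Q)
    (hc' : ∀ x : V m F, (c' : Mat m F) *ᵥ x = tor J e α β x) (x : V m F) :
    ((g * c' * g⁻¹ : GL (Fin m ⊕ Fin m) F) : Mat m F) *ᵥ x
      = x + ((α - 1) • (psi J e)⁻¹ • (sympForm m F x Q • P - sympForm m F x P • Q)
          + β • (psi J e)⁻¹ • (sympForm m F x Q • Q + (δ * sympForm m F x P) • P)) := by
  have hJJ : J *ᵥ (J *ᵥ e) = -(δ • e) := C.sq e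
  have hgi : (g : Mat m F) *ᵥ (((g⁻¹ : GL (Fin m ⊕ Fin m) F) : Mat m F) *ᵥ x) = x := by
    rw [Matrix.mulVec_mulVec, ← Units.val_mul, mul_inv_cancel, Units.val_one, Matrix.one_mulVec]
  rw [Units.val_mul, Units.val_mul, ← Matrix.mulVec_mulVec, ← Matrix.mulVec_mulVec, hc']
  unfold tor proj
  simp only [spGL_inv_form hg, hP, hQ, Matrix.mulVec_add, Matrix.mulVec_smul, Matrix.mulVec_sub,
    Matrix.mulVec_neg, hgi, hJJ]
  module

/-- Two Heisenberg elements at `z` in `M` give a transvection at `z` in `M`. -/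
lemma transv_of_pair {M : Subgroup (GL (Fin m ⊕ Fin m) F)} {z w w' : V m F} {γ γ' : F}
    {g₁ g₂ : GL (Fin m ⊕ Fin m) F} (hg₁ : g₁ ∈ M) (hg₂ : g₂ ∈ M)
    (e₁ : ∀ x : V m F, (g₁ : Mat m F) *ᵥ x = spS z w γ x)
    (e₂ : ∀ x : V m F, (g₂ : Mat m F) *ᵥ x = spS z w' γ' x)
    (hw : sympForm m F z w = 0) (hw' : sympForm m F z w' = 0) :
    sympTransv z (-(2 * sympForm m F w w')) ∈ M := by
  have key : g₁ * g₂ = g₂ * g₁ * sympTransv z (-(2 * sympForm m F w w')) := by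
    apply Units.ext
    apply Cfsg.Agent.H17.matrix_ext_mulVec
    intro x
    have L : ((g₁ * g₂ : GL (Fin m ⊕ Fin m) F) : Mat m F) *ᵥ x
        = spS z (w + w') (γ + γ' + sympForm m F w' w) x := by
      rw [Units.val_mul, ← Matrix.mulVec_mulVec, e₂, e₁]
      exact spS_comp z _ _ γ γ' x hw hw'
    have R : ((g₂ * g₁ * sympTransv z (-(2 * sympForm m F w w')) : GL (Fin m ⊕ Fin m) F) :
        Mat m F) *ᵥ x
        = spS z (w' + w) (γ' + (γ + -(2 * sympForm m F w w')) + sympForm m F w w') x := by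
      rw [Units.val_mul, Units.val_mul, ← Matrix.mulVec_mulVec, ← Matrix.mulVec_mulVec,
        sympTransv_mulVec, e₁, e₂, spS_transv z _ γ _ x hw]
      exact spS_comp z _ _ γ' _ x hw' hw
    rw [L, R, add_comm w' w, sympForm_skew w' w]
    congr 1
    ring
  have e3 : sympTransv z (-(2 * sympForm m F w w')) = (g₂ * g₁)⁻¹ * (g₁ * g₂) := by
    rw [key]; group
  rw [e3]
  exact M.mul_mem (M.inv_mem (M.mul_mem hg₂ hg₁)) (M.mul_mem hg₁ hg₂)

/-- Conjugating a Heisenberg element at `z` by an element of `Sp` fixing `z`. -/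
lemma conj_spS {c u : GL (Fin m ⊕ Fin m) F} (hc : c ∈ spGL m F) {z w : V m F} {γ : F}
    (hz : (c : Mat m F) *ᵥ z = z)
    (hu : ∀ x : V m F, (u : Mat m F) *ᵥ x = spS z w γ x) (x : V m F) :
    ((c * u * c⁻¹ : GL (Fin m ⊕ Fin m) F) : Mat m F) *ᵥ x
      = spS z ((c : Mat m F) *ᵥ w) γ x := by
  rw [Units.val_mul, Units.val_mul, ← Matrix.mulVec_mulVec, ← Matrix.mulVec_mulVec, hu]
  unfold spS
  simp only [Matrix.mulVec_add, Matrix.mulVec_smul, spGL_inv_form hc, hz]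
  rw [Matrix.mulVec_mulVec, ← Units.val_mul, mul_inv_cancel, Units.val_one, Matrix.one_mulVec]

end Z

theorem gsZ (hTor : Cfsg.Agent.H86.Gs.StTor.{u}) (hHeis : Cfsg.Agent.H86.Gs.StHeis.{u})
    (hAdd : Cfsg.Agent.H86.Gs.StAdd.{u}) : Cfsg.Agent.H86.Gs.StZ.{u} := by
  intro m F _ _ J δ C M hM hTorM g hgM e e₁ hψ0 hψ₁ H1 H2
  classical
  have hg : g ∈ spGL m F := hM hgM
  have h2 : (2 : F) ≠ 0 := C.two
  have hδ : δ ≠ 0 := C.delta_ne
  have h1δ' : (1 : F) * 1 + δ ≠ 0 := C.irr 1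
  have h1δ : (1 : F) + δ ≠ 0 := by simpa using h1δ'
  obtain ⟨P, hP⟩ : ∃ P : V m F, (g : Mat m F) *ᵥ e = P := ⟨_, rfl⟩
  obtain ⟨Q, hQ⟩ : ∃ Q : V m F, (g : Mat m F) *ᵥ (J *ᵥ e) = Q := ⟨_, rfl⟩
  rw [hP] at H1 H2
  rw [hQ]
  obtain ⟨ψ, hψdef⟩ : ∃ ψ : F, psi J e = ψ := ⟨_, rfl⟩
  have hψ : ψ ≠ 0 := by rw [← hψdef]; exact hψ0
  have hPQ : sympForm m F P Q = ψ := by
    rw [← hP, ← hQ, ← hψdef]
    exact (mem_spGL_iff g).mp hg e (J *ᵥ e)
  have hQP : sympForm m F Q P = -ψ := by rw [sympForm_skew, hPQ]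
  have hPP : sympForm m F P P = 0 := sympForm_self P
  have hQQ : sympForm m F Q Q = 0 := sympForm_self Q
  obtain ⟨a, ha⟩ : ∃ a : V m F, a = ψ⁻¹ • Q := ⟨_, rfl⟩
  obtain ⟨y, hy⟩ : ∃ y : V m F, y = proj J e₁ Q := ⟨_, rfl⟩
  obtain ⟨z, hz⟩ : ∃ z : V m F, z = (2 * ψ⁻¹) • y := ⟨_, rfl⟩
  rw [← hy]
  have hPa : sympForm m F P a = 1 := by
    rw [ha, sympForm_smul_right, hPQ, inv_mul_cancel₀ hψ]
  have hyQ : sympForm m F y Q = 0 := by
    rw [hy]; unfold proj
    simp only [sympForm_smul_left, sympForm_sub_left]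
    rw [sympForm_skew e₁ Q, sympForm_skew (J *ᵥ e₁) Q]
    ring
  have hyP : sympForm m F y P = 0 := by
    rw [hy]; unfold proj
    simp only [sympForm_smul_left, sympForm_sub_left]
    rw [sympForm_skew e₁ P, sympForm_skew (J *ᵥ e₁) P, H1, H2]
    ring
  have hzP : sympForm m F z P = 0 := by rw [hz, sympForm_smul_left, hyP, mul_zero]
  have hzQ : sympForm m F z Q = 0 := by rw [hz, sympForm_smul_left, hyQ, mul_zero]
  have hza : sympForm m F z a = 0 := by rw [ha, sympForm_smul_right, hzQ, mul_zero]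
  -- the reflection `n` in the `K`-line of `e₁`
  obtain ⟨n, hnSp, -, hn⟩ := hTor J δ C e₁ (-1) 0 hψ₁ (by ring)
  have hnM : n ∈ M := hTorM e₁ (-1) 0 hψ₁ (by ring) n hn
  have hprojP : proj J e₁ P = 0 := by
    unfold proj; rw [H1, H2]; simp
  have hnP : (n : Mat m F) *ᵥ P = P := by
    rw [hn P]; unfold tor; rw [hprojP]; simp
  have hna : (n : Mat m F) *ᵥ a = a - z := by
    rw [hn a, hz, hy, ha]; unfold tor proj
    simp only [sympForm_smul_left, zero_smul, add_zero]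
    module
  -- the conjugated torus family
  have hfam : ∀ t : F, ∃ c : GL (Fin m ⊕ Fin m) F, c ∈ M ∧ c ∈ spGL m F ∧
      (∀ x : V m F, (c : Mat m F) *ᵥ x
        = x + (((t * t - δ) / (t * t + δ) - 1) • ψ⁻¹ •
              (sympForm m F x Q • P - sympForm m F x P • Q)
          + (2 * t / (t * t + δ)) • ψ⁻¹ •
              (sympForm m F x Q • Q + (δ * sympForm m F x P) • P))) := by
    intro t
    have ht : t * t + δ ≠ 0 := C.irr t
    have hnorm : ((t * t - δ) / (t * t + δ)) * ((t * t - δ) / (t * t + δ))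
        + δ * (2 * t / (t * t + δ)) * (2 * t / (t * t + δ)) = 1 := by
      simp only [div_eq_mul_inv]
      have hi : (t * t + δ) * (t * t + δ)⁻¹ = 1 := mul_inv_cancel₀ ht
      linear_combination ((t * t + δ) * (t * t + δ)⁻¹ + 1) * hi
    obtain ⟨c', hc'Sp, -, hc'⟩ := hTor J δ C e _ _ hψ0 hnorm
    have hc'M : c' ∈ M := hTorM e _ _ hψ0 hnorm c' hc'
    refine ⟨g * c' * g⁻¹, M.mul_mem (M.mul_mem hgM hc'M) (M.inv_mem hgM),
      (spGL m F).mul_mem ((spGL m F).mul_mem hg hc'Sp) ((spGL m F).inv_mem hg), fun x => ?_⟩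
    rw [conj_tor C hg hP hQ hc' x, hψdef]
  -- facts about one member of the family
  have hfacts : ∀ (α β : F) (c : GL (Fin m ⊕ Fin m) F), c ∈ spGL m F →
      (∀ x : V m F, (c : Mat m F) *ᵥ x
        = x + ((α - 1) • ψ⁻¹ • (sympForm m F x Q • P - sympForm m F x P • Q)
          + β • ψ⁻¹ • (sympForm m F x Q • Q + (δ * sympForm m F x P) • P))) →
      (c : Mat m F) *ᵥ P = α • P + β • Q ∧ (c : Mat m F) *ᵥ Q = α • Q - (β * δ) • P ∧
      (c : Mat m F) *ᵥ z = z ∧
      ∀ x : V m F, ((n * c * n⁻¹ * c⁻¹ : GL (Fin m ⊕ Fin m) F) : Mat m F) *ᵥ x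
        = spS z (P - (α • P + β • Q)) (β * ψ) x := by
    intro α β c hcSp hc
    have hcP : (c : Mat m F) *ᵥ P = α • P + β • Q := by
      rw [hc P, hPP, hPQ]
      match_scalars <;> field_simp <;> ring
    have hcQ : (c : Mat m F) *ᵥ Q = α • Q - (β * δ) • P := by
      rw [hc Q, hQQ, hQP]
      match_scalars <;> field_simp <;> ring
    have hcz : (c : Mat m F) *ᵥ z = z := by
      rw [hc z, hzP, hzQ]
      simp
    refine ⟨hcP, hcQ, hcz, fun x => ?_⟩
    have hca : (c : Mat m F) *ᵥ a = α • a - (ψ⁻¹ * (β * δ)) • P := by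
      rw [ha, Matrix.mulVec_smul, hcQ]
      module
    have hform : ∀ x : V m F, (c : Mat m F) *ᵥ x
        = x + sympForm m F x a • ((c : Mat m F) *ᵥ P - P)
          - sympForm m F x P • ((c : Mat m F) *ᵥ a - a) := by
      intro x
      rw [hca, hcP, hc x, ha, sympForm_smul_right]
      module
    have h := hHeis P a z c n hcSp hnSp hPa hzP hza hform
      ⟨α, β * ψ, by rw [hcP, ha, smul_smul, mul_assoc, mul_inv_cancel₀ hψ, mul_one]⟩
      ⟨-(ψ⁻¹ * (β * δ)), α, by rw [hca]; module⟩ hnP hna x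
    rw [h, hcP]
    have hγ : sympForm m F P (α • P + β • Q) = β * ψ := by
      rw [sympForm_add_right, sympForm_smul_right, sympForm_smul_right, hPP, hPQ]
      ring
    rw [hγ]
  obtain ⟨c1, hc1M, hc1Sp, hc1⟩ := hfam 1
  obtain ⟨h1P, h1Q, h1z, -⟩ := hfacts _ _ c1 hc1Sp hc1
  have hS : ∀ t : F, (-(16 * δ * ψ / (1 * 1 + δ))) / (t * t + δ) ∈ zSub M z := by
    intro t
    have ht : t * t + δ ≠ 0 := C.irr t
    obtain ⟨c, hcM, hcSp, hc⟩ := hfam t
    obtain ⟨hcP, hcQ, hcz, hu⟩ := hfacts _ _ c hcSp hc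
    have huM : n * c * n⁻¹ * c⁻¹ ∈ M :=
      M.mul_mem (M.mul_mem (M.mul_mem hnM hcM) (M.inv_mem hnM)) (M.inv_mem hcM)
    have hu' := fun x => conj_spS hc1Sp h1z hu x
    have hu'M : c1 * (n * c * n⁻¹ * c⁻¹) * c1⁻¹ ∈ M :=
      M.mul_mem (M.mul_mem hc1M huM) (M.inv_mem hc1M)
    have hw : sympForm m F z (P - (((t * t - δ) / (t * t + δ)) • P + (2 * t / (t * t + δ)) • Q))
        = 0 := by
      simp only [sympForm_sub_right, sympForm_add_right, sympForm_smul_right, hzP, hzQ]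
      ring
    have hw' : sympForm m F z ((c1 : Mat m F) *ᵥ
        (P - (((t * t - δ) / (t * t + δ)) • P + (2 * t / (t * t + δ)) • Q))) = 0 := by
      simp only [Matrix.mulVec_sub, Matrix.mulVec_add, Matrix.mulVec_smul, h1P, h1Q,
        sympForm_sub_right, sympForm_add_right, sympForm_smul_right, hzP, hzQ]
      ring
    have hmem := transv_of_pair huM hu'M hu hu' hw hw'
    have heq : (-(16 * δ * ψ / (1 * 1 + δ))) / (t * t + δ)
        = -(2 * sympForm m F (P - (((t * t - δ) / (t * t + δ)) • P + (2 * t / (t * t + δ)) • Q))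
            ((c1 : Mat m F) *ᵥ
              (P - (((t * t - δ) / (t * t + δ)) • P + (2 * t / (t * t + δ)) • Q)))) := by
      simp only [Matrix.mulVec_sub, Matrix.mulVec_add, Matrix.mulVec_smul, h1P, h1Q,
        sympForm_sub_left, sympForm_sub_right, sympForm_add_left, sympForm_add_right,
        sympForm_smul_left, sympForm_smul_right, hPP, hQQ, hPQ, hQP, div_eq_mul_inv]
      have hi : (t * t + δ) * (t * t + δ)⁻¹ = 1 := mul_inv_cancel₀ ht
      linear_combination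
        (4 * ψ * (1 * 1 + δ)⁻¹ * ((t * t + δ) * (t * t + δ)⁻¹ - 1)) * hi
    show sympTransv z ((-(16 * δ * ψ / (1 * 1 + δ))) / (t * t + δ)) ∈ M
    rw [heq]
    exact hmem
  have h16 : (16 : F) ≠ 0 := by
    have e16 : (16 : F) = 2 * 2 * 2 * 2 := by norm_num
    rw [e16]
    exact mul_ne_zero (mul_ne_zero (mul_ne_zero h2 h2) h2) h2
  have hCne : -(16 * δ * ψ / (1 * 1 + δ)) ≠ 0 :=
    neg_ne_zero.mpr (div_ne_zero (mul_ne_zero (mul_ne_zero h16 hδ) hψ) h1δ')
  have hStop : zSub M z = ⊤ := hAdd h2 δ _ C.irr hCne (zSub M z) hS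
  have hzC : z ∈ transvCenters M := by
    intro d
    have hd : d ∈ zSub M z := by rw [hStop]; trivial
    exact hd
  have hyz : y = (ψ / 2) • z := by
    rw [hz, smul_smul]
    have e1 : ψ / 2 * (2 * ψ⁻¹) = 1 := by field_simp
    rw [e1, one_smul]
  rw [hyz]
  exact transvCenters_smul hzC _

example (hTor : Cfsg.Agent.H86.Gs.StTor.{u}) (hHeis : Cfsg.Agent.H86.Gs.StHeis.{u})
    (hAdd : Cfsg.Agent.H86.Gs.StAdd.{u}) : Cfsg.Agent.H86.Gs.StZ.{u} := gsZ hTor hHeis hAdd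

end Cfsg.Agent.H28.Gs

#print axioms Cfsg.Agent.H28.Gs.gsZ
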