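import Cfsg.Agent.H96.GuDefs

set_option autoImplicit false

/-!
# GU-FT (helper28, for helper96 / S5700; parallel take)

An isometry `g` mapping the `F[J]`-line of every singular vector into the `F[J]`-line of its image
normalises `F[J]`: the coefficients `(a_z, b_z)` in `g (J z) = a_z • g z + b_z • J (g z)` are
unique (GU-IND), coincide for singular `z`, `e` with `z + e` singular and `g e` outside the line
of `g z` (GU-IND, four independent vectors), hence are constant (GU-SNM gives a common `e`), and
the singular vectors span.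
-/

namespace Cfsg.Agent.H28.Gu

open Module Matrix Cfsg.Agent.H49 Cfsg.Agent.H95 Cfsg.Agent.H96.Gu

universe u

theorem ft (hInd : StInd.{u}) (hSNM : StSNM.{u}) : StFT.{u} := by
  intro ι _ _ F _ _ Q J t N C g hg
  -- comparison of the coefficients at `z` and `e`
  have cmp : ∀ z e : ι → F, Q z = 0 → Q e = 0 →
      QuadraticMap.polar (⇑Q) (act g z) (act g e) = 0 → act g z ≠ 0 →
      ¬ inK J (act g z) (act g e) → ∀ a b a' b' : F,
      act g (J z) = a • act g z + b • J (act g z) →
      act g (J e) = a' • act g e + b' • J (act g e) → a = a' ∧ b = b' := by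
    intro z e hz he hze hz0 hK a b a' b' h1 h2
    have hsum : Q (z + e) = 0 := by
      have h3 : QuadraticMap.polar (⇑Q) z e = 0 := by
        rw [← polar_act Q g]
        exact hze
      rw [Q_add', hz, he, h3]
      simp
    obtain ⟨a'', b'', h3⟩ := hg (z + e) hsum
    rw [map_add, act_add, act_add, map_add, h1, h2] at h3
    have h4 : (a - a'') • act g z + (b - b'') • J (act g z) + (a' - a'') • act g e
        + (b' - b'') • J (act g e) = 0 := by
      have h5 : a • act g z + b • J (act g z) + (a' • act g e + b' • J (act g e))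
          - (a'' • (act g z + act g e) + b'' • (J (act g z) + J (act g e))) = 0 := by
        rw [h3, sub_self]
      rw [← h5]
      module
    obtain ⟨e1, e2, e3, e4⟩ := (hInd Q J t N C (act g z) hz0).2 (act g e) hK _ _ _ _ h4
    exact ⟨(sub_eq_zero.mp e1).trans (sub_eq_zero.mp e3).symm,
      (sub_eq_zero.mp e2).trans (sub_eq_zero.mp e4).symm⟩
  -- a base point
  obtain ⟨z₀, hz₀, -, -, hz₀ne⟩ := hSNM Q J t N C 0 0
  have hz₀0 : z₀ ≠ 0 := by
    intro h
    apply hz₀ne 0 0 0 0
    rw [h]
    simp
  obtain ⟨a₀, b₀, h₀⟩ := hg z₀ hz₀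
  -- the coefficients are constant on the singular vectors
  have hsing : ∀ w : ι → F, Q w = 0 → act g (J w) = a₀ • act g w + b₀ • J (act g w) := by
    intro w hw
    by_cases hw0 : w = 0
    · rw [hw0, map_zero, act_zero]
      simp
    obtain ⟨aw, bw, hwab⟩ := hg w hw
    obtain ⟨e', he', he'z, he'w, he'ne⟩ := hSNM Q J t N C (act g z₀) (act g w)
    have hge : act g (act g⁻¹ e') = e' := act_act_inv g e'
    have hQe : Q (act g⁻¹ e') = 0 := by
      rw [Q_act]
      exact he'
    obtain ⟨ae, be, heab⟩ := hg (act g⁻¹ e') hQe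
    have c1 := cmp z₀ (act g⁻¹ e') hz₀ hQe
      (by rw [hge, QuadraticMap.polar_comm]; exact he'z.1) (act_ne_zero g hz₀0)
      (by
        rw [hge]
        rintro ⟨a, b, hab⟩
        apply he'ne a b 0 0
        rw [hab]
        simp) a₀ b₀ ae be h₀ heab
    have c2 := cmp w (act g⁻¹ e') hw hQe
      (by rw [hge, QuadraticMap.polar_comm]; exact he'w.1) (act_ne_zero g hw0)
      (by
        rw [hge]
        rintro ⟨a, b, hab⟩
        apply he'ne 0 0 a b
        rw [hab]
        simp) aw bw ae be hwab heab
    rw [hwab, c2.1, c2.2, ← c1.1, ← c1.2]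
  -- the singular vectors span
  have hfr : 2 * finrank F (⊥ : Submodule F (ι → F)) + 3 ≤ finrank F (ι → F) := by
    rw [finrank_bot, Module.finrank_fintype_fun_eq_card]
    have := C.dim
    omega
  obtain ⟨e, e', he, he', hee, -, -⟩ := exists_hyp_pair_orth Q C.nd ⊥ hfr
  refine ⟨a₀, b₀, fun x => ?_⟩
  have hx := mem_span_singular Q ⊤ e e' Submodule.mem_top Submodule.mem_top he he' hee x
    Submodule.mem_top
  induction hx using Submodule.span_induction with
  | mem s hs => exact hsing s hs.2
  | zero =>
    rw [map_zero, act_zero]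
    simp
  | add x y _ _ hx hy =>
    rw [map_add, act_add, act_add, map_add, hx, hy]
    module
  | smul c x _ hx =>
    rw [map_smul, act_smul, act_smul, map_smul, hx]
    module

end Cfsg.Agent.H28.Gu

universe u in
example (hInd : Cfsg.Agent.H96.Gu.StInd.{u}) (hSNM : Cfsg.Agent.H96.Gu.StSNM.{u}) :
    Cfsg.Agent.H96.Gu.StFT.{u} := Cfsg.Agent.H28.Gu.ft hInd hSNM

#print axioms Cfsg.Agent.H28.Gu.ft
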