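import Cfsg.Agent.H64.JzDefs
import Cfsg.Agent.H52.SrDefs

/-!
# JZ-KILL (sub-project of S2951 / S2952, helper28): statements of the pieces

`VV L = Ω₁Z(O₂(L))`.  `SRConcl T K L` is verbatim the conclusion of `H52.Sr.StStruct`.
The assembly `kill` is in `Cfsg/Agent/H28/JkMain.lean`.
-/

set_option autoImplicit false
open Cfsg

namespace Cfsg.Agent.H28.Jk

open Cfsg.Agent.H64.Jz Cfsg.Agent.H52.Sr

universe u

/-- `V = Ω₁(Z(O₂(L)))`. -/
abbrev VV {G : Type u} [Group G] (L : Subgroup G) : Subgroup G := omegaCenterOf (pCoreOf 2 L)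

/-- The conclusion of `H52.Sr.StStruct` (the `S₃^r` picture of `V`). -/
def SRConcl {G : Type u} [Group G] (T K L : Subgroup G) : Prop :=
  (⨆ i : Orb T K, wOf i.1) = omegaCenterOf (pCoreOf 2 L) ∧
  iSupIndep (fun i : Orb T K => wOf i.1) ∧
  (∀ i : Orb T K, IsJComponent T i.1 ∧ i.1 ≤ L ∧ Nat.card ↥(wOf i.1) = 4) ∧
  (∀ l ∈ L, ∀ i : Orb T K, ∃ j : Orb T K,
    (wOf i.1).map (MulAut.conj l).toMonoidHom = wOf j.1) ∧
  (∀ i j : Orb T K, i ≠ j → wOf i.1 ≤ Subgroup.centralizer (j.1 : Set G)) ∧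
  (∀ i : Orb T K, wOf i.1 ⊓ Subgroup.centralizer (i.1 : Set G) = ⊥)

/-- KA: facts on the maximal 2-local `L` of a `Base`: `L ∈ ℒ(T)` (S2950: `T` Sylow in `L`;
`K = [K, J(T)]` is not a 2-group; `C_G(O₂(L)) ≤ N_G(O₂(L)) = L` of characteristic 2),
`O₂(K) ≤ O₂(L)` (`K` subnormal in `L`, S2950), `N_G(L) = L`. -/
def StKA : Prop := ∀ {G : Type u} [Group G] [Finite G] (S : Sylow 2 G) (M T K L : Subgroup G),
  Base S M T K L →
  L ∈ jOvergroups T ∧ pCoreOf 2 K ≤ pCoreOf 2 L ∧ Subgroup.normalizer (L : Set G) ≤ L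

/-- KFIX: the hypothesis `hfix` of `H52.Sr.StStruct` for `T = S`:
`C_V(S) ∩ C_V(K) = 1` when `|Ω₁Z(S)| = 2`. -/
def StKFix : Prop := ∀ {G : Type u} [Group G] [Finite G] (S : Sylow 2 G) (M K L : Subgroup G),
  Base S M (S : Subgroup G) K L → Nat.card ↥(omegaCenterOf (S : Subgroup G)) = 2 →
  ∀ v ∈ VV L, v ∈ Subgroup.centralizer ((S : Subgroup G) : Set G) →
    v ∈ Subgroup.centralizer (K : Set G) → v = 1

/-- KZ: the involution `z` of `Z(S)` lies in `V` and in `O₂(L')`. -/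
def StKZ : Prop := ∀ {G : Type u} [Group G] [Finite G] (S : Sylow 2 G)
    (M K L T' K' L' : Subgroup G), RCtx S M K L T' K' L' →
  Nat.card ↥(omegaCenterOf (S : Subgroup G)) = 2 →
  ∃ z : G, z ≠ 1 ∧ z ∈ VV L ∧ z ∈ pCoreOf 2 L'

/-- KTR: a `J(T)`-component `K` with `W_K ∩ C(K) = 1` conjugates every element of `W_K` into
`Ω₁Z(J(T)) ∩ W_K` (order 2 by S2946; an odd-order element of `K` acting nontrivially on the
four-group `W_K` is transitive on its involutions). -/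
def StKTr : Prop := ∀ {G : Type u} [Group G] [Finite G], Cfsg.Agent.H58.Uq.ZN G →
  ∀ (T K : Subgroup G), IsPGroup 2 ↥T → T ≠ ⊥ → IsJComponent T K →
  wOf K ⊓ Subgroup.centralizer (K : Set G) = ⊥ →
  ∀ w ∈ wOf K, ∃ k ∈ K, k * w * k⁻¹ ∈ omegaCenterOf (thompsonSubgroupOf 2 T) ∧
    k * w * k⁻¹ ∈ wOf K

/-- KTI: if every element of `V` is `L`-conjugate into `C(J)` and every 2-local over `J` is
inside the self-normalizing 2-local `L`, then `C_G(u) ≤ L` for `u ∈ V#` and `V` is TI mod `L`. -/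
def StKTI : Prop := ∀ {G : Type u} [Group G] [Finite G] (J L : Subgroup G),
  IsTwoLocal L → (∀ X : Subgroup G, IsTwoLocal X → J ≤ X → X ≤ L) →
  Subgroup.normalizer (L : Set G) ≤ L →
  (∀ u ∈ VV L, ∃ l ∈ L, l * u * l⁻¹ ∈ Subgroup.centralizer (J : Set G)) →
  (∀ u ∈ VV L, u ≠ 1 → Subgroup.centralizer ({u} : Set G) ≤ L) ∧
  (∀ g : G, VV L ⊓ (VV L).map (MulAut.conj g).toMonoidHom ≠ ⊥ → g ∈ L)

/-- KF1: the dichotomy (F1) in the two-sided form of `H59.PushKill`, from the `S₃^r` picture,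
`C_G(u) ≤ L` and TI (`H82.Jt.dich` + conjugation). -/
def StKF1 : Prop := ∀ {G : Type u} [Group G] [Finite G] (T K L : Subgroup G),
  SRConcl T K L → (∃ i j : Orb T K, i ≠ j) →
  Subgroup.normalizer (VV L : Set G) = L → (∀ v ∈ VV L, v * v = 1) →
  (∀ u ∈ VV L, u ≠ 1 → Subgroup.centralizer ({u} : Set G) ≤ L) →
  (∀ g : G, VV L ⊓ (VV L).map (MulAut.conj g).toMonoidHom ≠ ⊥ → g ∈ L) →
  ∀ a b : G, (VV L).map (MulAut.conj a).toMonoidHom ⊓
      Subgroup.normalizer (((VV L).map (MulAut.conj b).toMonoidHom : Subgroup G) : Set G) ≠ ⊥ →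
    ∀ u ∈ (VV L).map (MulAut.conj a).toMonoidHom,
      ∀ v ∈ (VV L).map (MulAut.conj b).toMonoidHom, u * v = v * u

end Cfsg.Agent.H28.Jk
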