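import Mathlib
import Cfsg.Agent.H82.JxDefs

set_option autoImplicit false

/-!
# JX-SQ (helper82's pieces for the existence of a `J(T)`-component)

An elementary abelian 2-group `Y` with a fixed-point-free automorphism `x` of order dividing 3
and an involutory automorphism `a` inverting `x` has `|Y| = |C_Y(a)|²` and
`Y = C_Y(a) · x C_Y(a) x⁻¹`.  Explicitly `y = u · x v x⁻¹` with `v = y · a y a⁻¹` and
`u = y · x v x⁻¹`.
-/

namespace Cfsg.Agent.H28.Jx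

universe u

theorem sq : Cfsg.Agent.H82.Jx.StSq.{u} := by
  intro G _ _ Y a x hc h2 haY hxY ha2 hx3 hax hxf
  classical
  have hD : ∀ g : G, g ∈ Y ⊓ Subgroup.centralizer ({a} : Set G) ↔ g ∈ Y ∧ a * g * a⁻¹ = g := by
    intro g
    rw [Subgroup.mem_inf, Subgroup.mem_centralizer_iff]
    constructor
    · rintro ⟨hg, h⟩
      exact ⟨hg, by rw [h a rfl, mul_inv_cancel_right]⟩
    · rintro ⟨hg, h⟩
      refine ⟨hg, fun k hk => ?_⟩
      rw [Set.mem_singleton_iff] at hk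
      rw [hk]
      exact mul_inv_eq_iff_eq_mul.mp h
  have hxinv : ∀ z ∈ Y, x⁻¹ * z * x = x * (x * z * x⁻¹) * x⁻¹ := by
    intro z hz
    have e : x⁻¹ * z * x = x⁻¹ * (x * (x * (x * z * x⁻¹) * x⁻¹) * x⁻¹) * x := by
      rw [hx3 z hz]
    rw [e]; group
  have hax' : ∀ y ∈ Y, a * (x * y * x⁻¹) * a⁻¹ = x * (x * (a * y * a⁻¹) * x⁻¹) * x⁻¹ := by
    intro y hy
    rw [hax y hy, hxinv _ (haY y hy)]
  have hnorm : ∀ y ∈ Y, y * (x * y * x⁻¹) * (x * (x * y * x⁻¹) * x⁻¹) = 1 := by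
    intro y hy
    have h1 := hxY y hy
    have h2' := hxY _ h1
    apply hxf _ (Y.mul_mem (Y.mul_mem hy h1) h2')
    have e : x * (y * (x * y * x⁻¹) * (x * (x * y * x⁻¹) * x⁻¹)) * x⁻¹
        = (x * y * x⁻¹) * (x * (x * y * x⁻¹) * x⁻¹)
          * (x * (x * (x * y * x⁻¹) * x⁻¹) * x⁻¹) := by group
    rw [e, hx3 y hy, hc _ (Y.mul_mem h1 h2') y hy]
    exact (mul_assoc _ _ _).symm
  have hsum : ∀ y ∈ Y, (x * y * x⁻¹) * (x * (x * y * x⁻¹) * x⁻¹) = y := by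
    intro y hy
    have h := hnorm y hy
    rw [mul_assoc] at h
    have h3 : (x * y * x⁻¹) * (x * (x * y * x⁻¹) * x⁻¹) = y⁻¹ := eq_inv_of_mul_eq_one_right h
    rw [h3]
    exact inv_eq_of_mul_eq_one_left (h2 y hy)
  have hsurj : ∀ y ∈ Y, ∃ u ∈ Y ⊓ Subgroup.centralizer ({a} : Set G),
      ∃ v ∈ Y ⊓ Subgroup.centralizer ({a} : Set G), y = u * (x * v * x⁻¹) := by
    intro y hy
    have hty := haY y hy
    obtain ⟨V, hV⟩ : ∃ V : G, V = y * (a * y * a⁻¹) := ⟨_, rfl⟩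
    have hv : V ∈ Y := by rw [hV]; exact Y.mul_mem hy hty
    have hτv : a * V * a⁻¹ = V := by
      have e : a * (y * (a * y * a⁻¹)) * a⁻¹ = (a * y * a⁻¹) * (a * (a * y * a⁻¹) * a⁻¹) := by
        group
      rw [hV, e, ha2 y hy, hc _ hty y hy]
    have hσv := hxY _ hv
    have hσσv := hxY _ hσv
    have hs := hsum V hv
    have e2 : a * y * a⁻¹ = y * V := by rw [hV, ← mul_assoc, h2 y hy, one_mul]
    have e3 : V * (x * (x * V * x⁻¹) * x⁻¹) = x * V * x⁻¹ := by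
      calc V * (x * (x * V * x⁻¹) * x⁻¹)
          = ((x * V * x⁻¹) * (x * (x * V * x⁻¹) * x⁻¹)) * (x * (x * V * x⁻¹) * x⁻¹) := by
            rw [hs]
        _ = x * V * x⁻¹ := by rw [mul_assoc, h2 _ hσσv, mul_one]
    refine ⟨y * (x * V * x⁻¹), (hD _).mpr ⟨Y.mul_mem hy hσv, ?_⟩, V, (hD _).mpr ⟨hv, hτv⟩, ?_⟩
    · have e : a * (y * (x * V * x⁻¹)) * a⁻¹
          = (a * y * a⁻¹) * (a * (x * V * x⁻¹) * a⁻¹) := by group
      rw [e, hax' _ hv, hτv, e2, mul_assoc, e3]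
    · rw [mul_assoc, h2 _ hσv, mul_one]
  have hinj : ∀ u ∈ Y ⊓ Subgroup.centralizer ({a} : Set G),
      ∀ v ∈ Y ⊓ Subgroup.centralizer ({a} : Set G),
      ∀ u' ∈ Y ⊓ Subgroup.centralizer ({a} : Set G),
      ∀ v' ∈ Y ⊓ Subgroup.centralizer ({a} : Set G),
      u * (x * v * x⁻¹) = u' * (x * v' * x⁻¹) → u = u' ∧ v = v' := by
    intro u hu v hv u' hu' v' hv' h
    obtain ⟨huY, hua⟩ := (hD u).mp hu
    obtain ⟨hvY, hva⟩ := (hD v).mp hv
    obtain ⟨hu'Y, hu'a⟩ := (hD u').mp hu'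
    obtain ⟨hv'Y, hv'a⟩ := (hD v').mp hv'
    have hw : v' * v ∈ Y := Y.mul_mem hv'Y hvY
    have hσv := hxY v hvY
    have hs : u' * u = x * (v' * v) * x⁻¹ := by
      have e1 : x * (v' * v) * x⁻¹ = (x * v' * x⁻¹) * (x * v * x⁻¹) := by group
      have e2 : u' * u * (x * v * x⁻¹) = x * v' * x⁻¹ := by
        rw [mul_assoc, h, ← mul_assoc, h2 u' hu'Y, one_mul]
      rw [e1, ← e2, mul_assoc, h2 _ hσv, mul_one]
    have hτs : a * (u' * u) * a⁻¹ = u' * u := by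
      have e : a * (u' * u) * a⁻¹ = (a * u' * a⁻¹) * (a * u * a⁻¹) := by group
      rw [e, hu'a, hua]
    have hτw : a * (v' * v) * a⁻¹ = v' * v := by
      have e : a * (v' * v) * a⁻¹ = (a * v' * a⁻¹) * (a * v * a⁻¹) := by group
      rw [e, hv'a, hva]
    have h1 := hax' _ hw
    rw [hτw, ← hs, hτs, hs] at h1
    have hσw1 : x * (v' * v) * x⁻¹ = 1 := hxf _ (hxY _ hw) h1.symm
    have hw1 : v' * v = 1 := by
      have e : v' * v = x⁻¹ * (x * (v' * v) * x⁻¹) * x := by group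
      rw [e, hσw1]; group
    have hs1 : u' * u = 1 := by rw [hs, hσw1]
    constructor
    · have e1 : u' = u⁻¹ := eq_inv_of_mul_eq_one_left hs1
      rw [e1]
      exact (inv_eq_of_mul_eq_one_left (h2 u huY)).symm
    · have e1 : v' = v⁻¹ := eq_inv_of_mul_eq_one_left hw1
      rw [e1]
      exact (inv_eq_of_mul_eq_one_left (h2 v hvY)).symm
  refine ⟨?_, hsurj⟩
  have hbij : Function.Bijective
      (fun p : ↥(Y ⊓ Subgroup.centralizer ({a} : Set G))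
          × ↥(Y ⊓ Subgroup.centralizer ({a} : Set G)) =>
        (⟨(p.1 : G) * (x * (p.2 : G) * x⁻¹),
          Y.mul_mem ((hD _).mp p.1.2).1 (hxY _ ((hD _).mp p.2.2).1)⟩ : ↥Y)) := by
    constructor
    · rintro ⟨⟨u, hu⟩, ⟨v, hv⟩⟩ ⟨⟨u', hu'⟩, ⟨v', hv'⟩⟩ h
      have h' := congrArg Subtype.val h
      obtain ⟨e1, e2⟩ := hinj u hu v hv u' hu' v' hv' h'
      subst e1; subst e2; rfl
    · rintro ⟨y, hy⟩
      obtain ⟨u, hu, v, hv, e⟩ := hsurj y hy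
      exact ⟨(⟨u, hu⟩, ⟨v, hv⟩), Subtype.ext e.symm⟩
  rw [← Nat.card_congr (Equiv.ofBijective _ hbij), Nat.card_prod, pow_two]

example : Cfsg.Agent.H82.Jx.StSq.{u} := sq

end Cfsg.Agent.H28.Jx

#print axioms Cfsg.Agent.H28.Jx.sq
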