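import Mathlib

/-!
# S2953 / KILL2 case (a): abstract core of the hypothesis `hRd` of `H28.RKill.rkill4a`

`O ≤ K` normal of index 3, `k ∈ K ∖ O`, `z` an involution centralized by `O`,
`a := k⁻¹ z k`, `b := k z k⁻¹`:
* `three_cosets`: `k³ ∈ O` and `K = O ∪ Ok ∪ Ok⁻¹`;
* `fix_d`: an element `x` centralizing `z` with `x k x⁻¹ ∈ K` centralizes `a * b`;
* `fix_c`: `K` centralizes `z * a * b`.
-/

set_option autoImplicit false

namespace Cfsg.Agent.H28.Jy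

universe u
variable {G : Type u} [Group G]

theorem three_cosets (O K : Subgroup G)
    (hn : K ≤ Subgroup.normalizer (O : Set G)) (h3 : O.relIndex K = 3) (k : G) (hk : k ∈ K)
    (hkO : k ∉ O) : k ^ 3 ∈ O ∧ ∀ g ∈ K, g ∈ O ∨ g * k⁻¹ ∈ O ∨ g * k ∈ O := by
  have : (O.subgroupOf K).Normal := Subgroup.normal_subgroupOf_of_le_normalizer hn
  have : Fact (Nat.Prime 3) := ⟨Nat.prime_three⟩
  have hc : Nat.card (↥K ⧸ O.subgroupOf K) = 3 := h3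
  have hmem : ∀ y : ↥K, (QuotientGroup.mk' (O.subgroupOf K)) y = 1 → (y : G) ∈ O := by
    intro y hy
    have h1 : y ∈ O.subgroupOf K := (QuotientGroup.eq_one_iff y).mp hy
    exact Subgroup.mem_subgroupOf.mp h1
  have hx1 : (QuotientGroup.mk' (O.subgroupOf K)) ⟨k, hk⟩ ≠ 1 := fun h => hkO (hmem _ h)
  have hx3 : ((QuotientGroup.mk' (O.subgroupOf K)) ⟨k, hk⟩) ^ 3 = 1 := by
    have h := pow_card_eq_one' (G := ↥K ⧸ O.subgroupOf K)
      (x := (QuotientGroup.mk' (O.subgroupOf K)) ⟨k, hk⟩)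
    rwa [hc] at h
  have hx3' : ((QuotientGroup.mk' (O.subgroupOf K)) ⟨k, hk⟩) ^ (3 : ℤ) = 1 := by
    exact_mod_cast hx3
  refine ⟨?_, ?_⟩
  · have h := hmem (⟨k, hk⟩ ^ 3) (by rw [map_pow]; exact hx3)
    simpa using h
  · intro g hg
    have htop : Subgroup.zpowers ((QuotientGroup.mk' (O.subgroupOf K)) ⟨k, hk⟩) = ⊤ :=
      zpowers_eq_top_of_prime_card hc hx1
    have hq : (QuotientGroup.mk' (O.subgroupOf K)) ⟨g, hg⟩ ∈
        Subgroup.zpowers ((QuotientGroup.mk' (O.subgroupOf K)) ⟨k, hk⟩) := by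
      rw [htop]; exact Subgroup.mem_top _
    obtain ⟨n, hn'⟩ := Subgroup.mem_zpowers_iff.mp hq
    have e : ((QuotientGroup.mk' (O.subgroupOf K)) ⟨k, hk⟩) ^ n =
        ((QuotientGroup.mk' (O.subgroupOf K)) ⟨k, hk⟩) ^ (n % 3) := by
      conv_lhs => rw [← Int.emod_add_mul_ediv n 3]
      rw [zpow_add, zpow_mul, hx3', one_zpow, mul_one]
    rw [e] at hn'
    have h0 : 0 ≤ n % 3 := Int.emod_nonneg n (by norm_num)
    have h1 : n % 3 < 3 := Int.emod_lt_of_pos n (by norm_num)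
    obtain h | h | h : n % 3 = 0 ∨ n % 3 = 1 ∨ n % 3 = 2 := by omega
    · rw [h, zpow_zero] at hn'
      left
      exact hmem _ hn'.symm
    · rw [h, zpow_one] at hn'
      right; left
      have h2 := hmem (⟨g, hg⟩ * (⟨k, hk⟩ : ↥K)⁻¹) (by rw [map_mul, map_inv, ← hn', mul_inv_cancel])
      simpa using h2
    · right; right
      have h2 := hmem (⟨g, hg⟩ * (⟨k, hk⟩ : ↥K)) (by
        rw [map_mul, ← hn', h]
        have : ((QuotientGroup.mk' (O.subgroupOf K)) ⟨k, hk⟩) ^ (2 : ℤ) *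
            (QuotientGroup.mk' (O.subgroupOf K)) ⟨k, hk⟩ =
            ((QuotientGroup.mk' (O.subgroupOf K)) ⟨k, hk⟩) ^ 3 := by
          rw [zpow_ofNat, ← pow_succ]
        rw [this, hx3])
      simpa using h2

/-- `O` centralizes `k⁻¹ z k` and `k z k⁻¹`. -/
theorem cent_ab (O K : Subgroup G) (hn : K ≤ Subgroup.normalizer (O : Set G)) (z k : G)
    (hk : k ∈ K) (hOz : ∀ o ∈ O, o * z = z * o) :
    ∀ o ∈ O, o * (k⁻¹ * z * k) = (k⁻¹ * z * k) * o ∧ o * (k * z * k⁻¹) = (k * z * k⁻¹) * o := by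
  intro o ho
  have h1 : k * o * k⁻¹ ∈ O := (Subgroup.mem_normalizer_iff.mp (hn hk) o).mp ho
  have h2 : k⁻¹ * o * k⁻¹⁻¹ ∈ O :=
    (Subgroup.mem_normalizer_iff.mp (hn (K.inv_mem hk)) o).mp ho
  constructor
  · calc o * (k⁻¹ * z * k) = k⁻¹ * ((k * o * k⁻¹) * z) * k := by group
      _ = k⁻¹ * (z * (k * o * k⁻¹)) * k := by rw [hOz _ h1]
      _ = (k⁻¹ * z * k) * o := by group
  · calc o * (k * z * k⁻¹) = k * ((k⁻¹ * o * k⁻¹⁻¹) * z) * k⁻¹ := by group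
      _ = k * (z * (k⁻¹ * o * k⁻¹⁻¹)) * k⁻¹ := by rw [hOz _ h2]
      _ = (k * z * k⁻¹) * o := by group

/-- conjugates of `z` by the three cosets -/
theorem conj_cases (O K : Subgroup G) (hn : K ≤ Subgroup.normalizer (O : Set G)) (z k : G)
    (hk : k ∈ K) (hOz : ∀ o ∈ O, o * z = z * o) (g : G) :
    (g ∈ O → g⁻¹ * z * g = z ∧ g * z * g⁻¹ = z) ∧
    (g * k⁻¹ ∈ O → g⁻¹ * z * g = k⁻¹ * z * k ∧ g * z * g⁻¹ = k * z * k⁻¹) ∧
    (g * k ∈ O → g⁻¹ * z * g = k * z * k⁻¹ ∧ g * z * g⁻¹ = k⁻¹ * z * k) := by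
  refine ⟨?_, ?_, ?_⟩
  · intro hg
    have h := hOz g hg
    constructor
    · calc g⁻¹ * z * g = g⁻¹ * (z * g) := by group
        _ = g⁻¹ * (g * z) := by rw [h]
        _ = z := by group
    · calc g * z * g⁻¹ = (g * z) * g⁻¹ := by group
        _ = (z * g) * g⁻¹ := by rw [h]
        _ = z := by group
  · intro hg
    have h := hOz _ hg
    have hc := (cent_ab O K hn z k hk hOz _ hg).2
    constructor
    · calc g⁻¹ * z * g = k⁻¹ * ((g * k⁻¹)⁻¹ * (z * (g * k⁻¹))) * k := by group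
        _ = k⁻¹ * ((g * k⁻¹)⁻¹ * ((g * k⁻¹) * z)) * k := by rw [h]
        _ = k⁻¹ * z * k := by group
    · calc g * z * g⁻¹ = ((g * k⁻¹) * (k * z * k⁻¹)) * (g * k⁻¹)⁻¹ := by group
        _ = ((k * z * k⁻¹) * (g * k⁻¹)) * (g * k⁻¹)⁻¹ := by rw [hc]
        _ = k * z * k⁻¹ := by group
  · intro hg
    have h := hOz _ hg
    have hc := (cent_ab O K hn z k hk hOz _ hg).1
    constructor
    · calc g⁻¹ * z * g = k * ((g * k)⁻¹ * (z * (g * k))) * k⁻¹ := by group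
        _ = k * ((g * k)⁻¹ * ((g * k) * z)) * k⁻¹ := by rw [h]
        _ = k * z * k⁻¹ := by group
    · calc g * z * g⁻¹ = ((g * k) * (k⁻¹ * z * k)) * (g * k)⁻¹ := by group
        _ = ((k⁻¹ * z * k) * (g * k)) * (g * k)⁻¹ := by rw [hc]
        _ = k⁻¹ * z * k := by group

/-- an element centralizing `z` and mapping `k` into `K` centralizes `(k⁻¹ z k)(k z k⁻¹)` -/
theorem fix_d (O K : Subgroup G) (hn : K ≤ Subgroup.normalizer (O : Set G)) (z k : G)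
    (hk : k ∈ K) (hOz : ∀ o ∈ O, o * z = z * o)
    (h3 : ∀ g ∈ K, g ∈ O ∨ g * k⁻¹ ∈ O ∨ g * k ∈ O) (hz2 : z * z = 1)
    (hab : (k⁻¹ * z * k) * (k * z * k⁻¹) = (k * z * k⁻¹) * (k⁻¹ * z * k))
    (x : G) (hxz : x * z = z * x) (hxk : x * k * x⁻¹ ∈ K) :
    x * ((k⁻¹ * z * k) * (k * z * k⁻¹)) = ((k⁻¹ * z * k) * (k * z * k⁻¹)) * x := by
  have hxz' : x * z * x⁻¹ = z := by rw [hxz]; group
  have ea : x * (k⁻¹ * z * k) * x⁻¹ = (x * k * x⁻¹)⁻¹ * z * (x * k * x⁻¹) := by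
    calc x * (k⁻¹ * z * k) * x⁻¹ = (x * k * x⁻¹)⁻¹ * (x * z * x⁻¹) * (x * k * x⁻¹) := by group
      _ = _ := by rw [hxz']
  have eb : x * (k * z * k⁻¹) * x⁻¹ = (x * k * x⁻¹) * z * (x * k * x⁻¹)⁻¹ := by
    calc x * (k * z * k⁻¹) * x⁻¹ = (x * k * x⁻¹) * (x * z * x⁻¹) * (x * k * x⁻¹)⁻¹ := by group
      _ = _ := by rw [hxz']
  have key : x * ((k⁻¹ * z * k) * (k * z * k⁻¹)) * x⁻¹ = (k⁻¹ * z * k) * (k * z * k⁻¹) →
      x * ((k⁻¹ * z * k) * (k * z * k⁻¹)) = ((k⁻¹ * z * k) * (k * z * k⁻¹)) * x := by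
    intro h
    calc x * ((k⁻¹ * z * k) * (k * z * k⁻¹))
        = (x * ((k⁻¹ * z * k) * (k * z * k⁻¹)) * x⁻¹) * x := by group
      _ = _ := by rw [h]
  have esplit : x * ((k⁻¹ * z * k) * (k * z * k⁻¹)) * x⁻¹ =
      (x * (k⁻¹ * z * k) * x⁻¹) * (x * (k * z * k⁻¹) * x⁻¹) := by group
  obtain ⟨c1, c2, c3⟩ := conj_cases O K hn z k hk hOz (x * k * x⁻¹)
  rcases h3 _ hxk with h | h | h
  · obtain ⟨e1, e2⟩ := c1 h
    have h1 : x * ((k⁻¹ * z * k) * (k * z * k⁻¹)) * x⁻¹ = 1 := by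
      rw [esplit, ea, eb, e1, e2, hz2]
    have h2 : (k⁻¹ * z * k) * (k * z * k⁻¹) = 1 := by
      have : (k⁻¹ * z * k) * (k * z * k⁻¹) =
          x⁻¹ * (x * ((k⁻¹ * z * k) * (k * z * k⁻¹)) * x⁻¹) * x := by group
      rw [this, h1]; group
    rw [h2, mul_one, one_mul]
  · obtain ⟨e1, e2⟩ := c2 h
    apply key
    rw [esplit, ea, eb, e1, e2]
  · obtain ⟨e1, e2⟩ := c3 h
    apply key
    rw [esplit, ea, eb, e1, e2, hab]

/-- `K` centralizes `z * (k⁻¹ z k) * (k z k⁻¹)` -/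
theorem fix_c (O K : Subgroup G) (hn : K ≤ Subgroup.normalizer (O : Set G)) (z k : G)
    (hk : k ∈ K) (hOz : ∀ o ∈ O, o * z = z * o)
    (h3 : ∀ g ∈ K, g ∈ O ∨ g * k⁻¹ ∈ O ∨ g * k ∈ O) (hk3 : k ^ 3 ∈ O)
    (hab : (k⁻¹ * z * k) * (k * z * k⁻¹) = (k * z * k⁻¹) * (k⁻¹ * z * k))
    (hza : z * (k⁻¹ * z * k) = (k⁻¹ * z * k) * z)
    (hzb : z * (k * z * k⁻¹) = (k * z * k⁻¹) * z)
    (g : G) (hg : g ∈ K) :
    g * (z * (k⁻¹ * z * k) * (k * z * k⁻¹)) = (z * (k⁻¹ * z * k) * (k * z * k⁻¹)) * g := by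
  have key : g * (z * (k⁻¹ * z * k) * (k * z * k⁻¹)) * g⁻¹ =
      z * (k⁻¹ * z * k) * (k * z * k⁻¹) →
      g * (z * (k⁻¹ * z * k) * (k * z * k⁻¹)) = (z * (k⁻¹ * z * k) * (k * z * k⁻¹)) * g := by
    intro h
    calc g * (z * (k⁻¹ * z * k) * (k * z * k⁻¹))
        = (g * (z * (k⁻¹ * z * k) * (k * z * k⁻¹)) * g⁻¹) * g := by group
      _ = _ := by rw [h]
  have esplit : g * (z * (k⁻¹ * z * k) * (k * z * k⁻¹)) * g⁻¹ =
      (g * z * g⁻¹) * ((g * k⁻¹) * z * (g * k⁻¹)⁻¹) * ((g * k) * z * (g * k)⁻¹) := by group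
  obtain ⟨c1, c2, c3⟩ := conj_cases O K hn z k hk hOz g
  obtain ⟨d1, d2, d3⟩ := conj_cases O K hn z k hk hOz (g * k⁻¹)
  obtain ⟨f1, f2, f3⟩ := conj_cases O K hn z k hk hOz (g * k)
  have hk3e : k * k * k = k ^ 3 := by rw [pow_succ, pow_succ, pow_one]
  have hk3a : k * k * k ∈ O := by rw [hk3e]; exact hk3
  have hk3' : (k * k * k)⁻¹ ∈ O := O.inv_mem hk3a
  apply key
  rw [esplit]
  rcases h3 g hg with h | h | h
  · have hd : g * k⁻¹ * k ∈ O := by simpa using h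
    have hf : g * k * k⁻¹ ∈ O := by simpa using h
    rw [(c1 h).2, (d3 hd).2, (f2 hf).2]
  · have hf : g * k * k ∈ O := by
      have : g * k * k = (g * k⁻¹) * (k * k * k) := by group
      rw [this]; exact O.mul_mem h hk3a
    rw [(c2 h).2, (d1 h).2, (f3 hf).2]
    calc k * z * k⁻¹ * z * (k⁻¹ * z * k) = (k * z * k⁻¹ * z) * (k⁻¹ * z * k) := by group
      _ = (z * (k * z * k⁻¹)) * (k⁻¹ * z * k) := by rw [hzb]
      _ = z * ((k * z * k⁻¹) * (k⁻¹ * z * k)) := by group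
      _ = z * ((k⁻¹ * z * k) * (k * z * k⁻¹)) := by rw [hab]
      _ = _ := by group
  · have hd : g * k⁻¹ * k⁻¹ ∈ O := by
      have : g * k⁻¹ * k⁻¹ = (g * k) * (k * k * k)⁻¹ := by group
      rw [this]; exact O.mul_mem h hk3'
    rw [(c3 h).2, (d2 hd).2, (f1 h).2]
    calc k⁻¹ * z * k * (k * z * k⁻¹) * z = (k⁻¹ * z * k) * ((k * z * k⁻¹) * z) := by group
      _ = (k⁻¹ * z * k) * (z * (k * z * k⁻¹)) := by rw [hzb]
      _ = ((k⁻¹ * z * k) * z) * (k * z * k⁻¹) := by group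
      _ = (z * (k⁻¹ * z * k)) * (k * z * k⁻¹) := by rw [hza]

end Cfsg.Agent.H28.Jy
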