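import Mathlib
import Cfsg.Agent.H86.NdDefs
import Cfsg.Agent.H53.Ev2ExJPlus
import Cfsg.Agent.H12.NdUnipGen
import Cfsg.Agent.H12.NdUex2M

/-!
# ND-UEX3M (helper28, for helper86 / S5991)

Minus space, `k = n + 2` even: an isometry `x = 1 + N` of Jordan type `(3, 3, 2^(k-2))`.
In coordinates `u = ((p, q), (s, t))`, `Q u = Σ p_i q_i + s² + a s t + b t²`:

`N u = ((Δp, 0), (q_0, q_1))`, `Δp_0 = -2 s - a t - q_0 - a q_1`, `Δp_1 = -a s - 2 b t - b q_1`,
`Δp_i = sg i * q_(tw i)` for `i ≥ 2` (helper53's `tw`, `sg`).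

`N³ = 0`, `range N² = ⟨e_{p_0}, e_{p_1}⟩` (the matrix `[[-2, -a], [-a, -2 b]]` is invertible by
anisotropy), `ker N = {q = 0, s = t = 0}`, so `rank N = k + 2`.
-/

set_option autoImplicit false

namespace Cfsg.Agent.H28.Nd

open Cfsg.Agent.H86.Nd Cfsg.Agent.H53.Ev2 Cfsg.Agent.H12.Nd Module

universe u

section

variable {F : Type u} [Field F]

theorem sum_single_mul {m : ℕ} (c : F) (i0 : Fin m) (q : Fin m → F) :
    ∑ i : Fin m, (if i = i0 then c else 0) * q i = c * q i0 := by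
  rw [Finset.sum_eq_single i0]
  · rw [if_pos rfl]
  · intro j _ hj
    rw [if_neg hj, zero_mul]
  · intro h
    exact absurd (Finset.mem_univ _) h

/-- the nilpotent part of the isometry of Jordan type `(3, 3, 2^n)` -/
def N3M (F : Type u) [Field F] (n : ℕ) (a b : F) : Module.End F (MI (n + 2) → F) where
  toFun w := Sum.elim (Sum.elim
      (fun i : Fin (n + 2) =>
        (if i = 0 then -2 * w (Sum.inr 0) - a * w (Sum.inr 1) - w (Sum.inl (Sum.inr 0))
            - a * w (Sum.inl (Sum.inr 1)) else 0) +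
        (if i = 1 then -a * w (Sum.inr 0) - 2 * b * w (Sum.inr 1) - b * w (Sum.inl (Sum.inr 1))
          else 0) +
        sg F (n + 2) i * (if 2 ≤ (tw (n + 2) i).val then w (Sum.inl (Sum.inr (tw (n + 2) i)))
          else 0))
      (fun _ => 0))
    (fun j : Fin 2 => if j = 0 then w (Sum.inl (Sum.inr 0)) else w (Sum.inl (Sum.inr 1)))
  map_add' w w' := by
    ext ((i | i) | j)
    · simp only [Sum.elim_inl, Pi.add_apply]
      split_ifs <;> ring
    · simp
    · simp only [Sum.elim_inr, Pi.add_apply]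
      split_ifs <;> rfl
  map_smul' c w := by
    ext ((i | i) | j)
    · simp only [Sum.elim_inl, Pi.smul_apply, smul_eq_mul, RingHom.id_apply]
      split_ifs <;> ring
    · simp
    · simp only [Sum.elim_inr, Pi.smul_apply, smul_eq_mul, RingHom.id_apply]
      split_ifs <;> rfl

theorem N3M_pp (n : ℕ) (a b : F) (w : MI (n + 2) → F) (i : Fin (n + 2)) :
    N3M F n a b w (Sum.inl (Sum.inl i)) =
      (if i = 0 then -2 * w (Sum.inr 0) - a * w (Sum.inr 1) - w (Sum.inl (Sum.inr 0))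
            - a * w (Sum.inl (Sum.inr 1)) else 0) +
        (if i = 1 then -a * w (Sum.inr 0) - 2 * b * w (Sum.inr 1) - b * w (Sum.inl (Sum.inr 1))
          else 0) +
        sg F (n + 2) i * (if 2 ≤ (tw (n + 2) i).val then w (Sum.inl (Sum.inr (tw (n + 2) i)))
          else 0) := rfl

theorem N3M_qq (n : ℕ) (a b : F) (w : MI (n + 2) → F) (i : Fin (n + 2)) :
    N3M F n a b w (Sum.inl (Sum.inr i)) = 0 := rfl

theorem N3M_s (n : ℕ) (a b : F) (w : MI (n + 2) → F) :
    N3M F n a b w (Sum.inr 0) = w (Sum.inl (Sum.inr 0)) := rfl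

theorem N3M_t (n : ℕ) (a b : F) (w : MI (n + 2) → F) :
    N3M F n a b w (Sum.inr 1) = w (Sum.inl (Sum.inr 1)) := rfl

theorem N3M_eq_zero (n : ℕ) (a b : F) (w : MI (n + 2) → F)
    (hq : ∀ i, w (Sum.inl (Sum.inr i)) = 0) (hs : w (Sum.inr 0) = 0) (ht : w (Sum.inr 1) = 0) :
    N3M F n a b w = 0 := by
  ext ((i | i) | j)
  · rw [N3M_pp]
    simp only [hq, hs, ht]
    simp
  · rfl
  · show (if j = 0 then w (Sum.inl (Sum.inr 0)) else w (Sum.inl (Sum.inr 1))) = 0
    simp only [hq]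
    simp

theorem N3M_cube (n : ℕ) (a b : F) : N3M F n a b ^ 3 = 0 := by
  have h3 : N3M F n a b ^ 3 = N3M F n a b * (N3M F n a b * N3M F n a b) := by
    rw [pow_succ', pow_two]
  rw [h3]
  apply LinearMap.ext
  intro w
  show N3M F n a b (N3M F n a b (N3M F n a b w)) = 0
  apply N3M_eq_zero
  · intro i
    rfl
  · rw [N3M_s]
    rfl
  · rw [N3M_t]
    rfl

theorem N3M_quad (n : ℕ) (hn : (n + 2) % 2 = 0) (a b : F) (w : MI (n + 2) → F) :
    Cfsg.quadFormMinus (n + 2) F a b (w + N3M F n a b w) =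
      Cfsg.quadFormMinus (n + 2) F a b w := by
  unfold Cfsg.quadFormMinus
  have e1 : ∀ i : Fin (n + 2), (w + N3M F n a b w) (Sum.inl (Sum.inl i)) =
      w (Sum.inl (Sum.inl i)) + N3M F n a b w (Sum.inl (Sum.inl i)) := fun i => rfl
  have e2 : ∀ i : Fin (n + 2), (w + N3M F n a b w) (Sum.inl (Sum.inr i)) =
      w (Sum.inl (Sum.inr i)) := fun i => by
    show w _ + 0 = _
    rw [add_zero]
  have e3 : (w + N3M F n a b w) (Sum.inr 0) = w (Sum.inr 0) + w (Sum.inl (Sum.inr 0)) := rfl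
  have e4 : (w + N3M F n a b w) (Sum.inr 1) = w (Sum.inr 1) + w (Sum.inl (Sum.inr 1)) := rfl
  simp only [e1, e2, e3, e4]
  have hA : ∑ i : Fin (n + 2), (if i = 0 then -2 * w (Sum.inr 0) - a * w (Sum.inr 1)
        - w (Sum.inl (Sum.inr 0)) - a * w (Sum.inl (Sum.inr 1)) else 0) *
        w (Sum.inl (Sum.inr i)) =
      (-2 * w (Sum.inr 0) - a * w (Sum.inr 1) - w (Sum.inl (Sum.inr 0))
        - a * w (Sum.inl (Sum.inr 1))) * w (Sum.inl (Sum.inr 0)) :=
    sum_single_mul _ (0 : Fin (n + 2)) (fun i => w (Sum.inl (Sum.inr i)))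
  have hB : ∑ i : Fin (n + 2), (if i = 1 then -a * w (Sum.inr 0) - 2 * b * w (Sum.inr 1)
        - b * w (Sum.inl (Sum.inr 1)) else 0) * w (Sum.inl (Sum.inr i)) =
      (-a * w (Sum.inr 0) - 2 * b * w (Sum.inr 1) - b * w (Sum.inl (Sum.inr 1))) *
        w (Sum.inl (Sum.inr 1)) :=
    sum_single_mul _ (1 : Fin (n + 2)) (fun i => w (Sum.inl (Sum.inr i)))
  have hC : ∑ i : Fin (n + 2), sg F (n + 2) i *
      (if 2 ≤ (tw (n + 2) i).val then w (Sum.inl (Sum.inr (tw (n + 2) i))) else 0) *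
        w (Sum.inl (Sum.inr i)) = 0 := by
    refine Eq.trans (Finset.sum_congr rfl ?_)
      (alt_sum (F := F) (n + 2) hn (fun j => if 2 ≤ j.val then w (Sum.inl (Sum.inr j)) else 0))
    intro i _
    show _ = sg F (n + 2) i *
      (if 2 ≤ (tw (n + 2) i).val then w (Sum.inl (Sum.inr (tw (n + 2) i))) else 0) *
      (if 2 ≤ i.val then w (Sum.inl (Sum.inr i)) else 0)
    have hv := tw_val (n + 2) hn i
    by_cases h2 : 2 ≤ (tw (n + 2) i).val
    · have h2' : 2 ≤ i.val := by
        split_ifs at hv <;> omega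
      rw [if_pos h2, if_pos h2']
    · rw [if_neg h2, mul_zero, zero_mul, zero_mul]
  have hsplit : ∑ i : Fin (n + 2), (w (Sum.inl (Sum.inl i)) +
        N3M F n a b w (Sum.inl (Sum.inl i))) * w (Sum.inl (Sum.inr i)) =
      ∑ i : Fin (n + 2), w (Sum.inl (Sum.inl i)) * w (Sum.inl (Sum.inr i)) +
      (∑ i : Fin (n + 2), (if i = 0 then -2 * w (Sum.inr 0) - a * w (Sum.inr 1)
        - w (Sum.inl (Sum.inr 0)) - a * w (Sum.inl (Sum.inr 1)) else 0) *
        w (Sum.inl (Sum.inr i)) +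
      ∑ i : Fin (n + 2), (if i = 1 then -a * w (Sum.inr 0) - 2 * b * w (Sum.inr 1)
        - b * w (Sum.inl (Sum.inr 1)) else 0) * w (Sum.inl (Sum.inr i)) +
      ∑ i : Fin (n + 2), sg F (n + 2) i *
      (if 2 ≤ (tw (n + 2) i).val then w (Sum.inl (Sum.inr (tw (n + 2) i))) else 0) *
        w (Sum.inl (Sum.inr i))) := by
    rw [← Finset.sum_add_distrib, ← Finset.sum_add_distrib, ← Finset.sum_add_distrib]
    exact Finset.sum_congr rfl (fun i _ => by rw [N3M_pp]; ring)
  rw [hsplit, hA, hB, hC]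
  ring

/-- `c ↦ c 0 • e_{p_0} + c 1 • e_{p_1}` -/
def phi3 (F : Type u) [Field F] (n : ℕ) : (Fin 2 → F) →ₗ[F] (MI (n + 2) → F) where
  toFun c := Sum.elim (Sum.elim
    (fun i : Fin (n + 2) => (if i = 0 then c 0 else 0) + (if i = 1 then c 1 else 0))
    (fun _ => 0)) (fun _ => 0)
  map_add' c c' := by
    ext ((i | i) | j)
    · simp only [Sum.elim_inl, Pi.add_apply]
      split_ifs <;> ring
    · simp
    · simp
  map_smul' r c := by
    ext ((i | i) | j)
    · simp only [Sum.elim_inl, Pi.smul_apply, smul_eq_mul, RingHom.id_apply]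
      split_ifs <;> ring
    · simp
    · simp

/-- `u ↦ (-2 q_0 - a q_1, -a q_0 - 2 b q_1)` -/
def psi3 (F : Type u) [Field F] (n : ℕ) (a b : F) : (MI (n + 2) → F) →ₗ[F] (Fin 2 → F) where
  toFun w := fun j => if j = 0 then -2 * w (Sum.inl (Sum.inr 0)) - a * w (Sum.inl (Sum.inr 1))
    else -a * w (Sum.inl (Sum.inr 0)) - 2 * b * w (Sum.inl (Sum.inr 1))
  map_add' w w' := by
    ext j
    simp only [Pi.add_apply]
    split_ifs <;> ring
  map_smul' r w := by
    ext j
    simp only [Pi.smul_apply, smul_eq_mul, RingHom.id_apply]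
    split_ifs <;> ring

theorem phi3_inj (n : ℕ) : Function.Injective (phi3 F n) := by
  intro c c' h
  have h0 := congrFun h (Sum.inl (Sum.inl 0))
  have h1 := congrFun h (Sum.inl (Sum.inl 1))
  have e0 : ∀ c : Fin 2 → F, phi3 F n c (Sum.inl (Sum.inl 0)) = c 0 := by
    intro c
    show (if (0 : Fin (n + 2)) = 0 then c 0 else 0) + (if (0 : Fin (n + 2)) = 1 then c 1 else 0)
      = c 0
    rw [if_pos rfl, if_neg Fin.zero_ne_one, add_zero]
  have e1 : ∀ c : Fin 2 → F, phi3 F n c (Sum.inl (Sum.inl 1)) = c 1 := by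
    intro c
    show (if (1 : Fin (n + 2)) = 0 then c 0 else 0) + (if (1 : Fin (n + 2)) = 1 then c 1 else 0)
      = c 1
    rw [if_neg Fin.zero_ne_one.symm, if_pos rfl, zero_add]
  rw [e0, e0] at h0
  rw [e1, e1] at h1
  ext j
  fin_cases j
  · exact h0
  · exact h1

theorem psi3_surj (n : ℕ) (a b : F) (hD : 4 * b - a ^ 2 ≠ 0) :
    Function.Surjective (psi3 F n a b) := by
  intro c
  refine ⟨Sum.elim (Sum.elim (fun _ => 0) (fun i : Fin (n + 2) =>
    (if i = 0 then (-2 * b * c 0 + a * c 1) / (4 * b - a ^ 2) else 0) +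
    (if i = 1 then (a * c 0 - 2 * c 1) / (4 * b - a ^ 2) else 0))) (fun _ => 0), ?_⟩
  have e0 : (Sum.elim (Sum.elim (fun _ => 0) (fun i : Fin (n + 2) =>
      (if i = 0 then (-2 * b * c 0 + a * c 1) / (4 * b - a ^ 2) else 0) +
      (if i = 1 then (a * c 0 - 2 * c 1) / (4 * b - a ^ 2) else 0))) (fun _ => 0) :
      MI (n + 2) → F) (Sum.inl (Sum.inr 0)) = (-2 * b * c 0 + a * c 1) / (4 * b - a ^ 2) := by
    show (if (0 : Fin (n + 2)) = 0 then _ else 0) + (if (0 : Fin (n + 2)) = 1 then _ else 0) = _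
    rw [if_pos rfl, if_neg Fin.zero_ne_one, add_zero]
  have e1 : (Sum.elim (Sum.elim (fun _ => 0) (fun i : Fin (n + 2) =>
      (if i = 0 then (-2 * b * c 0 + a * c 1) / (4 * b - a ^ 2) else 0) +
      (if i = 1 then (a * c 0 - 2 * c 1) / (4 * b - a ^ 2) else 0))) (fun _ => 0) :
      MI (n + 2) → F) (Sum.inl (Sum.inr 1)) = (a * c 0 - 2 * c 1) / (4 * b - a ^ 2) := by
    show (if (1 : Fin (n + 2)) = 0 then _ else 0) + (if (1 : Fin (n + 2)) = 1 then _ else 0) = _
    rw [if_neg Fin.zero_ne_one.symm, if_pos rfl, zero_add]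
  have hinv : (4 * b - a ^ 2) * (4 * b - a ^ 2)⁻¹ = 1 := mul_inv_cancel₀ hD
  ext j
  fin_cases j
  · show -2 * _ - a * _ = c 0
    rw [e0, e1, div_eq_mul_inv, div_eq_mul_inv]
    linear_combination (c 0) * hinv
  · show -a * _ - 2 * b * _ = c 1
    rw [e0, e1, div_eq_mul_inv, div_eq_mul_inv]
    linear_combination (c 1) * hinv

theorem N3M_sq_eq (n : ℕ) (a b : F) :
    N3M F n a b * N3M F n a b = phi3 F n ∘ₗ psi3 F n a b := by
  apply LinearMap.ext
  intro w
  show N3M F n a b (N3M F n a b w) = phi3 F n (psi3 F n a b w)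
  ext ((i | i) | j)
  · rw [N3M_pp]
    simp only [N3M_s, N3M_t, N3M_qq]
    show _ = (if i = 0 then
        (-2 * w (Sum.inl (Sum.inr 0)) - a * w (Sum.inl (Sum.inr 1))) else 0) +
      (if i = 1 then (-a * w (Sum.inl (Sum.inr 0)) - 2 * b * w (Sum.inl (Sum.inr 1))) else 0)
    split_ifs <;> ring
  · rfl
  · show (if j = 0 then N3M F n a b w (Sum.inl (Sum.inr 0))
      else N3M F n a b w (Sum.inl (Sum.inr 1))) = 0
    simp only [N3M_qq]
    simp

/-- the projection `u ↦ (q, (s, t))` -/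
def pi3 (F : Type u) [Field F] (n : ℕ) : (MI (n + 2) → F) →ₗ[F] (Fin (n + 2) ⊕ Fin 2 → F) :=
  LinearMap.funLeft F F
    (Sum.elim (fun i => Sum.inl (Sum.inr i)) (fun j => Sum.inr j) : Fin (n + 2) ⊕ Fin 2 → MI (n + 2))

theorem sg_ne_zero (d : ℕ) (i : Fin d) : sg F d i ≠ 0 := by
  intro h0
  have h2 := sg_mul_self (F := F) d i
  rw [h0, zero_mul] at h2
  exact zero_ne_one h2

theorem N3M_ker (n : ℕ) (hn : (n + 2) % 2 = 0) (a b : F) (h2 : (2 : F) ≠ 0)
    (hD : 4 * b - a ^ 2 ≠ 0) :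
    LinearMap.ker (N3M F n a b) = LinearMap.ker (pi3 F n) := by
  ext w
  rw [LinearMap.mem_ker, LinearMap.mem_ker]
  constructor
  · intro h
    have hq0 : w (Sum.inl (Sum.inr 0)) = 0 := by
      have h' := congrFun h (Sum.inr 0)
      rw [N3M_s] at h'
      exact h'
    have hq1 : w (Sum.inl (Sum.inr 1)) = 0 := by
      have h' := congrFun h (Sum.inr 1)
      rw [N3M_t] at h'
      exact h'
    have h0 := congrFun h (Sum.inl (Sum.inl 0))
    have h1 := congrFun h (Sum.inl (Sum.inl 1))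
    rw [N3M_pp, Pi.zero_apply] at h0 h1
    have ht0 : ¬ 2 ≤ (tw (n + 2) (0 : Fin (n + 2))).val := by
      rw [tw_val (n + 2) hn]
      simp
    have ht1 : ¬ 2 ≤ (tw (n + 2) (1 : Fin (n + 2))).val := by
      rw [tw_val (n + 2) hn]
      simp
    rw [if_pos rfl, if_neg Fin.zero_ne_one, if_neg ht0, hq0, hq1] at h0
    rw [if_neg Fin.zero_ne_one.symm, if_pos rfl, if_neg ht1, hq1] at h1
    have ht : w (Sum.inr 1) = 0 := by
      have h3 : (4 * b - a ^ 2) * w (Sum.inr 1) = 0 := by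
        linear_combination (-2 : F) * h1 + a * h0
      exact (mul_eq_zero.mp h3).resolve_left hD
    have hs : w (Sum.inr 0) = 0 := by
      have h3 : (2 : F) * w (Sum.inr 0) = 0 := by
        rw [ht] at h0
        linear_combination -h0
      exact (mul_eq_zero.mp h3).resolve_left h2
    funext x
    rcases x with j | j
    · show w (Sum.inl (Sum.inr j)) = 0
      by_cases hj : 2 ≤ j.val
      · have hv := tw_val (n + 2) hn j
        have hj' := congrFun h (Sum.inl (Sum.inl (tw (n + 2) j)))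
        rw [N3M_pp, Pi.zero_apply, tw_tw (n + 2) hn] at hj'
        have hne0 : tw (n + 2) j ≠ 0 := by
          intro e
          have := congrArg Fin.val e
          rw [hv] at this
          simp at this
          split_ifs at this <;> omega
        have hne1 : tw (n + 2) j ≠ 1 := by
          intro e
          have := congrArg Fin.val e
          rw [hv] at this
          simp at this
          split_ifs at this <;> omega
        rw [if_neg hne0, if_neg hne1, if_pos hj, zero_add, zero_add] at hj'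
        exact (mul_eq_zero.mp hj').resolve_left (sg_ne_zero _ _)
      · have hj01 : j.val = 0 ∨ j.val = 1 := by omega
        rcases hj01 with h' | h'
        · have : j = 0 := Fin.ext (by rw [h']; rfl)
          rw [this]
          exact hq0
        · have : j = 1 := Fin.ext (by rw [h']; rfl)
          rw [this]
          exact hq1
    · show w (Sum.inr j) = 0
      fin_cases j
      · exact hs
      · exact ht
  · intro h
    apply N3M_eq_zero
    · intro i
      exact congrFun h (Sum.inl i)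
    · exact congrFun h (Sum.inr 0)
    · exact congrFun h (Sum.inr 1)

theorem N3M_finrank (n : ℕ) (hn : (n + 2) % 2 = 0) (a b : F) (h2 : (2 : F) ≠ 0)
    (hD : 4 * b - a ^ 2 ≠ 0) :
    finrank F ↥(LinearMap.range (N3M F n a b)) = n + 4 := by
  have h1 := LinearMap.finrank_range_add_finrank_ker (N3M F n a b)
  have h2' := LinearMap.finrank_range_add_finrank_ker (pi3 F n)
  rw [N3M_ker n hn a b h2 hD] at h1
  have hinj : Function.Injective
      (Sum.elim (fun i => Sum.inl (Sum.inr i)) (fun j => Sum.inr j) :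
        Fin (n + 2) ⊕ Fin 2 → MI (n + 2)) := by
    rintro (i | i) (j | j) hij
    · exact congrArg Sum.inl (Sum.inr_injective (Sum.inl_injective hij))
    · exact absurd hij (by simp)
    · exact absurd hij (by simp)
    · exact congrArg Sum.inr (Sum.inr_injective hij)
  have h3 : LinearMap.range (pi3 F n) = ⊤ :=
    LinearMap.range_eq_top.mpr (LinearMap.funLeft_surjective_of_injective F F _ hinj)
  rw [h3, finrank_top, Module.finrank_fintype_fun_eq_card, Fintype.card_sum, Fintype.card_fin,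
    Fintype.card_fin] at h2'
  omega

end

/-- **ND-UEX3M**. -/
theorem uex3M : StUex3M.{u} := by
  intro F _ k a b h2 han hk hk2
  obtain ⟨n, rfl⟩ : ∃ n, k = n + 2 := ⟨k - 2, by omega⟩
  have hn : (n + 2) % 2 = 0 := Nat.even_iff.mp hk
  have hD : 4 * b - a ^ 2 ≠ 0 := by
    intro h
    have h1 := (han (-a) 2 (by linear_combination h)).2
    exact h2 h1
  refine ⟨unitOfNil (N3M F n a b) (N3M_cube n a b), ?_, ?_, ?_, ?_⟩
  · exact unitOfNil_mem _ _ _ (fun w => N3M_quad n hn a b w)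
  · rw [toLin'_unitOfNil]
    exact N3M_cube n a b
  · rw [toLin'_unitOfNil, N3M_sq_eq]
    have h := finrank_range_comp (phi3 F n) (psi3 F n a b) (phi3_inj n) (psi3_surj n a b hD)
    rw [h, Module.finrank_fin_fun]
  · rw [toLin'_unitOfNil, N3M_finrank n hn a b h2 hD]
    omega

example : Cfsg.Agent.H86.Nd.StUex3M.{u} := uex3M

end Cfsg.Agent.H28.Nd

#print axioms Cfsg.Agent.H28.Nd.uex3M
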