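import Mathlib
import Cfsg.Agent.H11.AbNormalCyclic
import Cfsg.Agent.Lib.Helper30.Generation
import Cfsg.Agent.H3.Critical
import Cfsg.Agent.H3.Alperin
import Cfsg.Agent.H13.Basic
import Cfsg.Prelude.Def_CaseTheorems
import Cfsg.Prelude.Def_Transfer

/-!
# Normal elementary abelian subgroups of order `p ^ 2` in `p`-groups of rank `> 2` (helper28)
-/

set_option autoImplicit false

namespace Cfsg.Agent.H28

/-- A subgroup has `p`-rank `> n` iff it contains an elementary abelian subgroup of order `> p ^ n`. -/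
theorem not_pRankLE_subgroup_iff {G : Type*} [Group G] (p n : ℕ) (X : Subgroup G) :
    ¬ Cfsg.PRankLE p n ↥X ↔ ∃ A : Subgroup G, A ≤ X ∧ IsMulCommutative A ∧ (∀ a ∈ A, a ^ p = 1) ∧
      p ^ n < Nat.card A := by
  unfold Cfsg.PRankLE
  constructor
  · intro h
    simp only [not_forall, not_le] at h
    obtain ⟨A, hA1, hA2, hA3⟩ := h
    refine ⟨A.map X.subtype, ?_, inferInstance, ?_, ?_⟩
    · rintro _ ⟨a, -, rfl⟩
      exact a.2
    · rintro _ ⟨a, ha, rfl⟩
      have := hA2 a ha
      have h2 := congrArg Subtype.val this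
      simpa using h2
    · rw [Subgroup.card_map_of_injective X.subtype_injective]
      exact hA3
  · rintro ⟨A, hAX, hA1, hA2, hA3⟩ h
    have h1 := h (A.subgroupOf X) inferInstance (by
      intro a ha
      rw [Subgroup.mem_subgroupOf] at ha
      apply Subtype.ext
      simpa using hA2 _ ha)
    have h2 : Nat.card (A.subgroupOf X) = Nat.card A :=
      Nat.card_congr (Subgroup.subgroupOfEquivOfLe hAX).toEquiv
    omega

/-- A finite group with a cyclic subgroup of index `2` has `2`-rank at most `2`. -/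
theorem pRankLE_two_of_card_eq_two_mul_orderOf {P : Type*} [Group P] [Finite P] (x : P)
    (hx : Nat.card P = 2 * orderOf x) : Cfsg.PRankLE 2 2 P := by
  intro F hFc hFe
  set C := Subgroup.zpowers x with hC
  have h1 : Nat.card (C ⊓ F : Subgroup P) ≤ 2 := by
    have hcyc : IsCyclic (C ⊓ F : Subgroup P) := by
      have h0 : IsCyclic ((C ⊓ F).subgroupOf C) := inferInstance
      exact isCyclic_of_surjective (Subgroup.subgroupOfEquivOfLe (inf_le_left : C ⊓ F ≤ C)).toMonoidHom
        (Subgroup.subgroupOfEquivOfLe (inf_le_left : C ⊓ F ≤ C)).surjective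
    obtain ⟨g, hg⟩ := hcyc.exists_generator
    have hcard : orderOf g = Nat.card (C ⊓ F : Subgroup P) := orderOf_eq_card_of_forall_mem_zpowers hg
    rw [← hcard]
    have hg2 : g ^ 2 = 1 := Subtype.ext (hFe g.1 g.2.2)
    exact Nat.le_of_dvd (by norm_num) (orderOf_dvd_of_pow_eq_one hg2)
  have hidx : C.index = 2 := by
    have h3 := Subgroup.card_mul_index C
    rw [hC, Nat.card_zpowers, hx] at h3
    have hpos : 0 < orderOf x := orderOf_pos x
    have : orderOf x * (Subgroup.zpowers x).index = orderOf x * 2 := by rw [h3]; ring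
    exact Nat.eq_of_mul_eq_mul_left hpos this
  have h2 : C.relIndex F ≤ 2 := by
    have h4 : C.relIndex F ≤ C.relIndex ⊤ :=
      Subgroup.relIndex_le_of_le_right le_top (by rw [Subgroup.relIndex_top_right, hidx]; norm_num)
    rwa [Subgroup.relIndex_top_right, hidx] at h4
  have h5 := Cfsg.Agent.H3.relIndex_mul_card_inf C F
  have : Nat.card F ≤ 2 * 2 := by
    rw [← h5]
    exact Nat.mul_le_mul h2 h1
  norm_num
  exact this

/-- Generalized quaternion, dihedral and quasi-dihedral groups have `2`-rank at most `2`. -/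
theorem pRankLE_two_of_struct {P : Type*} [Group P] [Finite P]
    (h : (∃ n : ℕ, Nonempty (P ≃* QuaternionGroup n)) ∨
      (∃ n : ℕ, 8 ≤ n ∧ Nonempty (P ≃* DihedralGroup n)) ∨ Cfsg.IsQuasiDihedral P) :
    Cfsg.PRankLE 2 2 P := by
  rcases h with ⟨n, ⟨e⟩⟩ | ⟨n, hn, ⟨e⟩⟩ | ⟨n, hn, hcard, x, y, hx, hy, hxy⟩
  · haveI : Finite (QuaternionGroup n) := Finite.of_equiv P e.toEquiv
    have hpos : 0 < orderOf (QuaternionGroup.a 1 : QuaternionGroup n) := orderOf_pos _
    rw [QuaternionGroup.orderOf_a_one] at hpos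
    haveI : NeZero n := ⟨by omega⟩
    apply pRankLE_two_of_card_eq_two_mul_orderOf (e.symm (QuaternionGroup.a 1))
    rw [MulEquiv.orderOf_eq, QuaternionGroup.orderOf_a_one, Nat.card_congr e.toEquiv,
      Nat.card_eq_fintype_card, QuaternionGroup.card]
    ring
  · apply pRankLE_two_of_card_eq_two_mul_orderOf (e.symm (DihedralGroup.r 1))
    rw [MulEquiv.orderOf_eq, DihedralGroup.orderOf_r_one, Nat.card_congr e.toEquiv,
      DihedralGroup.nat_card]
  · apply pRankLE_two_of_card_eq_two_mul_orderOf x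
    rw [hcard, hx, pow_succ]
    ring

/-- A noncyclic normal abelian subgroup of a finite `p`-group contains a normal elementary abelian
subgroup of order `p ^ 2` of the whole group. -/
theorem exists_normal_elemAb_sq_of_normal_abelian {P : Type*} [Group P] [Finite P] (p : ℕ)
    [Fact p.Prime] (hP : IsPGroup p P) (A : Subgroup P) (hAn : A.Normal)
    (hAc : IsMulCommutative A) (hAnc : ¬ IsCyclic A) :
    ∃ U : Subgroup P, U.Normal ∧ Cfsg.IsElementaryAbelian p U ∧ Nat.card U = p ^ 2 := by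
  have hpp : p.Prime := Fact.out
  have hcomm : ∀ a ∈ A, ∀ b ∈ A, a * b = b * a := fun a ha b hb =>
    congrArg Subtype.val (hAc.1.1 ⟨a, ha⟩ ⟨b, hb⟩)
  let V : Subgroup P :=
    { carrier := {a | a ∈ A ∧ a ^ p = 1}
      one_mem' := ⟨A.one_mem, one_pow _⟩
      mul_mem' := by
        rintro a b ⟨ha, ha'⟩ ⟨hb, hb'⟩
        refine ⟨A.mul_mem ha hb, ?_⟩
        have hab : Commute a b := hcomm a ha b hb
        show (a * b) ^ p = 1
        rw [hab.mul_pow, ha', hb', one_mul]
      inv_mem' := by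
        rintro a ⟨ha, ha'⟩
        exact ⟨A.inv_mem ha, by show a⁻¹ ^ p = 1; rw [inv_pow, ha', inv_one]⟩ }
  have hVmem : ∀ a, a ∈ V ↔ a ∈ A ∧ a ^ p = 1 := fun a => Iff.rfl
  have hVn : V.Normal := by
    constructor
    intro a ha g
    refine ⟨hAn.conj_mem a ha.1 g, ?_⟩
    show (g * a * g⁻¹) ^ p = 1
    rw [conj_pow, ha.2, mul_one, mul_inv_cancel]
  have := hVn
  -- two independent elements of order `p`
  letI : CommGroup A := { (inferInstance : Group A) with mul_comm := fun a b => hAc.1.1 a b }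
  obtain ⟨q, hq, x, y, hxq, hyq, hx1, hyx⟩ :=
    Cfsg.Agent.Lib.Helper30.exists_independent_of_not_isCyclic hAnc
  have hqp : q = p := by
    haveI : Fact q.Prime := ⟨hq⟩
    have hox : orderOf x = q := orderOf_eq_prime hxq hx1
    obtain ⟨k, hk⟩ := (hP.to_subgroup A) x
    have : q ∣ p ^ k := by rw [← hox]; exact orderOf_dvd_of_pow_eq_one hk
    exact (Nat.prime_dvd_prime_iff_eq hq hpp).mp (hq.dvd_of_dvd_pow this)
  rw [hqp] at hxq hyq
  have hxV : (x : P) ∈ V := ⟨x.2, by have := congrArg Subtype.val hxq; simpa using this⟩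
  have hyV : (y : P) ∈ V := ⟨y.2, by have := congrArg Subtype.val hyq; simpa using this⟩
  have hx1' : (x : P) ≠ 1 := fun h => hx1 (Subtype.ext h)
  have hox' : orderOf (x : P) = p := orderOf_eq_prime hxV.2 hx1'
  have hyx' : (y : P) ∉ Subgroup.zpowers (x : P) := by
    intro h
    apply hyx
    obtain ⟨i, hi⟩ := Subgroup.mem_zpowers_iff.mp h
    exact Subgroup.mem_zpowers_iff.mpr ⟨i, Subtype.ext (by simpa using hi)⟩
  have hVp : IsPGroup p V := hP.to_subgroup V
  obtain ⟨k, hk⟩ := IsPGroup.iff_card.mp hVp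
  have hVgt : p < Nat.card V := by
    by_contra hle
    push Not at hle
    have hle' : Subgroup.zpowers (x : P) ≤ V := by
      rw [Subgroup.zpowers_le]; exact hxV
    have := Subgroup.eq_of_le_of_card_ge hle' (by rw [Nat.card_zpowers, hox']; exact hle)
    exact hyx' (this ▸ hyV)
  have hk2 : 2 ≤ k := by
    by_contra hlt
    push Not at hlt
    have : p ^ k ≤ p ^ 1 := Nat.pow_le_pow_right hpp.pos (by omega)
    rw [pow_one] at this
    omega
  -- a central element of order `p` in `V`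
  have hVbot : V ≠ ⊥ := by
    intro h
    rw [h, Subgroup.card_bot] at hVgt
    have := hpp.one_lt
    omega
  obtain ⟨z, hzV, hzc, hz1⟩ := Cfsg.Agent.H3.normal_exists_central_order_p hP V hVbot
  have hzcen : z ∈ Subgroup.center P := hzc.1
  have hzq : z ^ p = 1 := hzc.2
  have hoz : orderOf z = p := orderOf_eq_prime hzq hz1
  have hZn : (Subgroup.zpowers z).Normal := by
    constructor
    intro n hn g
    have hnc' : n ∈ Subgroup.center P := by
      obtain ⟨i, rfl⟩ := hn
      exact Subgroup.zpow_mem _ hzcen i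
    have : g * n * g⁻¹ = n := by
      rw [(Subgroup.mem_center_iff.mp hnc') g, mul_inv_cancel_right]
    rw [this]; exact hn
  haveI := hZn
  set Z : Subgroup P := Subgroup.zpowers z with hZ
  have hZV : Z ≤ V := by rw [hZ, Subgroup.zpowers_le]; exact hzV
  have hZcard : Nat.card Z = p := by rw [hZ, Nat.card_zpowers, hoz]
  set W : Subgroup (P ⧸ Z) := V.map (QuotientGroup.mk' Z) with hW
  haveI hWn : W.Normal := Subgroup.Normal.map hVn _ (QuotientGroup.mk'_surjective Z)
  have hWbot : W ≠ ⊥ := by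
    intro h
    have hVZ : V ≤ Z := by
      intro v hv
      have : (QuotientGroup.mk' Z) v ∈ W := Subgroup.mem_map_of_mem _ hv
      rw [h, Subgroup.mem_bot] at this
      exact (QuotientGroup.eq_one_iff v).mp this
    have := Subgroup.card_le_of_le hVZ
    omega
  have hQ : IsPGroup p (P ⧸ Z) := hP.to_quotient Z
  obtain ⟨ζ, hζW, hζc, hζ1⟩ := Cfsg.Agent.H3.normal_exists_central_order_p hQ W hWbot
  obtain ⟨b, hbV, rfl⟩ := hζW
  have hζcen : (QuotientGroup.mk' Z) b ∈ Subgroup.center (P ⧸ Z) := hζc.1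
  have hoζ : orderOf ((QuotientGroup.mk' Z) b) = p := orderOf_eq_prime hζc.2 hζ1
  have hYn : (Subgroup.zpowers ((QuotientGroup.mk' Z) b)).Normal := by
    constructor
    intro n hn g
    have hnc' : n ∈ Subgroup.center (P ⧸ Z) := by
      obtain ⟨i, rfl⟩ := hn
      exact Subgroup.zpow_mem _ hζcen i
    have : g * n * g⁻¹ = n := by
      rw [(Subgroup.mem_center_iff.mp hnc') g, mul_inv_cancel_right]
    rw [this]; exact hn
  set U : Subgroup P := (Subgroup.zpowers ((QuotientGroup.mk' Z) b)).comap (QuotientGroup.mk' Z)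
    with hU
  have hUV : U ≤ V := by
    intro u hu
    obtain ⟨j, n, hn, rfl⟩ := Cfsg.Agent.H3.mem_comap_zpowers Z b u hu
    exact V.mul_mem (V.zpow_mem hbV j) (hZV hn)
  refine ⟨U, hYn.comap _, ⟨⟨⟨fun a b => Subtype.ext (hcomm _ (hUV a.2).1 _ (hUV b.2).1)⟩⟩,
    fun a ha => (hUV ha).2⟩, ?_⟩
  rw [hU, Cfsg.Agent.H3.card_comap_mk', hZcard, Nat.card_zpowers, hoζ]
  ring

/-- A finite `p`-group of `p`-rank `> 2` has a normal elementary abelian subgroup of order `p ^ 2`. -/
theorem exists_normal_elemAb_sq {P : Type*} [Group P] [Finite P] (p : ℕ) [Fact p.Prime]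
    (hP : IsPGroup p P) (hrk : ¬ Cfsg.PRankLE p 2 P) :
    ∃ U : Subgroup P, U.Normal ∧ Cfsg.IsElementaryAbelian p U ∧ Nat.card U = p ^ 2 := by
  have hpp : p.Prime := Fact.out
  by_cases hn : ∀ A : Subgroup P, A.Normal → IsMulCommutative A → IsCyclic A
  · exfalso
    have hnc : ¬ IsCyclic P := by
      intro hc
      apply hrk
      intro F hFc hFe
      haveI : IsCyclic F := inferInstance
      obtain ⟨g, hg⟩ := IsCyclic.exists_generator (α := F)
      have hcard : orderOf g = Nat.card F := orderOf_eq_card_of_forall_mem_zpowers hg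
      have hdvd : orderOf g ∣ p := orderOf_dvd_of_pow_eq_one (Subtype.ext (hFe g g.2))
      have h1 : orderOf g ≤ p := Nat.le_of_dvd hpp.pos hdvd
      have h2 : p ≤ p ^ 2 := by nlinarith [hpp.one_lt]
      omega
    obtain ⟨rfl, hs⟩ := Cfsg.Agent.H11.abelian_normal_cyclic_main p hP hn hnc
    exact hrk (pRankLE_two_of_struct hs)
  · push Not at hn
    obtain ⟨A, hAn, hAc, hAnc⟩ := hn
    exact exists_normal_elemAb_sq_of_normal_abelian p hP A hAn hAc hAnc

/-- If `U` is a normal elementary abelian subgroup of order `p ^ 2` of the `p`-group `P` and `E` is a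
subgroup of order `> p ^ 2`, then `C_E(U)` has order at least `p ^ 2`. -/
theorem sq_le_card_inf_centralizer {P : Type*} [Group P] [Finite P] (p : ℕ) [Fact p.Prime]
    (hP : IsPGroup p P) (U : Subgroup P) (hUn : U.Normal) (hUc : Nat.card U = p ^ 2)
    (E : Subgroup P) (hEc : p ^ 2 < Nat.card E) :
    p ^ 2 ≤ Nat.card (E ⊓ Subgroup.centralizer (U : Set P) : Subgroup P) := by
  have hpp : p.Prime := Fact.out
  haveI := hUn
  have hUbot : U ≠ ⊥ := by
    intro h
    rw [h, Subgroup.card_bot] at hUc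
    have := hpp.one_lt
    nlinarith
  obtain ⟨z, hzU, hzc, hz1⟩ := Cfsg.Agent.H3.normal_exists_central_order_p hP U hUbot
  have hzcen : z ∈ Subgroup.center P := hzc.1
  have hoz : orderOf z = p := orderOf_eq_prime hzc.2 hz1
  have hZU : Subgroup.zpowers z ≤ U := by rw [Subgroup.zpowers_le]; exact hzU
  have hex : ∃ u ∈ U, u ∉ Subgroup.zpowers z := by
    by_contra hcon
    push Not at hcon
    have : U ≤ Subgroup.zpowers z := hcon
    have h1 := Subgroup.card_le_of_le this
    rw [Nat.card_zpowers, hoz, hUc] at h1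
    have := hpp.one_lt
    nlinarith
  obtain ⟨u, huU, huz⟩ := hex
  have hu1 : u ≠ 1 := fun h => huz (h ▸ Subgroup.one_mem _)
  -- `U = ⟨z⟩ ⊔ ⟨u⟩`
  have hjoin : Subgroup.zpowers z ⊔ Subgroup.zpowers u = U := by
    have hle : Subgroup.zpowers z ⊔ Subgroup.zpowers u ≤ U :=
      sup_le hZU (by rw [Subgroup.zpowers_le]; exact huU)
    apply Subgroup.eq_of_le_of_card_ge hle
    have hJp : IsPGroup p (Subgroup.zpowers z ⊔ Subgroup.zpowers u : Subgroup P) :=
      hP.to_subgroup _
    obtain ⟨k, hk⟩ := IsPGroup.iff_card.mp hJp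
    have hgt : p < Nat.card (Subgroup.zpowers z ⊔ Subgroup.zpowers u : Subgroup P) := by
      by_contra hle2
      push Not at hle2
      have := Subgroup.eq_of_le_of_card_ge (le_sup_left : Subgroup.zpowers z ≤
        Subgroup.zpowers z ⊔ Subgroup.zpowers u) (by rw [Nat.card_zpowers, hoz]; exact hle2)
      apply huz
      rw [this]
      exact (le_sup_right : Subgroup.zpowers u ≤ _) (Subgroup.mem_zpowers u)
    have hk2 : 2 ≤ k := by
      by_contra hlt
      push Not at hlt
      have : p ^ k ≤ p ^ 1 := Nat.pow_le_pow_right hpp.pos (by omega)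
      rw [pow_one] at this
      omega
    rw [hUc, hk]
    exact Nat.pow_le_pow_right hpp.pos hk2
  have hcent : Subgroup.centralizer {u} ≤ Subgroup.centralizer (U : Set P) := by
    intro g hg
    have hgu : g * u = u * g := Subgroup.mem_centralizer_singleton_iff.mp hg
    have hle : U ≤ Subgroup.centralizer {g} := by
      rw [← hjoin]
      refine sup_le ?_ ?_
      · rw [Subgroup.zpowers_le, Subgroup.mem_centralizer_singleton_iff]
        exact (Subgroup.mem_center_iff.mp hzcen g).symm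
      · rw [Subgroup.zpowers_le, Subgroup.mem_centralizer_singleton_iff]
        exact hgu.symm
    rw [Subgroup.mem_centralizer_iff]
    intro h hh
    exact (Subgroup.mem_centralizer_singleton_iff.mp (hle hh))
  -- the orbit bound
  set S : Set P := {a | a ∈ U ∧ a ≠ 1} with hS
  have hScard : Nat.card S < p ^ 2 := by
    rw [← hUc]
    have hinj : Function.Injective (fun a : S => (⟨a.1, a.2.1⟩ : U)) := by
      intro a b hab
      have hab' : (⟨a.1, a.2.1⟩ : U) = ⟨b.1, b.2.1⟩ := hab
      have h3 : (a : P) = (b : P) := congrArg (fun t : U => (t : P)) hab'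
      exact Subtype.ext h3
    haveI : Fintype S := Fintype.ofFinite S
    haveI : Fintype U := Fintype.ofFinite U
    rw [Nat.card_eq_fintype_card, Nat.card_eq_fintype_card]
    apply Fintype.card_lt_of_injective_of_notMem _ hinj (b := (1 : U))
    rintro ⟨a, ha⟩
    exact a.2.2 (congrArg Subtype.val ha)
  have hrel := Cfsg.Agent.H3.relIndex_centralizer_le_card E u S (fun t _ =>
    ⟨hUn.conj_mem u huU t, fun h => hu1 (by
      have : u = t⁻¹ * (t * u * t⁻¹) * t := by group
      rw [this, h]; group)⟩)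
  set E₀ : Subgroup P := E ⊓ Subgroup.centralizer {u} with hE₀
  have hmul := Cfsg.Agent.H3.relIndex_mul_card_of_le (inf_le_left : E₀ ≤ E)
  have hEp : IsPGroup p E := hP.to_subgroup E
  obtain ⟨e, he⟩ := IsPGroup.iff_card.mp hEp
  obtain ⟨j, hj⟩ := IsPGroup.iff_card.mp (hP.to_subgroup E₀)
  have hdvd : E₀.relIndex E ∣ p ^ e := by rw [← he, ← hmul]; exact dvd_mul_right _ _
  obtain ⟨i, -, hi⟩ := (Nat.dvd_prime_pow hpp).mp hdvd
  have hi2 : i < 2 := by
    have : p ^ i < p ^ 2 := by rw [← hi]; exact lt_of_le_of_lt hrel hScard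
    exact (Nat.pow_lt_pow_iff_right hpp.one_lt).mp this
  have he3 : 2 < e := by
    rw [he] at hEc
    exact (Nat.pow_lt_pow_iff_right hpp.one_lt).mp hEc
  have hij : i + j = e := by
    rw [hi, hj, he, ← pow_add] at hmul
    exact Nat.pow_right_injective hpp.two_le hmul
  have hj2 : p ^ 2 ≤ Nat.card E₀ := by
    rw [hj]
    exact Nat.pow_le_pow_right hpp.pos (by omega)
  exact hj2.trans (Subgroup.card_le_of_le (inf_le_inf_left E hcent))

/-- The relation "commuting elementary abelian subgroups of order at least `p ^ 2`". -/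
theorem normal_rank_two_chain {P : Type*} [Group P] [Finite P] (p : ℕ) [Fact p.Prime]
    (hP : IsPGroup p P) (hrk : ¬ Cfsg.PRankLE p 2 P) :
    ∃ U : Subgroup P, U.Normal ∧ Cfsg.IsElementaryAbelian p U ∧ Nat.card ↥U = p ^ 2 ∧
      ∀ X : Subgroup P, Cfsg.IsElementaryAbelian p X → p ^ 2 ≤ Nat.card ↥X →
        (Relation.ReflTransGen (fun A B : Subgroup P => Cfsg.IsElementaryAbelian p A ∧
          p ^ 2 ≤ Nat.card ↥A ∧ Cfsg.IsElementaryAbelian p B ∧ p ^ 2 ≤ Nat.card ↥B ∧
          ∀ a ∈ A, ∀ b ∈ B, a * b = b * a) X U ↔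
          ¬ Cfsg.PRankLE p 2 ↥(Subgroup.centralizer (X : Set P))) := by
  have hpp : p.Prime := Fact.out
  obtain ⟨U, hUn, hU, hUc⟩ := exists_normal_elemAb_sq p hP hrk
  have hcommOf : ∀ A : Subgroup P, Cfsg.IsElementaryAbelian p A → ∀ a ∈ A, ∀ b ∈ A, a * b = b * a :=
    fun A hA a ha b hb => congrArg Subtype.val (hA.1.1.1 ⟨a, ha⟩ ⟨b, hb⟩)
  -- a pair of commuting elementary abelian subgroups
  have hstep : ∀ X A₁ : Subgroup P, Cfsg.IsElementaryAbelian p X → p ^ 2 ≤ Nat.card X →
      Cfsg.IsElementaryAbelian p A₁ → p ^ 2 ≤ Nat.card A₁ → (∀ a ∈ X, ∀ b ∈ A₁, a * b = b * a) →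
      (X = A₁ ∨ ¬ Cfsg.PRankLE p 2 ↥(Subgroup.centralizer (X : Set P))) := by
    intro X A₁ hX hXc hA₁ hA₁c hcomm
    have hW : Cfsg.IsElementaryAbelian p (X ⊔ A₁) := Cfsg.Agent.H13.ea_sup hX hA₁ hcomm
    have hWle : X ⊔ A₁ ≤ Subgroup.centralizer (X : Set P) := by
      refine sup_le ?_ ?_
      · intro a ha
        rw [Subgroup.mem_centralizer_iff]
        intro h hh
        exact hcommOf X hX h hh a ha
      · intro b hb
        rw [Subgroup.mem_centralizer_iff]
        intro h hh
        exact hcomm h hh b hb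
    by_cases hlt : p ^ 2 < Nat.card (X ⊔ A₁ : Subgroup P)
    · right
      rw [not_pRankLE_subgroup_iff]
      exact ⟨X ⊔ A₁, hWle, hW.1, hW.2, hlt⟩
    · left
      push Not at hlt
      have h1 : X = X ⊔ A₁ := Subgroup.eq_of_le_of_card_ge le_sup_left (hlt.trans hXc)
      have h2 : A₁ = X ⊔ A₁ := Subgroup.eq_of_le_of_card_ge le_sup_right (hlt.trans hA₁c)
      rw [h1]; exact h2.symm
  have hFwd : ∀ X : Subgroup P, Relation.ReflTransGen (fun A B : Subgroup P =>
      Cfsg.IsElementaryAbelian p A ∧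
      p ^ 2 ≤ Nat.card ↥A ∧ Cfsg.IsElementaryAbelian p B ∧ p ^ 2 ≤ Nat.card ↥B ∧
      ∀ a ∈ A, ∀ b ∈ B, a * b = b * a) X U →
      ¬ Cfsg.PRankLE p 2 ↥(Subgroup.centralizer (X : Set P)) := by
    intro X h
    induction h using Relation.ReflTransGen.head_induction_on with
    | refl =>
      have hr := hrk
      unfold Cfsg.PRankLE at hr
      push Not at hr
      obtain ⟨F, hFc, hFe, hFcard⟩ := hr
      have hF : Cfsg.IsElementaryAbelian p F := ⟨hFc, hFe⟩
      have hF₀c := sq_le_card_inf_centralizer p hP U hUn hUc F hFcard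
      set F₀ : Subgroup P := F ⊓ Subgroup.centralizer (U : Set P) with hF₀
      have hF₀ : Cfsg.IsElementaryAbelian p F₀ :=
        ⟨⟨⟨fun a b => Subtype.ext (hcommOf F hF _ a.2.1 _ b.2.1)⟩⟩, fun a ha => hFe a ha.1⟩
      have hcomm : ∀ a ∈ U, ∀ b ∈ F₀, a * b = b * a := by
        intro a ha b hb
        exact Subgroup.mem_centralizer_iff.mp hb.2 a ha
      rcases hstep U F₀ hU hUc.ge hF₀ hF₀c hcomm with h | h
      · -- `U = F₀ ≤ F`, so `F` centralizes `U`
        rw [not_pRankLE_subgroup_iff]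
        refine ⟨F, ?_, hFc, hFe, hFcard⟩
        intro f hf
        rw [Subgroup.mem_centralizer_iff]
        intro h' hh'
        have : h' ∈ F := by
          have : h' ∈ F₀ := h ▸ hh'
          exact this.1
        exact hcommOf F hF h' this f hf
      · exact h
    | head hab _ ih =>
      obtain ⟨hXe, hXc, hA₁e, hA₁c, hcomm⟩ := hab
      rcases hstep _ _ hXe hXc hA₁e hA₁c hcomm with h | h
      · rw [h]; exact ih
      · exact h
  refine ⟨U, hUn, hU, hUc, fun X hX hXc => ⟨hFwd X, fun h => ?_⟩⟩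
  rw [not_pRankLE_subgroup_iff] at h
  obtain ⟨E, hEle, hEc, hEe, hEcard⟩ := h
  have hE : Cfsg.IsElementaryAbelian p E := ⟨hEc, hEe⟩
  have hE₀c := sq_le_card_inf_centralizer p hP U hUn hUc E hEcard
  set E₀ : Subgroup P := E ⊓ Subgroup.centralizer (U : Set P) with hE₀
  have hE₀e : Cfsg.IsElementaryAbelian p E₀ :=
    ⟨⟨⟨fun a b => Subtype.ext (hcommOf E hE _ a.2.1 _ b.2.1)⟩⟩, fun a ha => hEe a ha.1⟩
  refine Relation.ReflTransGen.head (b := E) ⟨hX, hXc, hE, hEcard.le, ?_⟩
    (Relation.ReflTransGen.head (b := E₀) ⟨hE, hEcard.le, hE₀e, hE₀c, ?_⟩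
      (Relation.ReflTransGen.head (b := U) ⟨hE₀e, hE₀c, hU, hUc.ge, ?_⟩
        Relation.ReflTransGen.refl))
  · intro a ha b hb
    exact Subgroup.mem_centralizer_iff.mp (hEle hb) a ha
  · intro a ha b hb
    exact hcommOf E hE a ha b hb.1
  · intro a ha b hb
    exact (Subgroup.mem_centralizer_iff.mp ha.2 b hb).symm

end Cfsg.Agent.H28
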