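import Mathlib

/-!
# Two pieces on Sylow `11`-subgroups of a group of order `7920` (team project S2490, helper28)
-/

set_option autoImplicit false

namespace Cfsg.Agent.H28.Ord7920

open Subgroup

theorem card_sylow11 {G : Type*} [Group G] [Finite G] (hord : Nat.card G = 7920)
    (P : Sylow 11 G) : Nat.card P = 11 := by
  haveI : Fact (Nat.Prime 11) := ⟨by norm_num⟩
  obtain ⟨n, hn⟩ := IsPGroup.iff_card.mp P.isPGroup'
  have hdvd : Nat.card P ∣ Nat.card G := Subgroup.card_subgroup_dvd_card _
  have hidx : ¬ 11 ∣ (P : Subgroup G).index := P.not_dvd_index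
  have hmul : Nat.card P * (P : Subgroup G).index = Nat.card G := Subgroup.card_mul_index _
  rw [hn, hord] at hdvd
  rw [hn, hord] at hmul
  have hn1 : n = 1 := by
    rcases n with _ | _ | n
    · exfalso
      apply hidx
      rw [pow_zero, one_mul] at hmul
      rw [hmul]
      norm_num
    · rfl
    · exfalso
      have : 11 ^ 2 ∣ 7920 := (pow_dvd_pow 11 (by omega)).trans hdvd
      norm_num at this
  rw [hn, hn1, pow_one]

/-- **S2490-B1.** -/
theorem faithful_sylow {G : Type*} [Group G] [Finite G] (hord : Nat.card G = 7920)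
    (h11 : ∀ P : Sylow 11 G, ¬ (P : Subgroup G).Normal)
    (hN : ∀ N : Subgroup G, N.Normal → N ≠ ⊥ → 11 ∣ Nat.card N)
    (g : G) (hg : ∀ Q : Sylow 11 G, g • Q = Q) : g = 1 := by
  haveI : Fact (Nat.Prime 11) := ⟨by norm_num⟩
  by_contra hg1
  set K : Subgroup G := (MulAction.toPermHom G (Sylow 11 G)).ker with hK
  have hKmem : ∀ x : G, x ∈ K ↔ ∀ Q : Sylow 11 G, x • Q = Q := by
    intro x
    rw [hK, MonoidHom.mem_ker]
    constructor
    · intro h Q
      have := congrArg (fun σ => σ Q) h
      simpa using this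
    · intro h
      apply Equiv.ext
      intro Q
      exact h Q
  have hKne : K ≠ ⊥ := by
    intro h
    apply hg1
    have : g ∈ K := (hKmem g).mpr hg
    rw [h, Subgroup.mem_bot] at this
    exact this
  have hdvd := hN K (MonoidHom.normal_ker _) hKne
  obtain ⟨k, hk⟩ := exists_prime_orderOf_dvd_card' (G := K) 11 hdvd
  have hk' : orderOf (k : G) = 11 := by rw [Subgroup.orderOf_coe]; exact hk
  have hzp : IsPGroup 11 (zpowers (k : G)) := by
    apply IsPGroup.of_card (n := 1)
    rw [Nat.card_zpowers, hk', pow_one]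
  have hkQ : ∀ Q : Sylow 11 G, zpowers (k : G) ≤ Q := by
    intro Q
    have h1 : zpowers (k : G) ≤ normalizer ((Q : Subgroup G) : Set G) := by
      rw [zpowers_le]
      exact Sylow.smul_eq_iff_mem_normalizer.mp ((hKmem k).mp k.2 Q)
    have h2 : zpowers (k : G) ⊓ normalizer ((Q : Subgroup G) : Set G) = zpowers (k : G) ⊓ Q :=
      hzp.inf_normalizer_sylow Q
    rw [inf_eq_left.mpr h1] at h2
    exact inf_eq_left.mp h2.symm
  have hQeq : ∀ Q : Sylow 11 G, (Q : Subgroup G) = zpowers (k : G) := by
    intro Q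
    symm
    apply Subgroup.eq_of_le_of_card_ge (hkQ Q)
    rw [card_sylow11 hord Q, Nat.card_zpowers, hk']
  obtain ⟨P⟩ : Nonempty (Sylow 11 G) := inferInstance
  apply h11 P
  rw [← Subgroup.normalizer_eq_top_iff, eq_top_iff]
  intro x _
  refine Sylow.smul_eq_iff_mem_normalizer.mp ?_
  apply Sylow.ext
  rw [hQeq, hQeq]

/-- **S2490-B2.** -/
theorem sylow_card_ne_twelve {G : Type*} [Group G] [Finite G] (hord : Nat.card G = 7920)
    (hfaith : ∀ g : G, (∀ Q : Sylow 11 G, g • Q = Q) → g = 1)
    (hNC : ∀ P : Sylow 11 G, Nat.card (normalizer ((P : Subgroup G) : Set G)) ∣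
      10 * Nat.card (centralizer ((P : Subgroup G) : Set G))) :
    Nat.card (Sylow 11 G) ≠ 12 := by
  haveI : Fact (Nat.Prime 11) := ⟨by norm_num⟩
  intro h12
  obtain ⟨P⟩ : Nonempty (Sylow 11 G) := inferInstance
  have hP11 := card_sylow11 hord P
  have hidx : (normalizer ((P : Subgroup G) : Set G)).index = 12 := by
    have := Sylow.card_eq_index_normalizer P
    rw [h12] at this
    exact this.symm
  have hNcard : Nat.card (normalizer ((P : Subgroup G) : Set G)) = 660 := by
    have := Subgroup.card_mul_index (normalizer ((P : Subgroup G) : Set G))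
    rw [hidx, hord] at this
    omega
  set C := centralizer ((P : Subgroup G) : Set G) with hC
  have hC66 : 66 ≤ Nat.card C := by
    have h : 660 ∣ 10 * Nat.card C := by
      have := hNC P
      rw [hNcard] at this
      exact this
    have hpos : 0 < Nat.card C := Nat.card_pos
    have := Nat.le_of_dvd (by omega) h
    omega
  have hCN : ∀ c ∈ C, c • P = P := fun c hc =>
    Sylow.smul_eq_iff_mem_normalizer.mpr (Subgroup.centralizer_le_normalizer _ hc)
  have hcardX : Nat.card {Q : Sylow 11 G // Q ≠ P} = 11 := by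
    have h1 : Nat.card {Q : Sylow 11 G // Q ≠ P} = ({P}ᶜ : Set (Sylow 11 G)).ncard := rfl
    rw [h1, Set.ncard_compl, Set.ncard_singleton, h12]
  obtain ⟨Q, hQP⟩ : ∃ Q : Sylow 11 G, Q ≠ P := by
    by_contra hcon
    push Not at hcon
    have : Nat.card (Sylow 11 G) ≤ 1 :=
      Finite.card_le_one_iff_subsingleton.mpr ⟨fun a b => (hcon a).trans (hcon b).symm⟩
    omega
  let fC : C → {Q' : Sylow 11 G // Q' ≠ P} := fun c => ⟨(c : G) • Q, by
    intro h
    apply hQP
    have := hCN c c.2
    exact smul_left_cancel (c : G) (h.trans this.symm)⟩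
  have hnotinj : ¬ Function.Injective fC := by
    intro hinj
    have := Nat.card_le_card_of_injective fC hinj
    omega
  obtain ⟨c1, c2, heq, hne⟩ : ∃ c1 c2 : C, fC c1 = fC c2 ∧ c1 ≠ c2 := by
    unfold Function.Injective at hnotinj
    push Not at hnotinj
    exact hnotinj
  set c : G := (c2 : G)⁻¹ * c1 with hc
  have hcC : c ∈ C := mul_mem (inv_mem c2.2) c1.2
  have hc1 : c ≠ 1 := by
    intro h
    apply hne
    ext
    rw [hc, inv_mul_eq_one] at h
    exact h.symm
  have hcQ : c • Q = Q := by
    have : (c1 : G) • Q = (c2 : G) • Q := congrArg Subtype.val heq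
    rw [hc, mul_smul, this, inv_smul_smul]
  let fP : ↥(P : Subgroup G) → {Q' : Sylow 11 G // Q' ≠ P} := fun p => ⟨(p : G) • Q, by
    intro h
    apply hQP
    have : (p : G) • P = P := Sylow.smul_eq_iff_mem_normalizer.mpr (le_normalizer p.2)
    exact smul_left_cancel (p : G) (h.trans this.symm)⟩
  have hfPinj : Function.Injective fP := by
    intro p1 p2 h
    have h' : (p1 : G) • Q = (p2 : G) • Q := congrArg Subtype.val h
    by_contra hne
    set d : G := (p2 : G)⁻¹ * p1 with hd
    have hdP : d ∈ (P : Subgroup G) := mul_mem (inv_mem p2.2) p1.2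
    have hd1 : d ≠ 1 := by
      intro h
      apply hne
      ext
      rw [hd, inv_mul_eq_one] at h
      exact h.symm
    have hdQ : d • Q = Q := by rw [hd, mul_smul, h', inv_smul_smul]
    have hdN : d ∈ normalizer ((Q : Subgroup G) : Set G) :=
      Sylow.smul_eq_iff_mem_normalizer.mp hdQ
    have h2 : (P : Subgroup G) ⊓ normalizer ((Q : Subgroup G) : Set G) = (P : Subgroup G) ⊓ Q :=
      P.isPGroup'.inf_normalizer_sylow Q
    have hdPQ : d ∈ (P : Subgroup G) ⊓ (Q : Subgroup G) := by
      rw [← h2]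
      exact ⟨hdP, hdN⟩
    have hinf : (P : Subgroup G) ⊓ (Q : Subgroup G) = P := by
      have hle : (P : Subgroup G) ⊓ (Q : Subgroup G) ≤ P := inf_le_left
      have hdv : Nat.card ((P : Subgroup G) ⊓ (Q : Subgroup G) : Subgroup G) ∣ 11 := by
        have := Subgroup.card_dvd_of_le hle
        rw [hP11] at this
        exact this
      rcases (Nat.dvd_prime (by norm_num)).mp hdv with h1 | h11
      · exfalso
        apply hd1
        have := Subgroup.card_eq_one.mp h1
        rw [this] at hdPQ
        exact Subgroup.mem_bot.mp hdPQ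
      · exact Subgroup.eq_of_le_of_card_ge hle (by rw [h11, hP11])
    have hPQ : (P : Subgroup G) ≤ Q := by
      rw [← hinf]
      exact inf_le_right
    apply hQP
    exact (Sylow.ext (Subgroup.eq_of_le_of_card_ge hPQ
      (by rw [card_sylow11 hord Q, hP11]))).symm
  have hfPsurj : Function.Surjective fP :=
    (hfPinj.bijective_of_nat_card_le (by rw [hcardX, hP11])).2
  apply hc1
  apply hfaith
  intro Q'
  by_cases hQ' : Q' = P
  · rw [hQ']
    exact hCN c hcC
  · obtain ⟨p, hp⟩ := hfPsurj ⟨Q', hQ'⟩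
    have hp' : (p : G) • Q = Q' := congrArg Subtype.val hp
    rw [← hp', ← mul_smul]
    have hcomm : (p : G) * c = c * p := (Subgroup.mem_centralizer_iff.mp hcC) p p.2
    rw [← hcomm, mul_smul, hcQ]

end Cfsg.Agent.H28.Ord7920
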