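import Cfsg.Agent.H28.PLocal
import Cfsg.Agent.H14.Coprime

/-!
# `p`-constraint is inherited by normalizers of `p`-subgroups
-/

namespace Cfsg.Agent.H28

open Cfsg

universe u

section transport

/-- Triviality of the layer is transported along isomorphisms. -/
theorem layer_eq_bot_of_mulEquiv {A B : Type u} [Group A] [Group B] (e : A ≃* B)
    (h : layer B = ⊥) : layer A = ⊥ := by
  rw [layer_eq_bot_iff] at h ⊢
  intro K hK
  exact h _ (H27.isComponent_map_equiv e hK)

end transport

section finite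

variable {G : Type u} [Group G] [Finite G]

/-- If `F*(G) = O_p(G)` then `O_{p'}(G) = 1`. -/
theorem pPrimeCore_eq_bot_of_genFitting_eq_pCore (p : ℕ) [Fact p.Prime]
    (h : generalizedFittingSubgroup G = pCore p G) : pPrimeCore p G = ⊥ := by
  have hd : Disjoint (pPrimeCore p G) (pCore p G) := by
    apply Subgroup.disjoint_of_coprime_natCard
    obtain ⟨k, hk⟩ := IsPGroup.iff_card.1 (H60.isPGroup_pCore (G := G) p)
    rw [hk]; exact Nat.Coprime.pow_right k (H60.card_pPrimeCore_coprime p)
  have h1 : pPrimeCore p G ≤ Subgroup.centralizer (pCore p G : Set G) := by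
    intro x hx
    rw [Subgroup.mem_centralizer_iff]
    intro y hy
    exact (Subgroup.commute_of_normal_of_disjoint _ _ inferInstance inferInstance hd
      x y hx hy).eq.symm
  have h2 := centralizer_genFitting_le (G := G)
  rw [h] at h2
  have h3 : pPrimeCore p G ≤ pPrimeCore p G ⊓ pCore p G := le_inf le_rfl (h1.trans h2)
  rw [hd.eq_bot] at h3
  exact le_bot_iff.1 h3

/-- If `F*(G) = O_p(G)` then `E(G) = 1`. -/
theorem layer_eq_bot_of_genFitting_eq_pCore (p : ℕ) [Fact p.Prime]
    (h : generalizedFittingSubgroup G = pCore p G) : layer G = ⊥ := by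
  rw [layer_eq_bot_iff]
  intro K hK
  have hle : K ≤ pCore p G := h ▸ (isComponent_le_layer hK).trans layer_le_genFitting
  exact H27.isComponent_not_solvable hK
    (isSolvable_of_isPGroup ((H60.isPGroup_pCore p).to_le hle))

/-- In a `p`-constrained group, `F*(G / O_{p'}(G)) = O_p(G / O_{p'}(G))`. -/
theorem genFitting_quotient_eq_pCore_of_isPConstrained (p : ℕ) [Fact p.Prime]
    (h : IsPConstrained p G) :
    generalizedFittingSubgroup (G ⧸ pPrimeCore p G) = pCore p (G ⧸ pPrimeCore p G) := by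
  rw [genFitting_eq_fitting_of_layer_eq_bot (layer_eq_bot_of_isPConstrained p h)]
  exact le_antisymm
    (fitting_le_pCore_of_pPrimeCore_eq_bot p (H60.pPrimeCore_quotient_eq_bot p))
    (H27.pCore_le_fitting p)

/-- In a `p`-constrained group `G`, the normalizer `N` of a `p`-subgroup satisfies
`E(N / O_{p'}(N)) = 1` and `O_{p'}(N) ≤ O_{p'}(G)`. -/
theorem normalizer_of_isPConstrained (p : ℕ) [Fact p.Prime] (h : IsPConstrained p G)
    (P : Subgroup G) (hP : IsPGroup p P) :
    layer (↥(Subgroup.normalizer (P : Set G)) ⧸ pPrimeCore p ↥(Subgroup.normalizer (P : Set G))) = ⊥ ∧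
      (pPrimeCore p ↥(Subgroup.normalizer (P : Set G))).map
        (Subgroup.normalizer (P : Set G)).subtype ≤ pPrimeCore p G := by
  have hPb : IsPGroup p ↥(P.map (QuotientGroup.mk' (pPrimeCore p G))) := hP.map _
  have hF := genFitting_normalizer_eq_pCore_of_eq p
    (genFitting_quotient_eq_pCore_of_isPConstrained p h) _ hPb
  have hOb := pPrimeCore_eq_bot_of_genFitting_eq_pCore p hF
  have hEb := layer_eq_bot_of_genFitting_eq_pCore p hF
  let ψ : ↥(Subgroup.normalizer (P : Set G)) →*
      ↥(Subgroup.normalizer ((P.map (QuotientGroup.mk' (pPrimeCore p G)) :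
        Subgroup (G ⧸ pPrimeCore p G)) : Set (G ⧸ pPrimeCore p G))) :=
    ((QuotientGroup.mk' (pPrimeCore p G)).comp (Subgroup.normalizer (P : Set G)).subtype).codRestrict _
      (fun x => Subgroup.le_normalizer_map (QuotientGroup.mk' (pPrimeCore p G)) ⟨x, x.2, rfl⟩)
  have hψ : Function.Surjective ψ := by
    rintro ⟨y, hy⟩
    obtain ⟨g, rfl⟩ := QuotientGroup.mk'_surjective (pPrimeCore p G) y
    obtain ⟨n, hn, hng⟩ := H14.exists_mem_normalizer_of_mk_mem_normalizer hP
      (H60.card_pPrimeCore_coprime p) g hy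
    exact ⟨⟨n, hn⟩, Subtype.ext hng⟩
  have h1 : ∀ x ∈ pPrimeCore p ↥(Subgroup.normalizer (P : Set G)), ψ x = 1 := by
    intro x hx
    have hn : ((pPrimeCore p ↥(Subgroup.normalizer (P : Set G))).map ψ).Normal :=
      Subgroup.Normal.map inferInstance ψ hψ
    have hc : (Nat.card ((pPrimeCore p ↥(Subgroup.normalizer (P : Set G))).map ψ)).Coprime p :=
      Nat.Coprime.coprime_dvd_left (Subgroup.card_map_dvd _ ψ)
        (H60.card_pPrimeCore_coprime p)
    have hmem := H60.le_pPrimeCore hn hc ⟨x, hx, rfl⟩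
    rw [hOb] at hmem
    exact hmem
  have hkerO : ∀ x ∈ ψ.ker, (x : G) ∈ pPrimeCore p G := by
    intro x hx
    have h2 : ψ x = 1 := hx
    have h3 : (QuotientGroup.mk' (pPrimeCore p G)) (x : G) = 1 := congrArg Subtype.val h2
    exact (QuotientGroup.eq_one_iff _).1 h3
  have hker : ψ.ker = pPrimeCore p ↥(Subgroup.normalizer (P : Set G)) := by
    apply le_antisymm
    · apply H60.le_pPrimeCore (MonoidHom.normal_ker ψ)
      let ι : ↥ψ.ker →* ↥(pPrimeCore p G) :=
        ((Subgroup.normalizer (P : Set G)).subtype.comp ψ.ker.subtype).codRestrict _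
          (fun x => hkerO x x.2)
      have hι : Function.Injective ι := by
        intro a b hab
        apply Subtype.ext
        apply Subtype.ext
        have h9 : ((ι a : ↥(pPrimeCore p G)) : G) = ((ι b : ↥(pPrimeCore p G)) : G) := by rw [hab]
        exact h9
      exact Nat.Coprime.coprime_dvd_left (Subgroup.card_dvd_of_injective ι hι)
        (H60.card_pPrimeCore_coprime p)
    · intro x hx
      exact MonoidHom.mem_ker.2 (h1 x hx)
  refine ⟨?_, ?_⟩
  · have e1 := QuotientGroup.quotientKerEquivOfSurjective ψ hψ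
    have e2 : ↥(Subgroup.normalizer (P : Set G)) ⧸ pPrimeCore p ↥(Subgroup.normalizer (P : Set G)) ≃*
        ↥(Subgroup.normalizer (P : Set G)) ⧸ ψ.ker := QuotientGroup.quotientMulEquivOfEq hker.symm
    exact layer_eq_bot_of_mulEquiv (e2.trans e1) hEb
  · rintro _ ⟨x, hx, rfl⟩
    exact hkerO x (MonoidHom.mem_ker.2 (h1 x hx))

/-- **S1293.** -/
theorem pLayer_normalizer_eq_bot (p : ℕ) [Fact p.Prime] (hL : pLayer p G = ⊥) (P : Subgroup G)
    (hP : IsPGroup p P) :
    pLayer p ↥(Subgroup.normalizer (P : Set G)) = ⊥ ∧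
      (pPrimeCore p ↥(Subgroup.normalizer (P : Set G))).map
        (Subgroup.normalizer (P : Set G)).subtype ≤ pPrimeCore p G := by
  have h := (isPConstrained_iff_pLayer_eq_bot p).2 hL
  obtain ⟨h1, h2⟩ := normalizer_of_isPConstrained p h P hP
  exact ⟨(isPConstrained_iff_pLayer_eq_bot p).1 (isPConstrained_of_layer_eq_bot p h1), h2⟩

end finite

end Cfsg.Agent.H28
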