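import Mathlib
import Cfsg.Agent.H28.RKill
import Cfsg.Agent.H82.JtDich

/-!
# helper28: abstract kill of the four-group configuration (R1) (for S2953), case `V ≤ D`

`V` a TI four-group with `L ≤ N(V)`, `C_G(v) ≤ L` for `v ∈ V#`, `z ∈ V ∩ Z(S)`; `T < S`;
`K`, `O`, `D` as in `rkill'` (`K ∩ L ≤ O ⊴ K`, `K/O` without involutions, `T ∖ D` inverts
`K/O`, `D ≤ T` of index `≤ 2` normalized by `K` and `T`), `O` centralizes `z^(k⁻¹)`.
Key step `stC`: a conjugate `X` of `V` inside `T` but not inside `D` meets `D` in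
`⟨z^(k⁻¹) · z^k⟩`; so there is at most one such conjugate, and if `N_S(T)` centralizes that
element (`hRd`) the subgroup generated by the conjugates of `V` inside `D` is normalized by
`K`, `T` and `N_S(T)`.
-/

namespace Cfsg.Agent.H28.RKill

variable {G : Type*} [Group G]

/-- elements of a conjugate of a group of exponent 2 square to 1 -/
theorem sq_cj (V : Subgroup G) (hV2 : ∀ v ∈ V, v * v = 1) (g x : G)
    (hx : x ∈ V.map (MulAut.conj g).toMonoidHom) : x * x = 1 := by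
  have h1 := hV2 _ ((mem_cj V g x).mp hx)
  have e1 : x * x = g * ((g⁻¹ * x * g) * (g⁻¹ * x * g)) * g⁻¹ := by group
  rw [e1, h1]; group

/-- TI: two conjugates with a common nontrivial element are equal (one inclusion) -/
theorem cj_le_of_common (V L : Subgroup G) (hLN : L ≤ Subgroup.normalizer (V : Set G))
    (hTI : ∀ g : G, V ⊓ V.map (MulAut.conj g).toMonoidHom ≠ ⊥ → g ∈ L) (g h d : G)
    (hdg : d ∈ V.map (MulAut.conj g).toMonoidHom) (hdh : d ∈ V.map (MulAut.conj h).toMonoidHom)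
    (hd1 : d ≠ 1) : V.map (MulAut.conj h).toMonoidHom ≤ V.map (MulAut.conj g).toMonoidHom := by
  have hl : g⁻¹ * h ∈ L := by
    apply hTI
    intro hbot
    have hm : g⁻¹ * d * g ∈ V ⊓ V.map (MulAut.conj (g⁻¹ * h)).toMonoidHom := by
      refine Subgroup.mem_inf.mpr ⟨(mem_cj V g d).mp hdg, ?_⟩
      rw [mem_cj]
      have e : (g⁻¹ * h)⁻¹ * (g⁻¹ * d * g) * (g⁻¹ * h) = h⁻¹ * d * h := by group
      rw [e]; exact (mem_cj V h d).mp hdh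
    rw [hbot, Subgroup.mem_bot] at hm
    apply hd1
    have e : d = g * (g⁻¹ * d * g) * g⁻¹ := by group
    rw [e, hm]; group
  intro y hy
  rw [mem_cj] at hy ⊢
  have h3 := (conj_of_norm V _ (hLN hl)).1 _ hy
  have e : g⁻¹ * h * (h⁻¹ * y * h) * (g⁻¹ * h)⁻¹ = g⁻¹ * y * g := by group
  rw [e] at h3
  exact h3

/-- **Key step (C).** -/
theorem stC [Finite G] (V S L T K O D : Subgroup G) (z k : G)
    (hSL : S ≤ L)
    (hLN : L ≤ Subgroup.normalizer (V : Set G))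
    (hV4 : Nat.card ↥V = 4) (hV2 : ∀ v ∈ V, v * v = 1)
    (hCu : ∀ v ∈ V, v ≠ 1 → Subgroup.centralizer ({v} : Set G) ≤ L)
    (hzV : z ∈ V) (hz1 : z ≠ 1) (hzS : ∀ s ∈ S, s * z = z * s)
    (hTS : T ≤ S)
    (hKL : ∀ g ∈ K, g ∈ L → g ∈ O)
    (hOn : ∀ g ∈ K, ∀ o ∈ O, g * o * g⁻¹ ∈ O)
    (hsq : ∀ g ∈ K, g * g ∈ O → g ∈ O)
    (hOK : O ≤ K)
    (hkK : k ∈ K) (hkO : k ∉ O)
    (hinv : ∀ x ∈ T, x ∉ D → ∀ g ∈ K, x * g * x⁻¹ * g ∈ O)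
    (hDT : D ≤ T)
    (hDK : K ≤ Subgroup.normalizer (D : Set G))
    (hOz : ∀ o ∈ O, o * (k⁻¹ * z * k) = (k⁻¹ * z * k) * o)
    (g : G) (hg : V.map (MulAut.conj g).toMonoidHom ≤ T)
    (x : G) (hx : x ∈ V.map (MulAut.conj g).toMonoidHom) (hxD : x ∉ D)
    (e : G) (he : e ∈ V.map (MulAut.conj g).toMonoidHom) (heD : e ∈ D) (he1 : e ≠ 1) :
    e = (k⁻¹ * z * k) * (k * z * k⁻¹) := by
  have hTL : T ≤ L := hTS.trans hSL
  have hk' : k⁻¹ ∈ K := K.inv_mem hkK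
  have hzz : z * z = 1 := hV2 z hzV
  have hxT : x ∈ T := hg hx
  have hxx : x * x = 1 := sq_cj V hV2 g x hx
  -- (A): `k⁻¹ x k ∉ L`
  have hx'L : k⁻¹ * x * k ∉ L := by
    intro hL
    have ho : x * k * x⁻¹ * k ∈ O := hinv x hxT hxD k hkK
    have hm : k⁻¹ * (x * k * x⁻¹ * k) * k⁻¹ ∈ O := by
      apply hKL
      · exact K.mul_mem (K.mul_mem hk' (hOK ho)) hk'
      · have e1 : k⁻¹ * (x * k * x⁻¹ * k) * k⁻¹ = (k⁻¹ * x * k) * x⁻¹ := by group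
        rw [e1]; exact L.mul_mem hL (L.inv_mem (hTL hxT))
    have hn : k⁻¹ * (x * k * x⁻¹ * k) * k⁻¹⁻¹ ∈ O := hOn _ hk' _ ho
    have h3 : (k * k)⁻¹ ∈ O := by
      have e1 : (k * k)⁻¹ = (k⁻¹ * (x * k * x⁻¹ * k) * k⁻¹⁻¹)⁻¹ *
          (k⁻¹ * (x * k * x⁻¹ * k) * k⁻¹) := by group
      rw [e1]; exact O.mul_mem (O.inv_mem hn) hm
    exact hkO (hsq k hkK (by simpa using O.inv_mem h3))
  have he'D : k⁻¹ * e * k ∈ D := (conj_of_norm D k (hDK hkK)).2 e heD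
  have he'S : k⁻¹ * e * k ∈ S := hTS (hDT he'D)
  have he'L : k⁻¹ * e * k ∈ L := hSL he'S
  have he'1 : k⁻¹ * e * k ≠ 1 := by
    intro h
    apply he1
    have e1 : e = k * (k⁻¹ * e * k) * k⁻¹ := by group
    rw [e1, h]; group
  have hx'X : k⁻¹ * x * k ∈ V.map (MulAut.conj (k⁻¹ * g)).toMonoidHom := by
    rw [mem_cj]
    have e1 : (k⁻¹ * g)⁻¹ * (k⁻¹ * x * k) * (k⁻¹ * g) = g⁻¹ * x * g := by group
    rw [e1]; exact (mem_cj V g x).mp hx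
  have he'X : k⁻¹ * e * k ∈ V.map (MulAut.conj (k⁻¹ * g)).toMonoidHom := by
    rw [mem_cj]
    have e1 : (k⁻¹ * g)⁻¹ * (k⁻¹ * e * k) * (k⁻¹ * g) = g⁻¹ * e * g := by group
    rw [e1]; exact (mem_cj V g e).mp he
  have hze : (k⁻¹ * e * k) * z = z * (k⁻¹ * e * k) := hzS _ he'S
  -- `z` normalizes `X' = V^(k⁻¹ g)`
  have hzX : z * (k⁻¹ * x * k) * z⁻¹ ∈ V.map (MulAut.conj (k⁻¹ * g)).toMonoidHom := by
    have hve : (k⁻¹ * g)⁻¹ * (k⁻¹ * e * k) * (k⁻¹ * g) ∈ V := (mem_cj V _ _).mp he'X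
    have hve1 : (k⁻¹ * g)⁻¹ * (k⁻¹ * e * k) * (k⁻¹ * g) ≠ 1 := by
      intro h
      apply he'1
      have e1 : k⁻¹ * e * k =
          (k⁻¹ * g) * ((k⁻¹ * g)⁻¹ * (k⁻¹ * e * k) * (k⁻¹ * g)) * (k⁻¹ * g)⁻¹ := by group
      rw [e1, h]; group
    have hc : (k⁻¹ * g)⁻¹ * z * (k⁻¹ * g) ∈
        Subgroup.centralizer ({(k⁻¹ * g)⁻¹ * (k⁻¹ * e * k) * (k⁻¹ * g)} : Set G) := by
      rw [Subgroup.mem_centralizer_iff]
      intro w hw
      rw [Set.mem_singleton_iff.mp hw]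
      calc (k⁻¹ * g)⁻¹ * (k⁻¹ * e * k) * (k⁻¹ * g) * ((k⁻¹ * g)⁻¹ * z * (k⁻¹ * g))
          = (k⁻¹ * g)⁻¹ * ((k⁻¹ * e * k) * z) * (k⁻¹ * g) := by group
        _ = (k⁻¹ * g)⁻¹ * (z * (k⁻¹ * e * k)) * (k⁻¹ * g) := by rw [hze]
        _ = (k⁻¹ * g)⁻¹ * z * (k⁻¹ * g) * ((k⁻¹ * g)⁻¹ * (k⁻¹ * e * k) * (k⁻¹ * g)) := by
            group
    have hn := hLN (hCu _ hve hve1 hc)
    have h3 := (conj_of_norm V _ hn).1 _ ((mem_cj V _ _).mp hx'X)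
    rw [mem_cj]
    have e1 : (k⁻¹ * g)⁻¹ * (z * (k⁻¹ * x * k) * z⁻¹) * (k⁻¹ * g) =
        (k⁻¹ * g)⁻¹ * z * (k⁻¹ * g) * ((k⁻¹ * g)⁻¹ * (k⁻¹ * x * k) * (k⁻¹ * g)) *
          ((k⁻¹ * g)⁻¹ * z * (k⁻¹ * g))⁻¹ := by group
    rw [e1]; exact h3
  -- enumerate `X'`
  have hcard : Nat.card ↥(V.map (MulAut.conj (k⁻¹ * g)).toMonoidHom) = 4 := by
    rw [Subgroup.card_map_of_injective (MulAut.conj (k⁻¹ * g)).injective]; exact hV4
  have hx'1 : k⁻¹ * x * k ≠ 1 := fun h => hx'L (by rw [h]; exact L.one_mem)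
  have hne1 : k⁻¹ * e * k ≠ k⁻¹ * x * k := fun h => hx'L (by rw [← h]; exact he'L)
  have hxe1 : (k⁻¹ * x * k) * (k⁻¹ * e * k) ≠ 1 := by
    intro h
    apply hx'L
    have e1 : k⁻¹ * x * k = (k⁻¹ * e * k)⁻¹ := eq_inv_of_mul_eq_one_left h
    rw [e1]; exact L.inv_mem he'L
  have hcases := Cfsg.Agent.H82.Jt.four_elems _ hcard (k⁻¹ * e * k) (k⁻¹ * x * k)
    ((k⁻¹ * x * k) * (k⁻¹ * e * k)) he'X hx'X (Subgroup.mul_mem _ hx'X he'X) he'1 hx'1 hxe1 hne1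
    (by
      intro h
      have h' : 1 * (k⁻¹ * e * k) = (k⁻¹ * x * k) * (k⁻¹ * e * k) := by rw [one_mul]; exact h
      exact hx'1 (mul_right_cancel h').symm)
    (by
      intro h
      have h' : (k⁻¹ * x * k) * 1 = (k⁻¹ * x * k) * (k⁻¹ * e * k) := by rw [mul_one]; exact h
      exact he'1 (mul_left_cancel h').symm)
    (z * (k⁻¹ * x * k) * z⁻¹) hzX
  have hzx : z * (k⁻¹ * x * k) * z⁻¹ = (k⁻¹ * x * k) * (k⁻¹ * e * k) := by
    rcases hcases with h | h | h | h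
    · exfalso; exact hx'1 (conj_eq_one_iff.mp h)
    · exfalso
      apply hne1
      have e2 : z⁻¹ * (k⁻¹ * e * k) * z = k⁻¹ * e * k := by
        calc z⁻¹ * (k⁻¹ * e * k) * z = z⁻¹ * ((k⁻¹ * e * k) * z) := by group
          _ = z⁻¹ * (z * (k⁻¹ * e * k)) := by rw [hze]
          _ = k⁻¹ * e * k := by group
      calc k⁻¹ * e * k = z⁻¹ * (k⁻¹ * e * k) * z := e2.symm
        _ = z⁻¹ * (z * (k⁻¹ * x * k) * z⁻¹) * z := by rw [h]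
        _ = k⁻¹ * x * k := by group
    · exfalso
      apply hx'L
      apply hCu z hzV hz1
      rw [Subgroup.mem_centralizer_iff]
      intro w hw
      rw [Set.mem_singleton_iff.mp hw]
      calc z * (k⁻¹ * x * k) = z * (k⁻¹ * x * k) * z⁻¹ * z := by group
        _ = (k⁻¹ * x * k) * z := by rw [h]
    · exact h
  -- conjugate by `k`
  have hyx : (k * z * k⁻¹) * x * (k * z * k⁻¹)⁻¹ = x * e := by
    have e1 : (k * z * k⁻¹) * x * (k * z * k⁻¹)⁻¹ =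
        k * (z * (k⁻¹ * x * k) * z⁻¹) * k⁻¹ := by group
    rw [e1, hzx]; group
  have hxy : x * (k * z * k⁻¹) * x⁻¹ = k⁻¹ * z * k := by
    have ho : x * k * x⁻¹ * k ∈ O := hinv x hxT hxD k hkK
    have hxz : x * z * x⁻¹ = z := by
      have h := hzS x (hTS hxT)
      rw [h]; group
    calc x * (k * z * k⁻¹) * x⁻¹
        = (x * k * x⁻¹ * k) * (k⁻¹ * (x * z * x⁻¹) * k) * (x * k * x⁻¹ * k)⁻¹ := by group
      _ = (x * k * x⁻¹ * k) * (k⁻¹ * z * k) * (x * k * x⁻¹ * k)⁻¹ := by rw [hxz]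
      _ = (k⁻¹ * z * k) * (x * k * x⁻¹ * k) * (x * k * x⁻¹ * k)⁻¹ := by rw [hOz _ ho]
      _ = k⁻¹ * z * k := by group
  have hyy2 : (k * z * k⁻¹) * (k * z * k⁻¹) = 1 := by
    have e1 : (k * z * k⁻¹) * (k * z * k⁻¹) = k * (z * z) * k⁻¹ := by group
    rw [e1, hzz]; group
  have hxinv : x⁻¹ = x := inv_eq_of_mul_eq_one_left hxx
  have hyinv : (k * z * k⁻¹)⁻¹ = k * z * k⁻¹ := inv_eq_of_mul_eq_one_left hyy2
  have hxy' : x⁻¹ * (k * z * k⁻¹) * x = k⁻¹ * z * k := by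
    have h := hxy
    rw [hxinv] at h ⊢
    exact h
  calc e = x⁻¹ * (x * e) := by group
    _ = x⁻¹ * ((k * z * k⁻¹) * x * (k * z * k⁻¹)⁻¹) := by rw [hyx]
    _ = (x⁻¹ * (k * z * k⁻¹) * x) * (k * z * k⁻¹)⁻¹ := by group
    _ = (k⁻¹ * z * k) * (k * z * k⁻¹) := by rw [hxy', hyinv]

/-- **(C'):** a conjugate of `V` inside `T` and not inside `D` contains `d = z^(k⁻¹) z^k ≠ 1`. -/
theorem stC' [Finite G] (V S L T K O D : Subgroup G) (z k : G)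
    (hSL : S ≤ L)
    (hLN : L ≤ Subgroup.normalizer (V : Set G))
    (hV4 : Nat.card ↥V = 4) (hV2 : ∀ v ∈ V, v * v = 1)
    (hCu : ∀ v ∈ V, v ≠ 1 → Subgroup.centralizer ({v} : Set G) ≤ L)
    (hzV : z ∈ V) (hz1 : z ≠ 1) (hzS : ∀ s ∈ S, s * z = z * s)
    (hTS : T ≤ S)
    (hKL : ∀ g ∈ K, g ∈ L → g ∈ O)
    (hOn : ∀ g ∈ K, ∀ o ∈ O, g * o * g⁻¹ ∈ O)
    (hsq : ∀ g ∈ K, g * g ∈ O → g ∈ O)
    (hOK : O ≤ K)
    (hkK : k ∈ K) (hkO : k ∉ O)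
    (hinv : ∀ x ∈ T, x ∉ D → ∀ g ∈ K, x * g * x⁻¹ * g ∈ O)
    (hDT : D ≤ T)
    (hDK : K ≤ Subgroup.normalizer (D : Set G))
    (hD2 : ∀ a ∈ T, ∀ b ∈ T, a ∉ D → b ∉ D → a * b ∈ D)
    (hOz : ∀ o ∈ O, o * (k⁻¹ * z * k) = (k⁻¹ * z * k) * o)
    (g : G) (hg : V.map (MulAut.conj g).toMonoidHom ≤ T)
    (hgD : ¬ V.map (MulAut.conj g).toMonoidHom ≤ D) :
    (k⁻¹ * z * k) * (k * z * k⁻¹) ∈ V.map (MulAut.conj g).toMonoidHom ∧
      (k⁻¹ * z * k) * (k * z * k⁻¹) ≠ 1 := by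
  obtain ⟨x, hx, hxD⟩ := SetLike.not_le_iff_exists.mp hgD
  have hcard : Nat.card ↥(V.map (MulAut.conj g).toMonoidHom) = 4 := by
    rw [Subgroup.card_map_of_injective (MulAut.conj g).injective]; exact hV4
  obtain ⟨a, ha, b, hb, ha1, hb1, hab⟩ := Cfsg.Agent.H82.Jt.exists_two _ hcard
  obtain ⟨c, hc, hc1, hcx⟩ : ∃ c ∈ V.map (MulAut.conj g).toMonoidHom, c ≠ 1 ∧ c ≠ x := by
    by_cases h : a = x
    · exact ⟨b, hb, hb1, fun h' => hab (h.trans h'.symm)⟩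
    · exact ⟨a, ha, ha1, h⟩
  obtain ⟨e, he, heD, he1⟩ : ∃ e ∈ V.map (MulAut.conj g).toMonoidHom, e ∈ D ∧ e ≠ 1 := by
    by_cases h : c ∈ D
    · exact ⟨c, hc, h, hc1⟩
    · refine ⟨x * c, Subgroup.mul_mem _ hx hc, hD2 x (hg hx) c (hg hc) hxD h, ?_⟩
      intro h'
      apply hcx
      have hxx : x * x = 1 := sq_cj V hV2 g x hx
      have e1 : c = x⁻¹ := eq_inv_of_mul_eq_one_right h'
      rw [e1]; exact inv_eq_of_mul_eq_one_left hxx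
  have h3 := stC V S L T K O D z k hSL hLN hV4 hV2 hCu hzV hz1 hzS hTS hKL hOn hsq hOK hkK hkO
    hinv hDT hDK hOz g hg x hx hxD e he heD he1
  rw [← h3]; exact ⟨he, he1⟩

/-- **Abstract kill of (R1), case `V ≤ D`.** -/
theorem rkill4a [Finite G] (V S L T K O D : Subgroup G) (z k : G)
    (hSL : S ≤ L)
    (hLN : L ≤ Subgroup.normalizer (V : Set G))
    (hS : IsPGroup 2 ↥S)
    (hV4 : Nat.card ↥V = 4) (hV2 : ∀ v ∈ V, v * v = 1)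
    (hCu : ∀ v ∈ V, v ≠ 1 → Subgroup.centralizer ({v} : Set G) ≤ L)
    (hTI : ∀ g : G, V ⊓ V.map (MulAut.conj g).toMonoidHom ≠ ⊥ → g ∈ L)
    (hzV : z ∈ V) (hz1 : z ≠ 1) (hzS : ∀ s ∈ S, s * z = z * s)
    (hTS : T ≤ S) (hTne : T ≠ S)
    (hKL : ∀ g ∈ K, g ∈ L → g ∈ O)
    (hOn : ∀ g ∈ K, ∀ o ∈ O, g * o * g⁻¹ ∈ O)
    (hsq : ∀ g ∈ K, g * g ∈ O → g ∈ O)
    (hOK : O ≤ K)
    (hkK : k ∈ K) (hkO : k ∉ O)
    (hinv : ∀ x ∈ T, x ∉ D → ∀ g ∈ K, x * g * x⁻¹ * g ∈ O)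
    (hDT : D ≤ T)
    (hDK : K ≤ Subgroup.normalizer (D : Set G))
    (hDTn : T ≤ Subgroup.normalizer (D : Set G))
    (hD2 : ∀ a ∈ T, ∀ b ∈ T, a ∉ D → b ∉ D → a * b ∈ D)
    (hU : ∀ U : Subgroup G, U ≠ ⊥ → U ≤ T → K ≤ Subgroup.normalizer (U : Set G) →
      T ≤ Subgroup.normalizer (U : Set G) →
      ∀ y ∈ S, y ∈ Subgroup.normalizer (U : Set G) → y ∈ T)
    (hOz : ∀ o ∈ O, o * (k⁻¹ * z * k) = (k⁻¹ * z * k) * o)
    (hRd : (∃ g : G, (k⁻¹ * z * k) * (k * z * k⁻¹) ∈ V.map (MulAut.conj g).toMonoidHom) →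
      ∀ r ∈ S, r ∈ Subgroup.normalizer (T : Set G) →
        r * ((k⁻¹ * z * k) * (k * z * k⁻¹)) = ((k⁻¹ * z * k) * (k * z * k⁻¹)) * r)
    (hVD : V ≤ D) : False := by
  have hVne : wc V D ≠ ⊥ := by
    intro h
    have h3 : z ∈ wc V D := le_wc V D hVD hzV
    rw [h, Subgroup.mem_bot] at h3
    exact hz1 h3
  have hUK : K ≤ Subgroup.normalizer (wc V D : Set G) := by
    intro g hg
    have hgD := conj_of_norm D g (hDK hg)
    have hgD' := conj_of_norm D g⁻¹ (hDK (K.inv_mem hg))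
    apply wc_norm
    · intro h hh; exact cj_le V D D g h hgD.1 hh
    · intro h hh; exact cj_le V D D g⁻¹ h hgD'.1 hh
  have hUT : T ≤ Subgroup.normalizer (wc V D : Set G) := by
    intro t ht
    have htD := conj_of_norm D t (hDTn ht)
    have htD' := conj_of_norm D t⁻¹ (hDTn (T.inv_mem ht))
    apply wc_norm
    · intro h hh; exact cj_le V D D t h htD.1 hh
    · intro h hh; exact cj_le V D D t⁻¹ h htD'.1 hh
  obtain ⟨y, hyS, hyT, hy1, hy2⟩ := norm_grow T S hS hTS hTne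
  have hyN : y ∈ Subgroup.normalizer (T : Set G) := norm_of_conj T y hy1 hy2
  have hy'N : y⁻¹ ∈ Subgroup.normalizer (T : Set G) := Subgroup.inv_mem _ hyN
  have hmove : ∀ r ∈ S, r ∈ Subgroup.normalizer (T : Set G) → ∀ g : G,
      V.map (MulAut.conj g).toMonoidHom ≤ D → V.map (MulAut.conj (r * g)).toMonoidHom ≤ D := by
    intro r hrS hrN g hg
    have hrT := conj_of_norm T r hrN
    have hT' : V.map (MulAut.conj (r * g)).toMonoidHom ≤ T :=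
      cj_le V T T r g hrT.1 (hg.trans hDT)
    by_contra hnD
    obtain ⟨hd, hd1⟩ := stC' V S L T K O D z k hSL hLN hV4 hV2 hCu hzV hz1 hzS hTS hKL hOn hsq
      hOK hkK hkO hinv hDT hDK hD2 hOz (r * g) hT' hnD
    have hcomm := hRd ⟨r * g, hd⟩ r hrS hrN
    have hdg : (k⁻¹ * z * k) * (k * z * k⁻¹) ∈ V.map (MulAut.conj g).toMonoidHom := by
      rw [mem_cj] at hd ⊢
      have e1 : g⁻¹ * ((k⁻¹ * z * k) * (k * z * k⁻¹)) * g =
          (r * g)⁻¹ * (r * ((k⁻¹ * z * k) * (k * z * k⁻¹))) * g := by group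
      rw [e1, hcomm]
      have e2 : (r * g)⁻¹ * ((k⁻¹ * z * k) * (k * z * k⁻¹) * r) * g =
          (r * g)⁻¹ * ((k⁻¹ * z * k) * (k * z * k⁻¹)) * (r * g) := by group
      rw [e2]; exact hd
    exact hnD ((cj_le_of_common V L hLN hTI g (r * g) _ hdg hd hd1).trans hg)
  have hyNU : y ∈ Subgroup.normalizer (wc V D : Set G) := by
    apply wc_norm
    · exact hmove y hyS hyN
    · exact hmove y⁻¹ (S.inv_mem hyS) hy'N
  exact hyT (hU _ hVne ((wc_le V D).trans hDT) hUK hUT y hyS hyNU)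

end Cfsg.Agent.H28.RKill

#print axioms Cfsg.Agent.H28.RKill.stC
#print axioms Cfsg.Agent.H28.RKill.rkill4a
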