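import Mathlib
import Cfsg.Agent.H45.S8Defs0

/-!
# S8-INVCONJ (S1158, helper28 for helper45): all involutions are conjugate when a Sylow
2-subgroup `S` has order 8, `C(S) = S` and `|N(S)| = 168`.

An element `g` of order 7 of `N(S)` does not centralise `S`, so the seven conjugates
`g^i s₀ g^-i` of some `s₀ ∈ S` are distinct and exhaust `S ∖ 1`; every involution is conjugate
into `S` (Sylow).
-/

set_option autoImplicit false

namespace Cfsg.Agent.H28.S8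

open Cfsg.Agent.H45.S8
open scoped Pointwise

universe u

/-- every involution is conjugate into a given Sylow 2-subgroup -/
theorem inv_conj_into_sylow {G : Type u} [Group G] [Finite G] (S : Sylow 2 G) (z : G)
    (hz1 : z ≠ 1) (hz : z * z = 1) :
    ∃ c : G, c * z * c⁻¹ ∈ (S : Subgroup G) ∧ c * z * c⁻¹ ≠ 1 := by
  have ho : orderOf z = 2 := orderOf_eq_prime (by rw [pow_two]; exact hz) hz1
  have hp : IsPGroup 2 (Subgroup.zpowers z) := by
    apply IsPGroup.of_card (n := 1)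
    rw [Nat.card_zpowers, ho, pow_one]
  obtain ⟨Q, hQ⟩ := hp.exists_le_sylow
  obtain ⟨c, hc⟩ := MulAction.exists_smul_eq G Q S
  have hS : (S : Subgroup G) = MulAut.conj c • (Q : Subgroup G) := by
    rw [← hc]
    rfl
  refine ⟨c, ?_, ?_⟩
  · rw [hS]
    exact Subgroup.smul_mem_pointwise_smul z (MulAut.conj c) (Q : Subgroup G)
      (hQ (Subgroup.mem_zpowers z))
  · intro h
    apply hz1
    have h1 : z = c⁻¹ * (c * z * c⁻¹) * c := by group
    rw [h1, h]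
    group

theorem invConj : StInvConj.{u} := by
  intro G _ _ S hS hC hN z z' hz1 hz hz'1 hz'
  classical
  have h7 : (7 : ℕ).Prime := by norm_num
  have : Fact (7 : ℕ).Prime := ⟨h7⟩
  obtain ⟨g, hg⟩ := exists_prime_orderOf_dvd_card'
    (G := ↥(Subgroup.normalizer ((S : Subgroup G) : Set G))) 7 (by rw [hN]; norm_num)
  obtain ⟨g0, hg0⟩ : ∃ g0 : G, g0 = (g : G) := ⟨_, rfl⟩
  have hg0N : g0 ∈ Subgroup.normalizer ((S : Subgroup G) : Set G) := hg0 ▸ g.2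
  have hg0o : orderOf g0 = 7 := by rw [hg0, Subgroup.orderOf_coe, hg]
  have hpowN : ∀ i : ℕ, ∀ s ∈ (S : Subgroup G), g0 ^ i * s * (g0 ^ i)⁻¹ ∈ (S : Subgroup G) := by
    intro i s hs
    have h1 : g0 ^ i ∈ Subgroup.normalizer ((S : Subgroup G) : Set G) :=
      Subgroup.pow_mem _ hg0N i
    exact (Subgroup.mem_normalizer_iff.mp h1 s).mp hs
  have hg0S : g0 ∉ (S : Subgroup G) := by
    intro h
    have h1 : orderOf g0 ∣ Nat.card (S : Subgroup G) := by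
      have h2 := orderOf_dvd_natCard (⟨g0, h⟩ : (S : Subgroup G))
      rwa [Subgroup.orderOf_mk] at h2
    rw [hg0o, hS] at h1
    norm_num at h1
  have hex : ∃ s₀ ∈ (S : Subgroup G), g0 * s₀ ≠ s₀ * g0 := by
    by_contra hcon
    push Not at hcon
    apply hg0S
    rw [← hC, Subgroup.mem_centralizer_iff]
    intro s hs
    exact (hcon s hs).symm
  obtain ⟨s₀, hs₀, hne⟩ := hex
  have hs₀1 : s₀ ≠ 1 := by
    rintro rfl
    simp at hne
  have aux : ∀ i j : ℕ, i ≤ j → j < 7 →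
      g0 ^ i * s₀ * (g0 ^ i)⁻¹ = g0 ^ j * s₀ * (g0 ^ j)⁻¹ → i = j := by
    intro i j hij hj h
    by_contra hne'
    obtain ⟨d, hd⟩ : ∃ d, j = i + d := ⟨j - i, by omega⟩
    have hd0 : 0 < d := by omega
    have hd7 : d < 7 := by omega
    have hcomm : g0 ^ d * s₀ = s₀ * g0 ^ d := by
      rw [hd, pow_add] at h
      obtain ⟨a, ha⟩ : ∃ a : G, a = g0 ^ i := ⟨_, rfl⟩
      obtain ⟨b, hb⟩ : ∃ b : G, b = g0 ^ d := ⟨_, rfl⟩
      rw [← ha, ← hb] at h
      rw [← hb]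
      have h2 : s₀ = b * s₀ * b⁻¹ := by
        calc s₀ = a⁻¹ * (a * s₀ * a⁻¹) * a := by group
          _ = a⁻¹ * (a * b * s₀ * (a * b)⁻¹) * a := by rw [h]
          _ = b * s₀ * b⁻¹ := by group
      calc b * s₀ = b * s₀ * b⁻¹ * b := by group
        _ = s₀ * b := by rw [← h2]
    have hcop : Nat.Coprime d 7 := by
      rw [Nat.coprime_comm]
      refine (Nat.Prime.coprime_iff_not_dvd h7).mpr (fun hdvd => ?_)
      have := Nat.le_of_dvd hd0 hdvd
      omega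
    obtain ⟨k, hk⟩ : ∃ k : ℕ, (g0 ^ d) ^ k = g0 := by
      obtain ⟨k, -, hk⟩ := Nat.exists_mul_mod_eq_one_of_coprime hcop (by norm_num : 1 < 7)
      refine ⟨k, ?_⟩
      rw [← pow_mul, ← pow_mod_orderOf, hg0o, hk, pow_one]
    apply hne
    have h3 : Commute (g0 ^ d) s₀ := hcomm
    have h4 := h3.pow_left k
    rw [hk] at h4
    exact h4
  have key : ∀ i j : Fin 7, g0 ^ (i : ℕ) * s₀ * (g0 ^ (i : ℕ))⁻¹ =
      g0 ^ (j : ℕ) * s₀ * (g0 ^ (j : ℕ))⁻¹ → i = j := by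
    intro i j h
    apply Fin.ext
    rcases le_total (i : ℕ) (j : ℕ) with hij | hij
    · exact aux i j hij j.2 h
    · exact (aux j i hij i.2 h.symm).symm
  -- the seven conjugates exhaust `S ∖ 1`
  obtain ⟨A, hA⟩ : ∃ A : Set G,
      A = Set.range (fun i : Fin 7 => g0 ^ (i : ℕ) * s₀ * (g0 ^ (i : ℕ))⁻¹) := ⟨_, rfl⟩
  have hAsub : A ⊆ ((S : Subgroup G) : Set G) \ {1} := by
    rw [hA]
    rintro _ ⟨i, rfl⟩
    refine ⟨hpowN i s₀ hs₀, ?_⟩
    rw [Set.mem_singleton_iff]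
    intro h
    apply hs₀1
    have h' : g0 ^ (i : ℕ) * s₀ * (g0 ^ (i : ℕ))⁻¹ = 1 := h
    obtain ⟨a, ha⟩ : ∃ a : G, a = g0 ^ (i : ℕ) := ⟨_, rfl⟩
    rw [← ha] at h'
    calc s₀ = a⁻¹ * (a * s₀ * a⁻¹) * a := by group
      _ = 1 := by rw [h']; group
  have hAcard : A.ncard = 7 := by
    rw [hA, ← Set.image_univ, Set.ncard_image_of_injective _ (fun i j h => key i j h),
      Set.ncard_univ, Nat.card_eq_fintype_card, Fintype.card_fin]
  have hScard : (((S : Subgroup G) : Set G) \ {1}).ncard = 7 := by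
    rw [Set.ncard_sdiff_singleton_of_mem (Subgroup.one_mem _)]
    have h1 : (((S : Subgroup G) : Set G)).ncard = 8 := by
      rw [← Nat.card_coe_set_eq]
      exact hS
    rw [h1]
  have hAeq : A = ((S : Subgroup G) : Set G) \ {1} :=
    Set.eq_of_subset_of_ncard_le hAsub (by rw [hAcard, hScard])
  have hall : ∀ t ∈ (S : Subgroup G), t ≠ 1 →
      ∃ i : Fin 7, g0 ^ (i : ℕ) * s₀ * (g0 ^ (i : ℕ))⁻¹ = t := by
    intro t ht ht1
    have h1 : t ∈ A := by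
      rw [hAeq]
      exact ⟨ht, ht1⟩
    rw [hA] at h1
    exact h1
  obtain ⟨c₁, hc₁S, hc₁1⟩ := inv_conj_into_sylow S z hz1 hz
  obtain ⟨c₂, hc₂S, hc₂1⟩ := inv_conj_into_sylow S z' hz'1 hz'
  obtain ⟨i, hi⟩ := hall _ hc₁S hc₁1
  obtain ⟨j, hj⟩ := hall _ hc₂S hc₂1
  obtain ⟨a, ha⟩ : ∃ a : G, a = g0 ^ (i : ℕ) := ⟨_, rfl⟩
  obtain ⟨b, hb⟩ : ∃ b : G, b = g0 ^ (j : ℕ) := ⟨_, rfl⟩
  rw [← ha] at hi
  rw [← hb] at hj
  refine ⟨c₂⁻¹ * b * a⁻¹ * c₁, ?_⟩
  have h1 : s₀ = a⁻¹ * (c₁ * z * c₁⁻¹) * a := by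
    rw [← hi]
    group
  have h2 : z' = c₂⁻¹ * (b * s₀ * b⁻¹) * c₂ := by
    rw [hj]
    group
  rw [h2, h1]
  group

example : Cfsg.Agent.H45.S8.StInvConj.{u} := invConj

end Cfsg.Agent.H28.S8
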