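import Mathlib
import Cfsg.Agent.H97.SpRDefs

set_option autoImplicit false

/-!
# S2281-FIN (helper28, for helper97): a subgroup of `Sp` containing the upper Siegel radical,
the Levi factor up to the radical, and `u₃` is everything.
-/

namespace Cfsg.Agent.H28.SpR

open Matrix Cfsg.Agent.H97.SpR

variable {F : Type*} [Field F]

/-- S2281-FIN. -/
theorem top_of_parts [Fintype F] (m : ℕ) (H : Subgroup (Matrix.symplecticGroup (Fin (m + 3)) F))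
    (hmod : ∀ (K : AddSubgroup (Matrix (Fin (m + 3)) (Fin (m + 3)) F)),
      (∀ (g : Matrix.SpecialLinearGroup (Fin (m + 3)) F)
        (S : Matrix (Fin (m + 3)) (Fin (m + 3)) F), S ∈ K →
        (g : Matrix (Fin (m + 3)) (Fin (m + 3)) F) * S *
          (g : Matrix (Fin (m + 3)) (Fin (m + 3)) F)ᵀ ∈ K) →
      ∀ X : Matrix (Fin (m + 3)) (Fin (m + 3)) F, X ∈ K → Xᵀ = X →
        ∀ j : Fin (m + 3), X j j ≠ 0 →
          ∀ S : Matrix (Fin (m + 3)) (Fin (m + 3)) F, Sᵀ = S → S ∈ K)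
    (hU : ∀ S : Matrix (Fin (m + 3)) (Fin (m + 3)) F, Sᵀ = S → ∃ x ∈ H,
      (x : Matrix (Fin (m + 3) ⊕ Fin (m + 3)) (Fin (m + 3) ⊕ Fin (m + 3)) F) =
        Matrix.fromBlocks 1 S 0 1)
    (hd : ∀ g : Matrix.SpecialLinearGroup (Fin (m + 3)) F,
      ∃ S : Matrix (Fin (m + 3)) (Fin (m + 3)) F, Sᵀ = S ∧ ∃ x ∈ H,
        (x : Matrix (Fin (m + 3) ⊕ Fin (m + 3)) (Fin (m + 3) ⊕ Fin (m + 3)) F) = dU g S)
    (u₃ : Matrix.symplecticGroup (Fin (m + 3)) F)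
    (hu₃ : (u₃ : Matrix (Fin (m + 3) ⊕ Fin (m + 3)) (Fin (m + 3) ⊕ Fin (m + 3)) F) = u3M F m)
    (h3 : u₃ ∈ H) : H = ⊤ := by
  classical
  have hD : ∀ h : Matrix.SpecialLinearGroup (Fin (m + 3)) F, ∃ x ∈ H,
      (x : Matrix (Fin (m + 3) ⊕ Fin (m + 3)) (Fin (m + 3) ⊕ Fin (m + 3)) F) =
        Matrix.fromBlocks (h : Matrix (Fin (m + 3)) (Fin (m + 3)) F) 0 0
          ((h⁻¹ : Matrix.SpecialLinearGroup (Fin (m + 3)) F) :
            Matrix (Fin (m + 3)) (Fin (m + 3)) F)ᵀ := by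
    intro h
    obtain ⟨S, hS, x, hx, hxc⟩ := hd h
    obtain ⟨y, hy, hyc⟩ := hU (-S) (by rw [Matrix.transpose_neg, hS])
    refine ⟨x * y, H.mul_mem hx hy, ?_⟩
    show (x : Matrix (Fin (m + 3) ⊕ Fin (m + 3)) (Fin (m + 3) ⊕ Fin (m + 3)) F) *
      (y : Matrix (Fin (m + 3) ⊕ Fin (m + 3)) (Fin (m + 3) ⊕ Fin (m + 3)) F) = _
    rw [hxc, hyc, dU_eq_mul, Matrix.mul_assoc, Matrix.fromBlocks_multiply 1 S 0 1]
    simp [Matrix.fromBlocks_one]
  obtain ⟨dJ, hdJ, hdJc⟩ := hD (uniSL (m + 3) (1 : F))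
  have hL0 : ∃ x ∈ H, (x : Matrix (Fin (m + 3) ⊕ Fin (m + 3)) (Fin (m + 3) ⊕ Fin (m + 3)) F) =
      Matrix.fromBlocks 1 0 (-(Matrix.single (0 : Fin (m + 3)) (0 : Fin (m + 3)) (1 : F))) 1 := by
    refine ⟨dJ * u₃, H.mul_mem hdJ h3, ?_⟩
    show (dJ : Matrix (Fin (m + 3) ⊕ Fin (m + 3)) (Fin (m + 3) ⊕ Fin (m + 3)) F) *
      (u₃ : Matrix (Fin (m + 3) ⊕ Fin (m + 3)) (Fin (m + 3) ⊕ Fin (m + 3)) F) = _
    have e1 : ((uniSL (m + 3) (1 : F) : Matrix.SpecialLinearGroup (Fin (m + 3)) F) :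
          Matrix (Fin (m + 3)) (Fin (m + 3)) F) *
        (((uniSL (m + 3) (1 : F))⁻¹ : Matrix.SpecialLinearGroup (Fin (m + 3)) F) :
          Matrix (Fin (m + 3)) (Fin (m + 3)) F) = 1 := by
      rw [← Matrix.SpecialLinearGroup.coe_mul, mul_inv_cancel, Matrix.SpecialLinearGroup.coe_one]
    have e2 : (((uniSL (m + 3) (1 : F))⁻¹ : Matrix.SpecialLinearGroup (Fin (m + 3)) F) :
          Matrix (Fin (m + 3)) (Fin (m + 3)) F)ᵀ *
        ((((uniSL (m + 3) (1 : F))⁻¹)⁻¹ : Matrix.SpecialLinearGroup (Fin (m + 3)) F) :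
          Matrix (Fin (m + 3)) (Fin (m + 3)) F)ᵀ = 1 := by
      rw [← Matrix.transpose_mul, ← Matrix.SpecialLinearGroup.coe_mul, inv_mul_cancel,
        Matrix.SpecialLinearGroup.coe_one, Matrix.transpose_one]
    rw [hdJc, hu₃, u3M, dL_eq_mul, ← Matrix.mul_assoc, Matrix.fromBlocks_multiply]
    simp only [Matrix.mul_zero, Matrix.zero_mul, add_zero, zero_add, e1, e2, Matrix.fromBlocks_one,
      Matrix.one_mul]
  obtain ⟨K, hKdef⟩ : ∃ K : AddSubgroup (Matrix (Fin (m + 3)) (Fin (m + 3)) F),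
      ∀ R, R ∈ K ↔ (Rᵀ = R ∧ ∃ x ∈ H,
        (x : Matrix (Fin (m + 3) ⊕ Fin (m + 3)) (Fin (m + 3) ⊕ Fin (m + 3)) F) =
          Matrix.fromBlocks 1 0 R 1) :=
    ⟨{ carrier := {R | Rᵀ = R ∧ ∃ x ∈ H,
          (x : Matrix (Fin (m + 3) ⊕ Fin (m + 3)) (Fin (m + 3) ⊕ Fin (m + 3)) F) =
            Matrix.fromBlocks 1 0 R 1}
       zero_mem' := ⟨Matrix.transpose_zero, 1, H.one_mem, by simp [Matrix.fromBlocks_one]⟩
       add_mem' := by
         rintro R R' ⟨hR, x, hx, hxc⟩ ⟨hR', y, hy, hyc⟩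
         refine ⟨by rw [Matrix.transpose_add, hR, hR'], x * y, H.mul_mem hx hy, ?_⟩
         show (x : Matrix (Fin (m + 3) ⊕ Fin (m + 3)) (Fin (m + 3) ⊕ Fin (m + 3)) F) *
           (y : Matrix (Fin (m + 3) ⊕ Fin (m + 3)) (Fin (m + 3) ⊕ Fin (m + 3)) F) = _
         rw [hxc, hyc, Matrix.fromBlocks_multiply]
         simp
       neg_mem' := by
         rintro R ⟨hR, x, hx, hxc⟩
         have hR' : (-R)ᵀ = -R := by rw [Matrix.transpose_neg, hR]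
         refine ⟨hR', x⁻¹, H.inv_mem hx, ?_⟩
         have hz : (⟨Matrix.fromBlocks 1 0 (-R) 1, Cfsg.Agent.H45.lower_mem_sp (-R) hR'⟩ :
             Matrix.symplecticGroup (Fin (m + 3)) F) = x⁻¹ := by
           apply eq_inv_of_mul_eq_one_right
           apply Subtype.ext
           show (x : Matrix (Fin (m + 3) ⊕ Fin (m + 3)) (Fin (m + 3) ⊕ Fin (m + 3)) F) *
             Matrix.fromBlocks 1 0 (-R) 1 = 1
           rw [hxc, Matrix.fromBlocks_multiply]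
           simp [Matrix.fromBlocks_one]
         rw [← hz] }, fun R => Iff.rfl⟩
  have hKinv : ∀ (g : Matrix.SpecialLinearGroup (Fin (m + 3)) F)
      (S : Matrix (Fin (m + 3)) (Fin (m + 3)) F), S ∈ K →
      (g : Matrix (Fin (m + 3)) (Fin (m + 3)) F) * S *
        (g : Matrix (Fin (m + 3)) (Fin (m + 3)) F)ᵀ ∈ K := by
    intro g R hRK
    obtain ⟨hR, x, hx, hxc⟩ := (hKdef R).1 hRK
    rw [hKdef]
    refine ⟨by rw [Matrix.transpose_mul, Matrix.transpose_mul, Matrix.transpose_transpose, hR,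
      ← Matrix.mul_assoc], ?_⟩
    obtain ⟨gT, hgT⟩ : ∃ gT : Matrix.SpecialLinearGroup (Fin (m + 3)) F,
        (gT : Matrix (Fin (m + 3)) (Fin (m + 3)) F) = (g : Matrix (Fin (m + 3)) (Fin (m + 3)) F)ᵀ :=
      ⟨⟨(g : Matrix (Fin (m + 3)) (Fin (m + 3)) F)ᵀ, by rw [Matrix.det_transpose]; exact g.2⟩, rfl⟩
    obtain ⟨a, ha, hac⟩ := hD gT⁻¹
    obtain ⟨b, hb, hbc⟩ := hD gT
    refine ⟨a * x * b, H.mul_mem (H.mul_mem ha hx) hb, ?_⟩
    show (a : Matrix (Fin (m + 3) ⊕ Fin (m + 3)) (Fin (m + 3) ⊕ Fin (m + 3)) F) *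
      (x : Matrix (Fin (m + 3) ⊕ Fin (m + 3)) (Fin (m + 3) ⊕ Fin (m + 3)) F) *
      (b : Matrix (Fin (m + 3) ⊕ Fin (m + 3)) (Fin (m + 3) ⊕ Fin (m + 3)) F) = _
    have e1 : ((gT⁻¹ : Matrix.SpecialLinearGroup (Fin (m + 3)) F) :
          Matrix (Fin (m + 3)) (Fin (m + 3)) F) *
        (g : Matrix (Fin (m + 3)) (Fin (m + 3)) F)ᵀ = 1 := by
      rw [← hgT, ← Matrix.SpecialLinearGroup.coe_mul, inv_mul_cancel,
        Matrix.SpecialLinearGroup.coe_one]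
    have e2 : (g : Matrix (Fin (m + 3)) (Fin (m + 3)) F) *
        ((gT⁻¹ : Matrix.SpecialLinearGroup (Fin (m + 3)) F) :
          Matrix (Fin (m + 3)) (Fin (m + 3)) F)ᵀ = 1 := by
      have h := congrArg Matrix.transpose e1
      rw [Matrix.transpose_mul, Matrix.transpose_transpose, Matrix.transpose_one] at h
      exact h
    rw [hac, hxc, hbc, inv_inv, hgT, Matrix.transpose_transpose, Matrix.fromBlocks_multiply,
      Matrix.fromBlocks_multiply]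
    simp only [Matrix.mul_zero, Matrix.zero_mul, add_zero, zero_add, Matrix.mul_one, e1, e2,
      Matrix.mul_assoc]
  have hX : (-(Matrix.single (0 : Fin (m + 3)) (0 : Fin (m + 3)) (1 : F)))ᵀ =
      -(Matrix.single (0 : Fin (m + 3)) (0 : Fin (m + 3)) (1 : F)) := by
    rw [Matrix.transpose_neg, Matrix.transpose_single]
  have hall := hmod K hKinv (-(Matrix.single (0 : Fin (m + 3)) (0 : Fin (m + 3)) (1 : F)))
    ((hKdef _).2 ⟨hX, hL0⟩) hX 0 (by simp)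
  apply Cfsg.Agent.H45.sp_eq_top_of_upper_lower H hU
  intro R hR
  exact ((hKdef R).1 (hall R hR)).2

end Cfsg.Agent.H28.SpR
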