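import Mathlib
import Cfsg.Agent.H97.SpRDefs

set_option autoImplicit false

/-!
# S2281-JORD (helper28, for helper97): a regular unipotent matrix is similar to the Jordan block.
-/

namespace Cfsg.Agent.H28.SpR

open Matrix Cfsg.Agent.H97.SpR

variable {F : Type*} [Field F]

/-- S2281-JORD. -/
theorem jordan_conj (k : ℕ) (u : Matrix (Fin (k + 1)) (Fin (k + 1)) F)
    (hn : IsNilpotent (u - 1)) (hk : (u - 1) ^ k ≠ 0) :
    ∃ M M' : Matrix (Fin (k + 1)) (Fin (k + 1)) F, M * M' = 1 ∧ M' * M = 1 ∧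
      u = M * uniM (k + 1) (1 : F) * M' := by
  classical
  obtain ⟨N, hNdef⟩ : ∃ N, N = u - 1 := ⟨_, rfl⟩
  rw [← hNdef] at hn hk
  have hu : u = 1 + N := by rw [hNdef]; abel
  have hc : N.charpoly = Polynomial.X ^ (k + 1) := by
    have h0 := (Matrix.isNilpotent_charpoly_sub_pow_of_isNilpotent hn).eq_zero
    rw [Fintype.card_fin] at h0
    exact sub_eq_zero.1 h0
  have hN : N ^ (k + 1) = 0 := by
    have h := Matrix.aeval_self_charpoly N
    rw [hc] at h
    simpa using h
  obtain ⟨v, hv⟩ : ∃ v : Fin (k + 1) → F, (N ^ k) *ᵥ v ≠ 0 := by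
    by_contra hcon
    push Not at hcon
    apply hk
    ext i j
    have := congrFun (hcon (Pi.single j 1)) i
    simpa using this
  obtain ⟨M, hM⟩ : ∃ M : Matrix (Fin (k + 1)) (Fin (k + 1)) F,
      ∀ i j, M i j = ((N ^ (k - (j : ℕ))) *ᵥ v) i :=
    ⟨Matrix.of fun i j => ((N ^ (k - (j : ℕ))) *ᵥ v) i, fun i j => rfl⟩
  have hMc : ∀ c : Fin (k + 1) → F, M *ᵥ c = ∑ j, c j • ((N ^ (k - (j : ℕ))) *ᵥ v) := by
    intro c
    ext i
    rw [Finset.sum_apply]
    show ∑ j, M i j * c j = ∑ j, (c j • ((N ^ (k - (j : ℕ))) *ᵥ v)) i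
    exact Finset.sum_congr rfl (fun j _ => by rw [hM, Pi.smul_apply, smul_eq_mul, mul_comm])
  have hNM : N * M = M * shiftN F (k + 1) := by
    ext i j
    have hl : (N * M) i j = ((N ^ (k - (j : ℕ) + 1)) *ᵥ v) i := by
      rw [pow_succ', ← Matrix.mulVec_mulVec]
      show ∑ l, N i l * M l j = ∑ l, N i l * ((N ^ (k - (j : ℕ))) *ᵥ v) l
      exact Finset.sum_congr rfl (fun l _ => by rw [hM])
    rw [hl, Matrix.mul_apply]
    have hjk := j.2
    by_cases hj : (j : ℕ) = 0
    · rw [hj, Nat.sub_zero, hN, Matrix.zero_mulVec]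
      symm
      apply Finset.sum_eq_zero
      intro l _
      have h1 : ¬ ((l : ℕ) + 1 = (j : ℕ)) := by omega
      simp [shiftN, h1]
    · rw [Finset.sum_eq_single (⟨(j : ℕ) - 1, by omega⟩ : Fin (k + 1))]
      · have h1 : (j : ℕ) - 1 + 1 = (j : ℕ) := by omega
        have h2 : k - (j : ℕ) + 1 = k - ((j : ℕ) - 1) := by omega
        simp [shiftN, h1, hM, h2]
      · intro l _ hl2
        have h1 : ¬ ((l : ℕ) + 1 = (j : ℕ)) := by
          intro h; apply hl2; ext; simp; omega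
        simp [shiftN, h1]
      · intro h; exact absurd (Finset.mem_univ _) h
  have hdet : M.det ≠ 0 := by
    intro hd
    obtain ⟨c, hc0, hc⟩ := Matrix.exists_mulVec_eq_zero_iff.2 hd
    rw [hMc] at hc
    have hne : (Finset.univ.filter (fun j => c j ≠ 0)).Nonempty := by
      by_contra h
      rw [Finset.not_nonempty_iff_eq_empty] at h
      apply hc0
      ext j
      by_contra hj
      have h1 : j ∈ Finset.univ.filter (fun j => c j ≠ 0) := by simpa using hj
      rw [h] at h1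
      exact absurd h1 (Finset.notMem_empty _)
    obtain ⟨j₀, hj₀⟩ : ∃ j₀, j₀ = (Finset.univ.filter (fun j => c j ≠ 0)).max' hne := ⟨_, rfl⟩
    have hj₀c : c j₀ ≠ 0 := by
      have h1 := Finset.max'_mem _ hne
      rw [← hj₀] at h1
      simpa using h1
    have hj₀max : ∀ j, j₀ < j → c j = 0 := by
      intro j hj
      by_contra hcj
      have h1 : j ≤ j₀ := by rw [hj₀]; exact Finset.le_max' _ j (by simpa using hcj)
      exact absurd hj (not_lt.2 h1)
    have h2 := congrArg (fun w => (N ^ (j₀ : ℕ)) *ᵥ w) hc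
    simp only [Matrix.mulVec_zero, Matrix.mulVec_sum, Matrix.mulVec_smul, Matrix.mulVec_mulVec,
      ← pow_add] at h2
    have hj₀k := j₀.2
    rw [Finset.sum_eq_single j₀] at h2
    · have e : (j₀ : ℕ) + (k - (j₀ : ℕ)) = k := by omega
      rw [e] at h2
      rcases smul_eq_zero.1 h2 with h3 | h3
      · exact hj₀c h3
      · exact hv h3
    · intro j _ hj
      rcases lt_or_gt_of_ne hj with h | h
      · have hjv : (j : ℕ) < (j₀ : ℕ) := h
        have h4 : N ^ ((j₀ : ℕ) + (k - (j : ℕ))) = 0 := pow_eq_zero_of_le (by omega) hN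
        rw [h4, Matrix.zero_mulVec, smul_zero]
      · rw [hj₀max j h, zero_smul]
    · intro h; exact absurd (Finset.mem_univ _) h
  have hunit : IsUnit M.det := isUnit_iff_ne_zero.2 hdet
  refine ⟨M, M⁻¹, Matrix.mul_nonsing_inv M hunit, Matrix.nonsing_inv_mul M hunit, ?_⟩
  have h3 : u * M = M * uniM (k + 1) (1 : F) := by
    rw [hu, uniM, one_smul, Matrix.add_mul, Matrix.one_mul, Matrix.mul_add, Matrix.mul_one, hNM]
  rw [← h3, Matrix.mul_assoc, Matrix.mul_nonsing_inv M hunit, Matrix.mul_one]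

end Cfsg.Agent.H28.SpR
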