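import Mathlib
import Cfsg.Agent.H97.SpRDefs

set_option autoImplicit false

/-!
# S2281-WEYL (helper28, for helper97): the Weyl element `w` lies in `Sp` and `w u₁ = u₃ w`.
-/

namespace Cfsg.Agent.H28.SpR

open Matrix Cfsg.Agent.H97.SpR

variable {F : Type*} [Field F]

theorem revP_mul_apply (n : ℕ) (M : Matrix (Fin n) (Fin n) F) (i j : Fin n) :
    (revP F n * M) i j = M (Fin.rev i) j := by
  have hi := i.2
  rw [Matrix.mul_apply, Finset.sum_eq_single (Fin.rev i)]
  · have h : (i : ℕ) + (n - ((i : ℕ) + 1)) + 1 = n := by omega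
    simp [revP, h]
  · intro b _ hb
    have hb2 := b.2
    have h : ¬ ((i : ℕ) + (b : ℕ) + 1 = n) := by
      intro h; apply hb; ext; rw [Fin.val_rev]; omega
    simp [revP, h]
  · intro h; exact absurd (Finset.mem_univ _) h

theorem mul_revP_apply (n : ℕ) (M : Matrix (Fin n) (Fin n) F) (i j : Fin n) :
    (M * revP F n) i j = M i (Fin.rev j) := by
  have hj := j.2
  rw [Matrix.mul_apply, Finset.sum_eq_single (Fin.rev j)]
  · have h : n - ((j : ℕ) + 1) + (j : ℕ) + 1 = n := by omega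
    simp [revP, h]
  · intro b _ hb
    have hb2 := b.2
    have h : ¬ ((b : ℕ) + (j : ℕ) + 1 = n) := by
      intro h; apply hb; ext; rw [Fin.val_rev]; omega
    simp [revP, h]
  · intro h; exact absurd (Finset.mem_univ _) h

theorem revP_mul_revP (n : ℕ) : revP F n * revP F n = 1 := by
  ext i j
  have hi := i.2
  have hj := j.2
  rw [revP_mul_apply, Matrix.one_apply]
  show (if ((Fin.rev i : Fin n) : ℕ) + (j : ℕ) + 1 = n then (1 : F) else 0) = if i = j then 1 else 0
  have h : (((Fin.rev i : Fin n) : ℕ) + (j : ℕ) + 1 = n) ↔ i = j := by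
    rw [Fin.val_rev, Fin.ext_iff]; omega
  simp only [h]

theorem revP_transpose (n : ℕ) : (revP F n)ᵀ = revP F n := by
  ext i j
  show (if (j : ℕ) + (i : ℕ) + 1 = n then (1 : F) else 0) = if (i : ℕ) + (j : ℕ) + 1 = n then 1 else 0
  rw [add_comm (j : ℕ) (i : ℕ)]

theorem revP_mul_shiftN (n : ℕ) : revP F n * shiftN F n = (shiftN F n)ᵀ * revP F n := by
  ext i j
  have hi := i.2
  have hj := j.2
  rw [revP_mul_apply, mul_revP_apply]
  show (if ((Fin.rev i : Fin n) : ℕ) + 1 = (j : ℕ) then (1 : F) else 0) =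
    if ((Fin.rev j : Fin n) : ℕ) + 1 = (i : ℕ) then 1 else 0
  have h : (((Fin.rev i : Fin n) : ℕ) + 1 = (j : ℕ)) ↔ (((Fin.rev j : Fin n) : ℕ) + 1 = (i : ℕ)) := by
    rw [Fin.val_rev, Fin.val_rev]; omega
  simp only [h]

theorem revP_mul_uniM (n : ℕ) : revP F n * uniM n (1 : F) = (uniM n (1 : F))ᵀ * revP F n := by
  simp only [uniM, one_smul, Matrix.mul_add, Matrix.mul_one, Matrix.transpose_add,
    Matrix.transpose_one, Matrix.add_mul, Matrix.one_mul, revP_mul_shiftN]

theorem uniM_mul_revP (n : ℕ) : uniM n (1 : F) * revP F n = revP F n * (uniM n (1 : F))ᵀ := by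
  calc uniM n (1 : F) * revP F n = (revP F n * revP F n) * uniM n (1 : F) * revP F n := by
        rw [revP_mul_revP, Matrix.one_mul]
    _ = revP F n * (revP F n * uniM n (1 : F)) * revP F n := by
        rw [Matrix.mul_assoc (revP F n) (revP F n) (uniM n (1 : F))]
    _ = revP F n * ((uniM n (1 : F))ᵀ * revP F n) * revP F n := by rw [revP_mul_uniM]
    _ = revP F n * (uniM n (1 : F))ᵀ * (revP F n * revP F n) := by simp only [Matrix.mul_assoc]
    _ = revP F n * (uniM n (1 : F))ᵀ := by rw [revP_mul_revP, Matrix.mul_one]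

/-- S2281-WEYL, part 1. -/
theorem wM_mem (m : ℕ) : wM F m ∈ Matrix.symplecticGroup (Fin (m + 3)) F :=
  Cfsg.Agent.H45.weyl_mem_sp (revP F (m + 3)) (revP F (m + 3)) (revP_mul_revP (m + 3))
    (revP_transpose (m + 3))

/-- S2281-WEYL, part 2. -/
theorem weyl_conj (m : ℕ) : wM F m * u1M F m = u3M F m * wM F m := by
  obtain ⟨Ji, hJi⟩ : ∃ Ji : Matrix (Fin (m + 3)) (Fin (m + 3)) F,
      Ji = ((uniSL (m + 3) (1 : F))⁻¹ : Matrix.SpecialLinearGroup (Fin (m + 3)) F) := ⟨_, rfl⟩
  have h1 : Ji * uniM (m + 3) (1 : F) = 1 := by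
    rw [hJi, ← uniSL_coe, ← Matrix.SpecialLinearGroup.coe_mul, inv_mul_cancel,
      Matrix.SpecialLinearGroup.coe_one]
  have h2 : uniM (m + 3) (1 : F) * Ji = 1 := by
    rw [hJi, ← uniSL_coe, ← Matrix.SpecialLinearGroup.coe_mul, mul_inv_cancel,
      Matrix.SpecialLinearGroup.coe_one]
  have e1 : revP F (m + 3) * Jiᵀ = Ji * revP F (m + 3) := by
    have h3 : Ji * (uniM (m + 3) (1 : F) * revP F (m + 3)) * Jiᵀ =
        Ji * (revP F (m + 3) * (uniM (m + 3) (1 : F))ᵀ) * Jiᵀ := by rw [uniM_mul_revP]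
    rw [← Matrix.mul_assoc, h1, Matrix.one_mul, Matrix.mul_assoc Ji, Matrix.mul_assoc (revP F (m + 3)),
      ← Matrix.transpose_mul, h1, Matrix.transpose_one, Matrix.mul_one] at h3
    exact h3
  have e3 : revP F (m + 3) * Matrix.single (Fin.last (m + 2)) (Fin.last (m + 2)) (1 : F) =
      Matrix.single (0 : Fin (m + 3)) (0 : Fin (m + 3)) (1 : F) * revP F (m + 3) := by
    ext i j
    have hi := i.2
    have hj := j.2
    rw [revP_mul_apply, mul_revP_apply, Matrix.single_apply, Matrix.single_apply]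
    have h : (Fin.last (m + 2) = Fin.rev i ∧ Fin.last (m + 2) = j) ↔
        ((0 : Fin (m + 3)) = i ∧ (0 : Fin (m + 3)) = Fin.rev j) := by
      simp only [Fin.ext_iff, Fin.val_rev, Fin.val_last, Fin.val_zero]
      omega
    simp only [h]
  unfold wM u1M u3M dU dL
  rw [inv_inv, Matrix.fromBlocks_multiply, Matrix.fromBlocks_multiply, uniSL_coe, ← hJi]
  congr 1
  · simp
  · simp only [Matrix.zero_mul, Matrix.neg_mul, zero_add, Matrix.mul_neg, Matrix.mul_zero, add_zero, e1]
  · simp only [Matrix.mul_zero, add_zero, zero_add, revP_mul_uniM]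
  · simp only [Matrix.zero_mul, add_zero, Matrix.mul_zero, Matrix.mul_neg, Matrix.neg_mul, neg_neg]
    rw [← Matrix.mul_assoc, revP_mul_uniM, Matrix.mul_assoc, e3, Matrix.mul_assoc]

end Cfsg.Agent.H28.SpR
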