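import Cfsg.Agent.H28.SpUFitU

set_option autoImplicit false

/-!
# S2316-FITA (helper28, for helper48): Fitting decomposition count for the affine space
`{X | M X + Xᵀ M = -M}` w.r.t. `X (X + 1)`.
-/

open Matrix

namespace Cfsg.Agent.H28.SpU

open Cfsg.Agent.H48.SpU

universe u

section mat

variable {F : Type*} [Field F]
variable {ι : Type*} [Fintype ι] [DecidableEq ι]
variable {ι₁ ι₂ : Type*} [Fintype ι₁] [DecidableEq ι₁] [Fintype ι₂] [DecidableEq ι₂]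

/-- conjugation by a symplectic matrix preserves `ASet`. -/
theorem aset_conj (M : Matrix ι ι F) {d d' X : Matrix ι ι F} (hd : d ∈ SpSet M)
    (h1 : d * d' = 1) (h2 : d' * d = 1) (hX : X ∈ ASet M) : d' * X * d ∈ ASet M := by
  have h0 : dᵀ * M * d = M := hd
  have hX' : M * X + Xᵀ * M = -M := hX
  have e1 : M * d' = dᵀ * M := by
    calc M * d' = (dᵀ * M * d) * d' := by rw [h0]
      _ = dᵀ * M * (d * d') := by simp only [Matrix.mul_assoc]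
      _ = dᵀ * M := by rw [h1, Matrix.mul_one]
  have e2 : d'ᵀ * M = M * d := by
    calc d'ᵀ * M = d'ᵀ * (dᵀ * M * d) := by rw [h0]
      _ = (d * d')ᵀ * M * d := by rw [Matrix.transpose_mul]; simp only [Matrix.mul_assoc]
      _ = M * d := by rw [h1]; simp
  show M * (d' * X * d) + (d' * X * d)ᵀ * M = -M
  calc M * (d' * X * d) + (d' * X * d)ᵀ * M
      = (M * d') * X * d + dᵀ * Xᵀ * (d'ᵀ * M) := by
        rw [Matrix.transpose_mul, Matrix.transpose_mul]; simp only [Matrix.mul_assoc]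
    _ = dᵀ * (M * X + Xᵀ * M) * d := by
        rw [e1, e2, Matrix.mul_add, Matrix.add_mul]; simp only [Matrix.mul_assoc]
    _ = -M := by rw [hX', Matrix.mul_neg, Matrix.neg_mul, h0]

theorem blk_aset (M₁ : Matrix ι₁ ι₁ F) (M₂ : Matrix ι₂ ι₂ F) (A : Matrix ι₁ ι₁ F)
    (D : Matrix ι₂ ι₂ F) :
    fromBlocks A 0 0 D ∈ ASet (fromBlocks M₁ 0 0 M₂) ↔ A ∈ ASet M₁ ∧ D ∈ ASet M₂ := by
  show fromBlocks M₁ 0 0 M₂ * fromBlocks A 0 0 D + (fromBlocks A 0 0 D)ᵀ * fromBlocks M₁ 0 0 M₂ =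
    -fromBlocks M₁ 0 0 M₂ ↔ M₁ * A + Aᵀ * M₁ = -M₁ ∧ M₂ * D + Dᵀ * M₂ = -M₂
  rw [Matrix.fromBlocks_transpose, Matrix.transpose_zero, Matrix.transpose_zero, blk_mul,
    blk_mul, Matrix.fromBlocks_add, Matrix.fromBlocks_neg, Matrix.fromBlocks_inj]
  constructor
  · intro h
    exact ⟨h.1, h.2.2.2⟩
  · rintro ⟨h1, h2⟩
    exact ⟨h1, by simp, by simp, h2⟩

/-- for `X ∈ ASet M`, `M` invertible: `X` invertible implies `X + 1` invertible. -/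
theorem aset_add_one_unit (M : Matrix ι ι F) (hM : M.det ≠ 0) {X : Matrix ι ι F}
    (hX : X ∈ ASet M) (hu : IsUnit X) : IsUnit (X + 1) := by
  have hX' : M * X + Xᵀ * M = -M := hX
  have e : (X + 1)ᵀ * M = -(M * X) := by
    rw [Matrix.transpose_add, Matrix.transpose_one, Matrix.add_mul, Matrix.one_mul]
    rw [eq_neg_iff_add_eq_zero]
    calc Xᵀ * M + M + M * X = (M * X + Xᵀ * M) + M := by abel
      _ = 0 := by rw [hX']; simp
  have hdet := congrArg Matrix.det e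
  rw [Matrix.det_mul, Matrix.det_transpose, Matrix.det_neg, Matrix.det_mul] at hdet
  have hXd : X.det ≠ 0 := by
    have := (Matrix.isUnit_iff_isUnit_det X).1 hu
    exact isUnit_iff_ne_zero.1 this
  have hne : (X + 1).det * M.det ≠ 0 := by
    rw [hdet]
    exact mul_ne_zero (pow_ne_zero _ (by norm_num)) (mul_ne_zero hM hXd)
  have : (X + 1).det ≠ 0 := left_ne_zero_of_mul hne
  exact (Matrix.isUnit_iff_isUnit_det _).2 (isUnit_iff_ne_zero.2 this)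

theorem isUnit_left_of_mul {A B : Matrix ι ι F} (h : IsUnit (A * B)) : IsUnit A := by
  have h1 := (Matrix.isUnit_iff_isUnit_det _).1 h
  rw [Matrix.det_mul] at h1
  exact (Matrix.isUnit_iff_isUnit_det _).2 (isUnit_of_mul_isUnit_left h1)

theorem conj_add_one {d d' X : Matrix ι ι F} (h2 : d' * d = 1) :
    d' * X * d + 1 = d' * (X + 1) * d := by
  rw [Matrix.mul_add, Matrix.add_mul, Matrix.mul_one, h2]

theorem conj_xx1 {d d' X : Matrix ι ι F} (h1 : d * d' = 1) (h2 : d' * d = 1) :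
    (d' * X * d) * (d' * X * d + 1) = d' * (X * (X + 1)) * d := by
  rw [conj_add_one h2]
  calc d' * X * d * (d' * (X + 1) * d) = d' * X * (d * d') * (X + 1) * d := by
        simp only [Matrix.mul_assoc]
    _ = d' * (X * (X + 1)) * d := by rw [h1, Matrix.mul_one]; simp only [Matrix.mul_assoc]

theorem blk_xx1 (A : Matrix ι₁ ι₁ F) (D : Matrix ι₂ ι₂ F) :
    fromBlocks A 0 0 D * (fromBlocks A 0 0 D + 1) =
      fromBlocks (A * (A + 1)) 0 0 (D * (D + 1)) := by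
  rw [blk_add_one, blk_mul]

theorem intw_xx1 (q : Matrix ι₁ ι₂ F) (X : Matrix ι₁ ι₁ F) (Y : Matrix ι₂ ι₂ F)
    (h : q * Y = X * q) : q * (Y * (Y + 1)) = (X * (X + 1)) * q := by
  have h' : q * (Y + 1) = (X + 1) * q := by
    rw [Matrix.mul_add, Matrix.add_mul, Matrix.mul_one, Matrix.one_mul, h]
  rw [← Matrix.mul_assoc, h, Matrix.mul_assoc, h', ← Matrix.mul_assoc]

end mat

/-- S2316-FITA. -/
theorem fitA (hA : AdaptStmt.{u}) (hP : PerpAStmt.{u}) (hF : FittStmt.{u}) : FitAStmt.{u} := by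
  intro F _ _ ι₁ ι₂ _ _ _ _ M₁ M₂ n hM₁ hM₂ hn
  have hdetM : (fromBlocks M₁ 0 0 M₂).det ≠ 0 := det_blk M₁ M₂ hM₁.2 hM₂.2
  refine card_fit (fun A D => fromBlocks A 0 0 D) (SpSet (fromBlocks M₁ 0 0 M₂))
    (AR (fromBlocks M₁ 0 0 M₂) n (Fintype.card ι₂)) (SpSet M₁) (ANSet M₁) (SpSet M₂) (AESet M₂)
    ?_ ?_ ?_ ?_ ?_ ?_ ?_ ?_ ?_ ?_
  · intro h hh
    exact sp_exists_inv _ hdetM hh
  · intro h hh k hk
    exact sp_mul _ hh hk
  · intro x₁ x₂ y₁ y₂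
    exact blk_mul _ _ _ _
  · intro x₁ x₂ y₁ y₂ h
    exact blk_inj _ _ _ _ h
  · intro d₁ hd₁ d₂ hd₂
    exact (blk_sp M₁ M₂ d₁ d₂).2 ⟨hd₁, hd₂⟩
  · intro d hd
    obtain ⟨d', hd'S, h1, h2⟩ := sp_exists_inv M₁ hM₁.2 hd
    refine ⟨d', h1, h2, ?_⟩
    rintro x ⟨hx1, hx2⟩
    refine ⟨aset_conj M₁ hd h1 h2 hx1, ?_⟩
    obtain ⟨k, hk⟩ := hx2
    refine ⟨k, ?_⟩
    rw [conj_xx1 h1 h2, conj_pow' d' d _ h2 h1 k, hk]
    simp
  · intro d hd
    obtain ⟨d', hd'S, h1, h2⟩ := sp_exists_inv M₂ hM₂.2 hd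
    refine ⟨d', h1, h2, ?_⟩
    rintro x ⟨hx1, hx2⟩
    exact ⟨aset_conj M₂ hd h1 h2 hx1, ((isUnit_of_inv h2 h1).mul hx2).mul (isUnit_of_inv h1 h2)⟩
  · -- H1
    intro h hh h' h1 h2 x₁ hx₁ x₂ hx₂
    obtain ⟨hx1, hx1n⟩ := hx₁
    obtain ⟨hx2, hx2u⟩ := hx₂
    have hh' : h' ∈ SpSet (fromBlocks M₁ 0 0 M₂) := sp_inv_of _ hh h1
    have hY : fromBlocks x₁ 0 0 x₂ ∈ ASet (fromBlocks M₁ 0 0 M₂) :=
      (blk_aset M₁ M₂ x₁ x₂).2 ⟨hx1, hx2⟩
    refine ⟨aset_conj _ hh' h2 h1 hY, ?_⟩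
    rw [conj_xx1 h2 h1, conj_pow' h h' _ h1 h2 n, rank_conj h h' _ h1 h2, blk_xx1, blk_pow,
      nil_pow _ hx1n n (le_trans (Nat.le_add_right _ _) hn)]
    exact rank_blk_zero_unit _ ((hx2u.mul (aset_add_one_unit M₂ hM₂.2 hx2 hx2u)).pow n)
  · -- H2
    rintro X ⟨hX, hXr⟩
    have hperp := hP F (ι₁ ⊕ ι₂) (fromBlocks M₁ 0 0 M₂) X n hX
    have hfit : ((X * (X + 1)) ^ n * (X * (X + 1)) ^ n).rank = ((X * (X + 1)) ^ n).rank :=
      hF F (ι₁ ⊕ ι₂) (X * (X + 1)) n (by rw [Fintype.card_sum]; exact hn)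
    obtain ⟨h, hh, T₂, hT₂, hTh⟩ :=
      hA F ι₁ ι₂ M₁ M₂ ((X * (X + 1)) ^ n) hM₁ hM₂ hperp hXr hfit
    have hhS : h ∈ SpSet (fromBlocks M₁ 0 0 M₂) := hh
    obtain ⟨h', hh'S, h1, h2⟩ := sp_exists_inv _ hdetM hhS
    have hX'A : h' * X * h ∈ ASet (fromBlocks M₁ 0 0 M₂) := aset_conj _ hhS h1 h2 hX
    have hpow : ((h' * X * h) * (h' * X * h + 1)) ^ n = fromBlocks 0 0 0 T₂ := by
      rw [conj_xx1 h1 h2, conj_pow' h' h _ h2 h1 n, Matrix.mul_assoc, hTh, ← Matrix.mul_assoc,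
        h2, Matrix.one_mul]
    have hcomm : (h' * X * h) * fromBlocks 0 0 0 T₂ = fromBlocks 0 0 0 T₂ * (h' * X * h) := by
      rw [← hpow]
      exact (((Commute.refl (h' * X * h)).mul_right
        ((Commute.refl (h' * X * h)).add_right (Commute.one_right _))).pow_right n).eq
    obtain ⟨a, d, had⟩ := blk_of_comm _ T₂ hT₂ hcomm
    rw [had] at hX'A hpow
    obtain ⟨haA, hdA⟩ := (blk_aset M₁ M₂ a d).1 hX'A
    rw [blk_xx1, blk_pow] at hpow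
    rw [Matrix.fromBlocks_inj] at hpow
    obtain ⟨hp1, -, -, hp2⟩ := hpow
    have hdu : IsUnit d := by
      rcases Nat.eq_zero_or_pos n with h0 | h0
      · have hc : Fintype.card ι₂ = 0 := by omega
        haveI : IsEmpty ι₂ := Fintype.card_eq_zero_iff.1 hc
        exact isUnit_of_subsingleton _
      · have : IsUnit ((d * (d + 1)) ^ n) := by rw [hp2]; exact hT₂
        exact isUnit_left_of_mul ((isUnit_pow_iff (Nat.pos_iff_ne_zero.1 h0)).1 this)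
    refine ⟨h, hhS, a, ⟨haA, ⟨n, hp1⟩⟩, d, ⟨hdA, hdu⟩, ?_⟩
    show X * h = h * fromBlocks a 0 0 d
    rw [← had, ← Matrix.mul_assoc, ← Matrix.mul_assoc, h1, Matrix.one_mul]
  · -- H5
    rintro d hd x₁ ⟨-, hx1n⟩ x₂ ⟨hx2A, hx2u⟩ y₁ ⟨-, hy1n⟩ y₂ ⟨hy2A, hy2u⟩ hdd
    obtain ⟨p, q, r, s, hdef, hq, hr⟩ := blk_intw d x₁ y₁ x₂ y₂ hdd
    have hq' := intw_xx1 q x₁ y₂ hq
    have hr' := intw_xx1 r x₂ y₁ hr
    have hq0 : q = 0 := intw_zero_left q _ _ hq' hx1n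
      (hy2u.mul (aset_add_one_unit M₂ hM₂.2 hy2A hy2u))
    have hr0 : r = 0 := intw_zero_right r _ _ hr'
      (hx2u.mul (aset_add_one_unit M₂ hM₂.2 hx2A hx2u)) hy1n
    rw [hq0, hr0] at hdef
    rw [hdef] at hd
    obtain ⟨hpS, hsS⟩ := (blk_sp M₁ M₂ p s).1 hd
    exact ⟨p, hpS, s, hsS, hdef⟩

example (hA : AdaptStmt.{u}) (hP : PerpAStmt.{u}) (hF : FittStmt.{u}) : FitAStmt.{u} :=
  fitA hA hP hF

end Cfsg.Agent.H28.SpU
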