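import Mathlib
import Cfsg.Agent.H97.SuRDefs

set_option autoImplicit false

/-!
# S2282-COHB (helper28, for helper97): a `1`-cocycle of `SL_k(F)` (`k ≥ 3`, `|F| ≥ 4`) with
values in `F^k` that vanishes on the diagonal matrices vanishes on all transvections.
-/

namespace Cfsg.Agent.H28.SuR

open Matrix Cfsg.Agent.H45.U Cfsg.Agent.H97.SuR

variable {F : Type*} [Field F]

/-- Diagonal weights: `α` at `i` and `j`, `γ` at `l`, `1` elsewhere. -/
def dW {k : ℕ} (i j l : Fin k) (α γ : F) : Fin k → F :=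
  fun r => (if r = i then α else 1) * (if r = j then α else 1) * (if r = l then γ else 1)

theorem prod_dW {k : ℕ} (i j l : Fin k) (α γ : F) : ∏ r, dW i j l α γ r = α * α * γ := by
  unfold dW
  rw [Finset.prod_mul_distrib, Finset.prod_mul_distrib, Finset.prod_ite_eq', Finset.prod_ite_eq',
    Finset.prod_ite_eq']
  simp

/-- A diagonal matrix of determinant `1` as an element of `SL_k(F)`. -/
def diagSL {k : ℕ} (d : Fin k → F) (h : ∏ r, d r = 1) : Matrix.SpecialLinearGroup (Fin k) F :=
  ⟨Matrix.diagonal d, by rw [Matrix.det_diagonal]; exact h⟩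

theorem diagSL_isDiag {k : ℕ} (d : Fin k → F) (h : ∏ r, d r = 1) : IsDiag (diagSL d h) :=
  fun _ _ hij => Matrix.diagonal_apply_ne _ hij

theorem diagSL_inv_coe {k : ℕ} (d : Fin k → F) (h : ∏ r, d r = 1) :
    (((diagSL d h)⁻¹ : Matrix.SpecialLinearGroup (Fin k) F) : Matrix (Fin k) (Fin k) F) =
      Matrix.diagonal (fun r => (d r)⁻¹) := by
  have h' : ∏ r, (d r)⁻¹ = 1 := by rw [Finset.prod_inv_distrib, h, inv_one]
  have h1 : (diagSL d h)⁻¹ = diagSL (fun r => (d r)⁻¹) h' := by
    apply inv_eq_of_mul_eq_one_right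
    apply Subtype.ext
    show Matrix.diagonal d * Matrix.diagonal (fun r => (d r)⁻¹) = 1
    rw [Matrix.diagonal_mul_diagonal]
    have hne : ∀ r, d r ≠ 0 := by
      intro r hr
      have h2 := Finset.prod_eq_zero (Finset.mem_univ r) hr
      rw [h] at h2
      exact one_ne_zero h2
    rw [← Matrix.diagonal_one]
    congr 1
    ext r
    exact mul_inv_cancel₀ (hne r)
  rw [h1]
  rfl

theorem diagSL_comm_transvection {k : ℕ} (d : Fin k → F) (h : ∏ r, d r = 1) (i j : Fin k)
    (hij : i ≠ j) (a : F) (hd : d i = d j) :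
    diagSL d h * Matrix.SpecialLinearGroup.transvection hij a =
      Matrix.SpecialLinearGroup.transvection hij a * diagSL d h := by
  apply Subtype.ext
  show Matrix.diagonal d * (1 + Matrix.single i j a) =
    (1 + Matrix.single i j a) * Matrix.diagonal d
  ext r c
  rw [Matrix.diagonal_mul, Matrix.mul_diagonal, Matrix.add_apply, Matrix.one_apply,
    Matrix.single_apply]
  by_cases hrc : r = c
  · subst hrc; ring
  · by_cases h' : i = r ∧ j = c
    · obtain ⟨rfl, rfl⟩ := h'
      rw [hd]; ring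
    · rw [if_neg hrc, if_neg h']; ring

theorem coc_row {k : ℕ} (s : Matrix.SpecialLinearGroup (Fin k) F → Matrix (Fin k) (Fin 1) F)
    (hs : Coc s) (t x : Matrix.SpecialLinearGroup (Fin k) F) (hcomm : t * x = x * t)
    (ht : s t = 0) :
    s x = ((t⁻¹ : Matrix.SpecialLinearGroup (Fin k) F) : Matrix (Fin k) (Fin k) F) * s x := by
  have h1 := hs t x
  have h2 := hs x t
  rw [ht, Matrix.mul_zero, zero_add] at h1
  rw [ht, add_zero] at h2
  calc s x = s (t * x) := h1.symm
    _ = s (x * t) := by rw [hcomm]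
    _ = _ := h2

theorem coh_root [Fintype F] {k : ℕ} (hk : 3 ≤ k) (hF : 4 ≤ Fintype.card F)
    (s : Matrix.SpecialLinearGroup (Fin k) F → Matrix (Fin k) (Fin 1) F) (hs : Coc s)
    (hdiag : ∀ g : Matrix.SpecialLinearGroup (Fin k) F, IsDiag g → s g = 0) :
    ∀ (i j : Fin k) (hij : i ≠ j) (a : F),
      s (Matrix.SpecialLinearGroup.transvection hij a) = 0 := by
  classical
  intro i j hij a
  obtain ⟨lam, -, hlam⟩ : ∃ lam ∈ (Finset.univ : Finset F), lam ∉ ({0, 1, -1} : Finset F) := by
    apply Finset.exists_mem_notMem_of_card_lt_card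
    calc ({0, 1, -1} : Finset F).card ≤ 3 := Finset.card_le_three
      _ < Fintype.card F := by omega
      _ = (Finset.univ : Finset F).card := Finset.card_univ.symm
  simp only [Finset.mem_insert, Finset.mem_singleton, not_or] at hlam
  obtain ⟨h0, h1, hm1⟩ := hlam
  have key : ∀ (l : Fin k), l ≠ i → l ≠ j → ∀ (α γ : F), α * α * γ = 1 → ∀ m,
      dW i j l α γ m ≠ 1 → s (Matrix.SpecialLinearGroup.transvection hij a) m 0 = 0 := by
    intro l hli hlj α γ hαγ m hm
    have hprod : ∏ r, dW i j l α γ r = 1 := by rw [prod_dW, hαγ]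
    have hdi : dW i j l α γ i = dW i j l α γ j := by
      simp [dW, hij, Ne.symm hij, Ne.symm hli, Ne.symm hlj]
    have h2 := coc_row s hs (diagSL _ hprod) (Matrix.SpecialLinearGroup.transvection hij a)
      (diagSL_comm_transvection _ hprod i j hij a hdi) (hdiag _ (diagSL_isDiag _ hprod))
    have h3 := congrFun (congrFun h2 m) 0
    rw [diagSL_inv_coe, Matrix.diagonal_mul] at h3
    by_contra hne
    apply hm
    have h4 : (dW i j l α γ m)⁻¹ = 1 := by
      refine mul_right_cancel₀ hne ?_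
      rw [one_mul]
      exact h3.symm
    exact inv_eq_one.mp h4
  obtain ⟨l₀, -, hl₀⟩ : ∃ l ∈ (Finset.univ : Finset (Fin k)), l ∉ ({i, j} : Finset (Fin k)) := by
    apply Finset.exists_mem_notMem_of_card_lt_card
    calc ({i, j} : Finset (Fin k)).card ≤ 2 := Finset.card_le_two
      _ < k := by omega
      _ = (Finset.univ : Finset (Fin k)).card := by simp
  simp only [Finset.mem_insert, Finset.mem_singleton, not_or] at hl₀
  ext m l'
  rw [Fin.eq_zero l']
  show s (Matrix.SpecialLinearGroup.transvection hij a) m 0 = 0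
  by_cases hm : m = i ∨ m = j
  · apply key l₀ hl₀.1 hl₀.2 lam (lam⁻¹ * lam⁻¹) (by field_simp) m
    have h5 : dW i j l₀ lam (lam⁻¹ * lam⁻¹) m = lam := by
      rcases hm with rfl | rfl
      · simp [dW, hij, Ne.symm hl₀.1]
      · simp [dW, Ne.symm hij, Ne.symm hl₀.2]
    rw [h5]
    exact h1
  · push Not at hm
    apply key m hm.1 hm.2 lam⁻¹ (lam * lam) (by field_simp) m
    have h5 : dW i j m lam⁻¹ (lam * lam) m = lam * lam := by
      simp [dW, hm.1, hm.2]
    rw [h5]
    intro h
    rcases mul_self_eq_one_iff.mp h with h | h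
    · exact h1 h
    · exact hm1 h

example [Fintype F] {k : ℕ} (hk : 3 ≤ k) (hF : 4 ≤ Fintype.card F)
    (s : Matrix.SpecialLinearGroup (Fin k) F → Matrix (Fin k) (Fin 1) F) (hs : Coc s)
    (hdiag : ∀ g : Matrix.SpecialLinearGroup (Fin k) F, IsDiag g → s g = 0) :
    ∀ (i j : Fin k) (hij : i ≠ j) (a : F),
      s (Matrix.SpecialLinearGroup.transvection hij a) = 0 := coh_root hk hF s hs hdiag

end Cfsg.Agent.H28.SuR
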