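import Mathlib
import Cfsg.Agent.H97.SuRDefs

set_option autoImplicit false

/-!
# S2282-IRRT (helper28, for helper97): `SL_k(F)`, `k ≥ 2`, acts irreducibly on column vectors
(both by `c ↦ g c` and by `c ↦ (g⁻¹)* c`), even over the prime field.
-/

namespace Cfsg.Agent.H28.SuR

open Matrix Cfsg.Agent.H45.U Cfsg.Agent.H97.SuR

variable {F : Type*} [Field F]

/-- An additive subgroup of `F^k` (`k ≥ 2`) stable under all elementary matrices `1 + a E_ij`
is `0` or everything. -/
theorem irr_core {k : ℕ} (hk : 2 ≤ k) (X : AddSubgroup (Matrix (Fin k) (Fin 1) F))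
    (hX : ∀ (i j : Fin k), i ≠ j → ∀ (a : F), ∀ c ∈ X,
      (1 + Matrix.single i j a : Matrix (Fin k) (Fin k) F) * c ∈ X)
    (hne : ∃ c ∈ X, c ≠ 0) : ∀ c, c ∈ X := by
  have hstar : ∀ (i j : Fin k), i ≠ j → ∀ (a : F), ∀ c ∈ X,
      (Matrix.single i (0 : Fin 1) (a * c j 0) : Matrix (Fin k) (Fin 1) F) ∈ X := by
    intro i j hij a c hc
    have h1 := X.sub_mem (hX i j hij a c hc) hc
    have h2 : (1 + Matrix.single i j a : Matrix (Fin k) (Fin k) F) * c - c =
        Matrix.single i (0 : Fin 1) (a * c j 0) := by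
      rw [Matrix.add_mul, Matrix.one_mul, add_sub_cancel_left]
      ext r l
      rw [Fin.eq_zero l, Matrix.mul_apply, Matrix.single_apply]
      by_cases h : i = r
      · rw [Finset.sum_eq_single j]
        · simp [Matrix.single_apply, h]
        · intro b _ hb
          simp [Matrix.single_apply, Ne.symm hb]
        · intro h'; exact absurd (Finset.mem_univ _) h'
      · rw [if_neg (fun h' => h h'.1)]
        apply Finset.sum_eq_zero
        intro b _
        simp [Matrix.single_apply, h]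
    rw [h2] at h1
    exact h1
  obtain ⟨c, hc, hc0⟩ := hne
  have hj : ∃ j, c j 0 ≠ 0 := by
    by_contra h
    push Not at h
    apply hc0
    ext r l
    rw [Fin.eq_zero l]
    exact h r
  obtain ⟨j, hj⟩ := hj
  have h1 : ∀ i, i ≠ j → ∀ b : F,
      (Matrix.single i (0 : Fin 1) b : Matrix (Fin k) (Fin 1) F) ∈ X := by
    intro i hij b
    have h := hstar i j hij (b / c j 0) c hc
    rwa [div_mul_cancel₀ _ hj] at h
  obtain ⟨i, hij⟩ : ∃ i : Fin k, i ≠ j := by
    by_cases h0 : j = ⟨0, by omega⟩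
    · exact ⟨⟨1, by omega⟩, by rw [h0]; simp [Fin.ext_iff]⟩
    · exact ⟨⟨0, by omega⟩, fun h => h0 h.symm⟩
  have h2 : ∀ b : F, (Matrix.single j (0 : Fin 1) b : Matrix (Fin k) (Fin 1) F) ∈ X := by
    intro b
    have h := hstar j i (Ne.symm hij) b _ (h1 i hij 1)
    simpa using h
  have h3 : ∀ (i : Fin k) (b : F),
      (Matrix.single i (0 : Fin 1) b : Matrix (Fin k) (Fin 1) F) ∈ X := by
    intro i' b
    by_cases h : i' = j
    · rw [h]; exact h2 b
    · exact h1 i' h b
  intro c'
  have h4 : c' = ∑ i : Fin k, Matrix.single i (0 : Fin 1) (c' i 0) := by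
    ext r l
    rw [Fin.eq_zero l, Matrix.sum_apply]
    simp [Matrix.single_apply]
  rw [h4]
  exact X.sum_mem (fun i _ => h3 i _)

theorem irr_top (σ : F →+* F) (hσ : ∀ a, σ (σ a) = a) {k : ℕ} (hk : 2 ≤ k) :
    IrrU (Set.univ : Set (Matrix.SpecialLinearGroup (Fin k) F)) ∧
      IrrL σ (Set.univ : Set (Matrix.SpecialLinearGroup (Fin k) F)) := by
  constructor
  · intro X hX hne
    apply irr_core hk X _ hne
    intro i j hij a c hc
    have h := hX (Matrix.SpecialLinearGroup.transvection hij a) (Set.mem_univ _) c hc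
    rwa [Matrix.SpecialLinearGroup.transvection_coe] at h
  · intro X hX hne
    apply irr_core hk X _ hne
    intro i j hij a c hc
    have h := hX (Matrix.SpecialLinearGroup.transvection (Ne.symm hij) (σ a))⁻¹
      (Set.mem_univ _) c hc
    rw [inv_inv, Matrix.SpecialLinearGroup.transvection_coe] at h
    have h1 : ct σ (1 + Matrix.single j i (σ a) : Matrix (Fin k) (Fin k) F) =
        1 + Matrix.single i j a := by
      rw [ct_add, ct_one]
      congr 1
      ext r s
      rw [ct_apply, Matrix.single_apply, Matrix.single_apply]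
      by_cases h' : j = s ∧ i = r
      · rw [if_pos h', if_pos ⟨h'.2, h'.1⟩, hσ]
      · rw [if_neg h', if_neg (fun h'' => h' ⟨h''.2, h''.1⟩), map_zero]
    rwa [h1] at h

example (σ : F →+* F) (hσ : ∀ a, σ (σ a) = a) {k : ℕ} (hk : 2 ≤ k) :
    IrrU (Set.univ : Set (Matrix.SpecialLinearGroup (Fin k) F)) ∧
      IrrL σ (Set.univ : Set (Matrix.SpecialLinearGroup (Fin k) F)) := irr_top σ hσ hk

end Cfsg.Agent.H28.SuR
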