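import Mathlib
import Cfsg.Agent.H97.SuRDefs
import Cfsg.Agent.H28.SpRWeyl

set_option autoImplicit false

/-!
# S2282-WEYL (helper28, for helper97): the Weyl element conjugates `d(J) e^U(c, S)` to
`d(J⁻¹) e^L(P c ν', P S P*)`.
-/

namespace Cfsg.Agent.H28.SuR

open Matrix Cfsg.Agent.H45.U Cfsg.Agent.H97.SuR

variable {F : Type*} [Field F]

theorem ct_revP (σ : F →+* F) (k : ℕ) :
    ct σ (Cfsg.Agent.H97.SpR.revP F k) = Cfsg.Agent.H97.SpR.revP F k := by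
  ext i j
  rw [ct_apply]
  show σ (if (j : ℕ) + (i : ℕ) + 1 = k then (1 : F) else 0) =
    if (i : ℕ) + (j : ℕ) + 1 = k then 1 else 0
  rw [add_comm (j : ℕ) (i : ℕ)]
  split_ifs <;> simp

theorem uniM_map (σ : F →+* F) (k : ℕ) :
    (Cfsg.Agent.H97.SpR.uniM k (1 : F)).map σ = Cfsg.Agent.H97.SpR.uniM k (1 : F) := by
  ext i j
  rw [Matrix.map_apply, Cfsg.Agent.H97.SpR.uniM_apply]
  split_ifs <;> simp

theorem uniSL_inv_mul (k : ℕ) :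
    (((Cfsg.Agent.H97.SpR.uniSL k (1 : F))⁻¹ : Matrix.SpecialLinearGroup (Fin k) F) :
        Matrix (Fin k) (Fin k) F) * Cfsg.Agent.H97.SpR.uniM k (1 : F) = 1 := by
  rw [← Cfsg.Agent.H97.SpR.uniSL_coe, ← Matrix.SpecialLinearGroup.coe_mul, inv_mul_cancel,
    Matrix.SpecialLinearGroup.coe_one]

theorem uniSL_mul_inv (k : ℕ) :
    Cfsg.Agent.H97.SpR.uniM k (1 : F) *
      (((Cfsg.Agent.H97.SpR.uniSL k (1 : F))⁻¹ : Matrix.SpecialLinearGroup (Fin k) F) :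
        Matrix (Fin k) (Fin k) F) = 1 := by
  rw [← Cfsg.Agent.H97.SpR.uniSL_coe, ← Matrix.SpecialLinearGroup.coe_mul, mul_inv_cancel,
    Matrix.SpecialLinearGroup.coe_one]

theorem uniSL_inv_map (σ : F →+* F) (k : ℕ) :
    (((Cfsg.Agent.H97.SpR.uniSL k (1 : F))⁻¹ : Matrix.SpecialLinearGroup (Fin k) F) :
        Matrix (Fin k) (Fin k) F).map σ =
      (((Cfsg.Agent.H97.SpR.uniSL k (1 : F))⁻¹ : Matrix.SpecialLinearGroup (Fin k) F) :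
        Matrix (Fin k) (Fin k) F) := by
  obtain ⟨Ji, hJi⟩ : ∃ Ji : Matrix (Fin k) (Fin k) F, Ji =
      (((Cfsg.Agent.H97.SpR.uniSL k (1 : F))⁻¹ : Matrix.SpecialLinearGroup (Fin k) F) :
        Matrix (Fin k) (Fin k) F) := ⟨_, rfl⟩
  have h1 : Ji * Cfsg.Agent.H97.SpR.uniM k (1 : F) = 1 := by rw [hJi]; exact uniSL_inv_mul k
  have h2 : Cfsg.Agent.H97.SpR.uniM k (1 : F) * Ji = 1 := by rw [hJi]; exact uniSL_mul_inv k
  rw [← hJi]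
  have h3 : Ji.map σ * Cfsg.Agent.H97.SpR.uniM k (1 : F) = 1 := by
    have h4 : (Ji * Cfsg.Agent.H97.SpR.uniM k (1 : F)).map σ =
        Ji.map σ * (Cfsg.Agent.H97.SpR.uniM k (1 : F)).map σ := Matrix.map_mul
    rw [uniM_map, h1] at h4
    rw [← h4]
    exact Matrix.map_one σ (map_zero σ) (map_one σ)
  calc Ji.map σ = Ji.map σ * (Cfsg.Agent.H97.SpR.uniM k (1 : F) * Ji) := by
        rw [h2, Matrix.mul_one]
    _ = (Ji.map σ * Cfsg.Agent.H97.SpR.uniM k (1 : F)) * Ji := by rw [Matrix.mul_assoc]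
    _ = Ji := by rw [h3, Matrix.one_mul]

/-- `P * J = J* * P`. -/
theorem revP_mul_uniM_ct (σ : F →+* F) (k : ℕ) :
    Cfsg.Agent.H97.SpR.revP F k * Cfsg.Agent.H97.SpR.uniM k (1 : F) =
      ct σ (Cfsg.Agent.H97.SpR.uniM k (1 : F)) * Cfsg.Agent.H97.SpR.revP F k := by
  unfold ct
  rw [uniM_map]
  exact Cfsg.Agent.H28.SpR.revP_mul_uniM k

/-- `P * (J⁻¹)* = J⁻¹ * P`. -/
theorem revP_mul_ct_inv (σ : F →+* F) (k : ℕ) :
    Cfsg.Agent.H97.SpR.revP F k *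
        ct σ (((Cfsg.Agent.H97.SpR.uniSL k (1 : F))⁻¹ : Matrix.SpecialLinearGroup (Fin k) F) :
          Matrix (Fin k) (Fin k) F) =
      (((Cfsg.Agent.H97.SpR.uniSL k (1 : F))⁻¹ : Matrix.SpecialLinearGroup (Fin k) F) :
          Matrix (Fin k) (Fin k) F) * Cfsg.Agent.H97.SpR.revP F k := by
  unfold ct
  rw [uniSL_inv_map]
  obtain ⟨Ji, hJi⟩ : ∃ Ji : Matrix (Fin k) (Fin k) F, Ji =
      (((Cfsg.Agent.H97.SpR.uniSL k (1 : F))⁻¹ : Matrix.SpecialLinearGroup (Fin k) F) :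
        Matrix (Fin k) (Fin k) F) := ⟨_, rfl⟩
  have h1 : Ji * Cfsg.Agent.H97.SpR.uniM k (1 : F) = 1 := by rw [hJi]; exact uniSL_inv_mul k
  rw [← hJi]
  have h2 : (Cfsg.Agent.H97.SpR.uniM k (1 : F))ᵀ * Jiᵀ = 1 := by
    rw [← Matrix.transpose_mul, h1, Matrix.transpose_one]
  obtain ⟨P, hP⟩ : ∃ P : Matrix (Fin k) (Fin k) F, P = Cfsg.Agent.H97.SpR.revP F k := ⟨_, rfl⟩
  obtain ⟨J, hJ⟩ : ∃ J : Matrix (Fin k) (Fin k) F, J = Cfsg.Agent.H97.SpR.uniM k (1 : F) :=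
    ⟨_, rfl⟩
  have h3 : J * P = P * Jᵀ := by rw [hJ, hP]; exact Cfsg.Agent.H28.SpR.uniM_mul_revP k
  rw [← hP]
  rw [← hJ] at h1 h2
  calc P * Jiᵀ = (Ji * J) * P * Jiᵀ := by rw [h1, Matrix.one_mul]
    _ = Ji * (J * P) * Jiᵀ := by rw [Matrix.mul_assoc Ji J P]
    _ = Ji * (P * Jᵀ) * Jiᵀ := by rw [h3]
    _ = Ji * P * (Jᵀ * Jiᵀ) := by simp only [Matrix.mul_assoc]
    _ = Ji * P := by rw [h2, Matrix.mul_one]

/-- `n(P) d(J) = d(J⁻¹) n(P)`. -/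
theorem nU_mul_dU_uni (σ : F →+* F) (k : ℕ) (ν : Matrix (Fin 1) (Fin 1) F) :
    nU σ (Cfsg.Agent.H97.SpR.revP F k) (Cfsg.Agent.H97.SpR.revP F k) ν *
        dU σ (Cfsg.Agent.H97.SpR.uniM k (1 : F))
          (((Cfsg.Agent.H97.SpR.uniSL k (1 : F))⁻¹ : Matrix.SpecialLinearGroup (Fin k) F) :
            Matrix (Fin k) (Fin k) F) (1 : Matrix (Fin 1) (Fin 1) F) =
      dU σ (((Cfsg.Agent.H97.SpR.uniSL k (1 : F))⁻¹ : Matrix.SpecialLinearGroup (Fin k) F) :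
            Matrix (Fin k) (Fin k) F) (Cfsg.Agent.H97.SpR.uniM k (1 : F))
          (1 : Matrix (Fin 1) (Fin 1) F) *
        nU σ (Cfsg.Agent.H97.SpR.revP F k) (Cfsg.Agent.H97.SpR.revP F k) ν := by
  have hA := revP_mul_ct_inv σ k
  have hB := revP_mul_uniM_ct σ k
  unfold nU dU
  rw [blk3_mul, blk3_mul, ct_revP]
  congr 1
  · simp
  · simp only [Matrix.zero_mul, Matrix.mul_zero, zero_add, add_zero]
    exact hA
  · simp
  · simp only [Matrix.zero_mul, Matrix.mul_zero, zero_add, add_zero]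
    exact hB
  · simp
  · simp
  · simp
  · simp
  · simp

theorem weyl_form (σ : F →+* F) (_hσ : ∀ a, σ (σ a) = a) (k : ℕ)
    (ν ν' : Matrix (Fin 1) (Fin 1) F) (hν : ν' * ν = 1) (hνu : ct σ ν' = ν)
    (c : Matrix (Fin k) (Fin 1) F) (S : Matrix (Fin k) (Fin k) F) :
    nU σ (Cfsg.Agent.H97.SpR.revP F k) (Cfsg.Agent.H97.SpR.revP F k) ν *
        dE σ (Cfsg.Agent.H97.SpR.uniSL k (1 : F)) c S =
      dF σ (Cfsg.Agent.H97.SpR.uniSL k (1 : F))⁻¹ (Cfsg.Agent.H97.SpR.revP F k * c * ν')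
          (Cfsg.Agent.H97.SpR.revP F k * S * ct σ (Cfsg.Agent.H97.SpR.revP F k)) *
        nU σ (Cfsg.Agent.H97.SpR.revP F k) (Cfsg.Agent.H97.SpR.revP F k) ν := by
  have hPP : Cfsg.Agent.H97.SpR.revP F k * Cfsg.Agent.H97.SpR.revP F k = 1 :=
    Cfsg.Agent.H28.SpR.revP_mul_revP k
  unfold dE dF
  rw [inv_inv, Cfsg.Agent.H97.SpR.uniSL_coe, ← Matrix.mul_assoc, nU_mul_dU_uni, Matrix.mul_assoc,
    nU_mul_eU σ _ _ ν ν' c S hPP hν hνu, ← Matrix.mul_assoc]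

example (σ : F →+* F) (hσ : ∀ a, σ (σ a) = a) (k : ℕ)
    (ν ν' : Matrix (Fin 1) (Fin 1) F) (hν : ν' * ν = 1) (hνu : ct σ ν' = ν)
    (c : Matrix (Fin k) (Fin 1) F) (S : Matrix (Fin k) (Fin k) F) :
    nU σ (Cfsg.Agent.H97.SpR.revP F k) (Cfsg.Agent.H97.SpR.revP F k) ν *
        dE σ (Cfsg.Agent.H97.SpR.uniSL k (1 : F)) c S =
      dF σ (Cfsg.Agent.H97.SpR.uniSL k (1 : F))⁻¹ (Cfsg.Agent.H97.SpR.revP F k * c * ν')
          (Cfsg.Agent.H97.SpR.revP F k * S * ct σ (Cfsg.Agent.H97.SpR.revP F k)) *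
        nU σ (Cfsg.Agent.H97.SpR.revP F k) (Cfsg.Agent.H97.SpR.revP F k) ν :=
  weyl_form σ hσ k ν ν' hν hνu c S

end Cfsg.Agent.H28.SuR
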