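import Mathlib
import Cfsg.Agent.H97.SuRDefs
import Cfsg.Agent.H62.SpRReg
import Cfsg.Agent.H28.SuRWeyl

set_option autoImplicit false

/-!
# S2282-REG (helper28, for helper97): `u₁ = d(J) e^U(e_l, S)` is a regular unipotent element of
`SU_{2k+1}`: `u₁ - 1` is nilpotent and `(u₁ - 1) ^ (2k) ≠ 0`.
-/

namespace Cfsg.Agent.H28.SuR

open Matrix Cfsg.Agent.H45.U Cfsg.Agent.H97.SuR

variable {F : Type*} [Field F]

section generic

variable {m d : Type*} [Fintype m] [DecidableEq m] [Fintype d] [DecidableEq d]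

theorem blk3_sub_one (A₁₁ A₁₂ : Matrix m m F) (A₁₃ : Matrix m d F) (A₂₁ A₂₂ : Matrix m m F)
    (A₂₃ : Matrix m d F) (A₃₁ A₃₂ : Matrix d m F) (A₃₃ : Matrix d d F) :
    blk3 A₁₁ A₁₂ A₁₃ A₂₁ A₂₂ A₂₃ A₃₁ A₃₂ A₃₃ - 1 =
      blk3 (A₁₁ - 1) A₁₂ A₁₃ A₂₁ (A₂₂ - 1) A₂₃ A₃₁ A₃₂ (A₃₃ - 1) := by
  rw [blk3_one]
  ext (i | i | i) (j | j | j) <;> simp [Matrix.sub_apply]

omit [Fintype m] [DecidableEq m] [Fintype d] [DecidableEq d] in
theorem blk3_zero :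
    blk3 (0 : Matrix m m F) 0 (0 : Matrix m d F) 0 0 0 (0 : Matrix d m F) 0 (0 : Matrix d d F) =
      0 := by
  ext (i | i | i) (j | j | j) <;> simp

/-- Powers of a block matrix of the shape of `u₁ - 1`. -/
theorem blk3_pow_shape (N R D : Matrix m m F) (u : Matrix m d F) (E : Matrix d m F) (j : ℕ) :
    ∃ B : Matrix m m F, (blk3 N R u 0 D 0 0 E 0) ^ (j + 1) =
      blk3 (N ^ (j + 1)) B (N ^ j * u) 0 (D ^ (j + 1)) 0 0 (E * D ^ j) 0 := by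
  induction j with
  | zero => exact ⟨R, by simp⟩
  | succ j ih =>
    obtain ⟨B, hB⟩ := ih
    refine ⟨N ^ (j + 1) * R + B * D + N ^ j * u * E, ?_⟩
    rw [pow_succ, hB, blk3_mul]
    congr 1 <;> simp [pow_succ, Matrix.mul_assoc]

theorem blk3_shape_regular (N R D : Matrix m m F) (u : Matrix m d F) (E : Matrix d m F) (k : ℕ)
    (hk : 1 ≤ k) (hN : N ^ k = 0) (hD : D ^ k = 0) :
    IsNilpotent (blk3 N R u 0 D 0 0 E 0) ∧
      (blk3 N R u 0 D 0 0 E 0) ^ (2 * k) =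
        blk3 0 (N ^ (k - 1) * u * (E * D ^ (k - 1))) 0 0 0 0 0 0 0 := by
  obtain ⟨j, rfl⟩ : ∃ j, k = j + 1 := ⟨k - 1, by omega⟩
  obtain ⟨B, hB⟩ := blk3_pow_shape N R D u E j
  rw [hN, hD] at hB
  have h2 : (blk3 N R u 0 D 0 0 E 0) ^ (2 * (j + 1)) =
      blk3 0 (N ^ j * u * (E * D ^ j)) 0 0 0 0 0 0 0 := by
    rw [two_mul, pow_add, hB, blk3_mul]
    congr 1 <;> simp
  refine ⟨⟨3 * (j + 1), ?_⟩, ?_⟩
  · have h3 : (blk3 N R u 0 D 0 0 E 0) ^ (3 * (j + 1)) = blk3 0 0 0 0 0 0 0 0 0 := by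
      have : 3 * (j + 1) = 2 * (j + 1) + (j + 1) := by ring
      rw [this, pow_add, h2, hB, blk3_mul]
      congr 1 <;> simp
    rw [h3, blk3_zero]
  · simpa using h2

theorem col_mul_row_eq_zero {m n : Type*} (a : Matrix m (Fin 1) F) (b : Matrix (Fin 1) n F)
    (h : a * b = 0) : a = 0 ∨ b = 0 := by
  by_contra hcon
  push Not at hcon
  obtain ⟨ha, hb⟩ := hcon
  have ha' : ∃ i, a i 0 ≠ 0 := by
    by_contra h'
    push Not at h'
    apply ha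
    ext i l
    rw [Fin.eq_zero l]
    exact h' i
  have hb' : ∃ j, b 0 j ≠ 0 := by
    by_contra h'
    push Not at h'
    apply hb
    ext l j
    rw [Fin.eq_zero l]
    exact h' j
  obtain ⟨i, hi⟩ := ha'
  obtain ⟨j, hj⟩ := hb'
  have h1 := congrFun (congrFun h i) j
  rw [Matrix.mul_apply, Fin.sum_univ_one] at h1
  exact mul_ne_zero hi hj h1

end generic

theorem shiftN_pow_mul_cE (k : ℕ) (hk : 1 ≤ k) :
    (Cfsg.Agent.H97.SpR.shiftN F k ^ (k - 1) * cE F k) ⟨0, hk⟩ 0 = 1 := by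
  rw [Matrix.mul_apply, Finset.sum_eq_single (⟨k - 1, by omega⟩ : Fin k)]
  · rw [Cfsg.Agent.H62.SpR.shiftN_pow_apply]
    have h2 : k - 1 + 1 = k := by omega
    simp [cE, h2]
  · intro b _ hb
    rw [Cfsg.Agent.H62.SpR.shiftN_pow_apply]
    have h1 : ¬ ((0 : ℕ) + (k - 1) = (b : ℕ)) := fun h => hb (Fin.ext (by simp; omega))
    rw [if_neg h1, zero_mul]
  · intro h; exact absurd (Finset.mem_univ _) h

theorem u1_regular (σ : F →+* F) (k : ℕ) (hk : 1 ≤ k) (S : Matrix (Fin k) (Fin k) F) :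
    IsNilpotent (dE σ (Cfsg.Agent.H97.SpR.uniSL k (1 : F)) (cE F k) S - 1) ∧
      (dE σ (Cfsg.Agent.H97.SpR.uniSL k (1 : F)) (cE F k) S - 1) ^ (2 * k) ≠ 0 := by
  obtain ⟨J, hJ⟩ : ∃ J : Matrix (Fin k) (Fin k) F, J = Cfsg.Agent.H97.SpR.uniM k (1 : F) :=
    ⟨_, rfl⟩
  obtain ⟨Ji, hJi⟩ : ∃ Ji : Matrix (Fin k) (Fin k) F, Ji =
      (((Cfsg.Agent.H97.SpR.uniSL k (1 : F))⁻¹ : Matrix.SpecialLinearGroup (Fin k) F) :
        Matrix (Fin k) (Fin k) F) := ⟨_, rfl⟩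
  obtain ⟨N, hN⟩ : ∃ N : Matrix (Fin k) (Fin k) F, N = Cfsg.Agent.H97.SpR.shiftN F k := ⟨_, rfl⟩
  obtain ⟨c, hc⟩ : ∃ c : Matrix (Fin k) (Fin 1) F, c = cE F k := ⟨_, rfl⟩
  obtain ⟨T, hT⟩ : ∃ T : Matrix (Fin k) (Fin k) F, T = Ji - 1 := ⟨_, rfl⟩
  have h1 : Ji * J = 1 := by rw [hJi, hJ]; exact uniSL_inv_mul k
  have h2 : J * Ji = 1 := by rw [hJi, hJ]; exact uniSL_mul_inv k
  have hJN : J = 1 + N := by rw [hJ, hN]; simp [Cfsg.Agent.H97.SpR.uniM]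
  have hNk : N ^ k = 0 := by rw [hN]; exact Cfsg.Agent.H62.SpR.shiftN_pow_self k
  have hN1 : N ^ (k - 1) * c ≠ 0 := by
    intro h
    have h3 := congrFun (congrFun h ⟨0, hk⟩) 0
    rw [hN, hc, shiftN_pow_mul_cE k hk] at h3
    exact one_ne_zero h3
  -- the shape of `u₁ - 1`
  have hX : dE σ (Cfsg.Agent.H97.SpR.uniSL k (1 : F)) c S - 1 =
      blk3 N (J * S) (J * c) 0 (ct σ Ji - 1) 0 0 (-(ct σ c)) 0 := by
    unfold dE dU eU
    rw [Cfsg.Agent.H97.SpR.uniSL_coe, ← hJ, ← hJi, blk3_mul, blk3_sub_one]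
    congr 1 <;> simp [hJN]
  have hD : ct σ Ji - 1 = ct σ T := by rw [hT, ct_sub, ct_one]
  have hJT : J * T = -N := by
    rw [hT, Matrix.mul_sub, h2, Matrix.mul_one, hJN]; abel
  have hTJ : T * J = -N := by
    rw [hT, Matrix.sub_mul, h1, Matrix.one_mul, hJN]; abel
  have hcomm : Commute J T := by
    show J * T = T * J
    rw [hJT, hTJ]
  have hpow : ∀ n : ℕ, J ^ n * T ^ n = (-N) ^ n := fun n => by rw [← hcomm.mul_pow, hJT]
  have hJiJ : ∀ n : ℕ, Ji ^ n * J ^ n = 1 := fun n => by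
    have hc' : Commute Ji J := by
      show Ji * J = J * Ji
      rw [h1, h2]
    rw [← hc'.mul_pow, h1, one_pow]
  have hT0 : ∀ n : ℕ, T ^ n = Ji ^ n * (-N) ^ n := fun n => by
    rw [← hpow, ← Matrix.mul_assoc, hJiJ, Matrix.one_mul]
  have hDk : (ct σ Ji - 1) ^ k = 0 := by
    rw [hD, ← ct_pow, hT0 k, neg_pow, hNk, mul_zero, mul_zero, ct_zero]
  obtain ⟨hnil, hpow2⟩ :=
    blk3_shape_regular N (J * S) (ct σ Ji - 1) (J * c) (-(ct σ c)) k hk hNk hDk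
  rw [← hc, hX]
  refine ⟨hnil, ?_⟩
  rw [hpow2]
  intro h0
  have hW : N ^ (k - 1) * (J * c) * (-(ct σ c) * (ct σ Ji - 1) ^ (k - 1)) = 0 := by
    ext i j
    have h3 := congrFun (congrFun h0 (Sum.inl i)) (Sum.inr (Sum.inl j))
    simpa using h3
  rcases col_mul_row_eq_zero _ _ hW with ha | hb
  · have h3 : N ^ (k - 1) * (J * c) = N ^ (k - 1) * c := by
      have h4 : k - 1 + 1 = k := by omega
      rw [hJN, Matrix.add_mul, Matrix.one_mul, Matrix.mul_add, ← Matrix.mul_assoc, ← pow_succ, h4,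
        hNk, Matrix.zero_mul, add_zero]
    rw [h3] at ha
    exact hN1 ha
  · have h4 : -(ct σ c) * (ct σ Ji - 1) ^ (k - 1) = -(ct σ (T ^ (k - 1) * c)) := by
      rw [hD, ← ct_pow, ct_mul, Matrix.neg_mul]
    rw [h4] at hb
    have h5 : T ^ (k - 1) * c = 0 := by
      ext i l
      have h6 := congrFun (congrFun hb l) i
      rw [Matrix.neg_apply, ct_apply, Matrix.zero_apply, neg_eq_zero, map_eq_zero] at h6
      exact h6
    have h6 : (-N) ^ (k - 1) * c = 0 := by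
      rw [← hpow, Matrix.mul_assoc, h5, Matrix.mul_zero]
    rw [neg_pow, Matrix.mul_assoc] at h6
    apply hN1
    have hu : ((-1 : Matrix (Fin k) (Fin k) F) ^ (k - 1)) * ((-1) ^ (k - 1)) = 1 := by
      rw [← pow_add, ← two_mul, pow_mul, neg_one_sq, one_pow]
    calc N ^ (k - 1) * c
        = ((-1 : Matrix (Fin k) (Fin k) F) ^ (k - 1) * (-1) ^ (k - 1)) * (N ^ (k - 1) * c) := by
          rw [hu, Matrix.one_mul]
      _ = (-1 : Matrix (Fin k) (Fin k) F) ^ (k - 1) *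
            ((-1 : Matrix (Fin k) (Fin k) F) ^ (k - 1) * (N ^ (k - 1) * c)) := by
          rw [Matrix.mul_assoc]
      _ = 0 := by rw [h6, Matrix.mul_zero]

example (σ : F →+* F) (k : ℕ) (hk : 1 ≤ k) (S : Matrix (Fin k) (Fin k) F) :
    IsNilpotent (dE σ (Cfsg.Agent.H97.SpR.uniSL k (1 : F)) (cE F k) S - 1) ∧
      (dE σ (Cfsg.Agent.H97.SpR.uniSL k (1 : F)) (cE F k) S - 1) ^ (2 * k) ≠ 0 :=
  u1_regular σ k hk S

end Cfsg.Agent.H28.SuR
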