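import Mathlib
import Cfsg.Agent.H64.TmDefs

set_option autoImplicit false

/-!
# TM-STRUCT (S3701 team project, helper64)

The hypotheses of S3701 give the configuration `Cfg`: the group
`⟨(012),(345),(678),(01)(34),(01)(67)⟩ ≤ Sym(9)` consists of the 108 normal forms
`A^i B^j C^k X^m Y^n`, and everything is transported along the given isomorphism.
-/

namespace Cfsg.Agent.H28.Tm

open Subgroup

universe u

abbrev pA : Equiv.Perm (Fin 9) := Equiv.swap 0 1 * Equiv.swap 1 2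
abbrev pB : Equiv.Perm (Fin 9) := Equiv.swap 3 4 * Equiv.swap 4 5
abbrev pC : Equiv.Perm (Fin 9) := Equiv.swap 6 7 * Equiv.swap 7 8
abbrev pX : Equiv.Perm (Fin 9) := Equiv.swap 0 1 * Equiv.swap 3 4
abbrev pY : Equiv.Perm (Fin 9) := Equiv.swap 0 1 * Equiv.swap 6 7

/-- The group `H₀ ≤ Sym(9)`. -/
abbrev K9 : Subgroup (Equiv.Perm (Fin 9)) :=
  closure ({pA, pB, pC, pX, pY} : Set (Equiv.Perm (Fin 9)))

/-- Normal form in `Sym(9)`. -/
def nf (i j k : Fin 3) (m n : Fin 2) : Equiv.Perm (Fin 9) :=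
  pA ^ i.val * pB ^ j.val * pC ^ k.val * pX ^ m.val * pY ^ n.val

lemma relA3 : pA ^ 3 = 1 := by decide
lemma relB3 : pB ^ 3 = 1 := by decide
lemma relC3 : pC ^ 3 = 1 := by decide
lemma relAB : pA * pB = pB * pA := by decide
lemma relAC : pA * pC = pC * pA := by decide
lemma relBC : pB * pC = pC * pB := by decide
lemma relX2 : pX * pX = 1 := by decide
lemma relY2 : pY * pY = 1 := by decide
lemma relXY : pX * pY = pY * pX := by decide
lemma relXA : pX * pA = pA⁻¹ * pX := by decide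
lemma relXB : pX * pB = pB⁻¹ * pX := by decide
lemma relXC : pX * pC = pC * pX := by decide
lemma relYA : pY * pA = pA⁻¹ * pY := by decide
lemma relYB : pY * pB = pB * pY := by decide
lemma relYC : pY * pC = pC⁻¹ * pY := by decide

lemma mulA : ∀ (i j k : Fin 3) (m n : Fin 2), pA * nf i j k m n = nf (i + 1) j k m n := by
  decide
lemma mulB : ∀ (i j k : Fin 3) (m n : Fin 2), pB * nf i j k m n = nf i (j + 1) k m n := by
  decide
lemma mulC : ∀ (i j k : Fin 3) (m n : Fin 2), pC * nf i j k m n = nf i j (k + 1) m n := by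
  decide
lemma mulX : ∀ (i j k : Fin 3) (m n : Fin 2),
    pX * nf i j k m n = nf (-i) (-j) k (m + 1) n := by
  decide
lemma mulY : ∀ (i j k : Fin 3) (m n : Fin 2),
    pY * nf i j k m n = nf (-i) j (-k) m (n + 1) := by
  decide
lemma mulAi : ∀ (i j k : Fin 3) (m n : Fin 2), pA⁻¹ * nf i j k m n = nf (i + 2) j k m n := by
  decide
lemma mulBi : ∀ (i j k : Fin 3) (m n : Fin 2), pB⁻¹ * nf i j k m n = nf i (j + 2) k m n := by
  decide
lemma mulCi : ∀ (i j k : Fin 3) (m n : Fin 2), pC⁻¹ * nf i j k m n = nf i j (k + 2) m n := by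
  decide
lemma mulXi : ∀ (i j k : Fin 3) (m n : Fin 2),
    pX⁻¹ * nf i j k m n = nf (-i) (-j) k (m + 1) n := by
  decide
lemma mulYi : ∀ (i j k : Fin 3) (m n : Fin 2),
    pY⁻¹ * nf i j k m n = nf (-i) j (-k) m (n + 1) := by
  decide

lemma pow6 : ∀ (i j k : Fin 3) (m n : Fin 2), nf i j k m n ^ 6 = 1 := by
  decide +kernel

lemma pow3 : ∀ (i j k : Fin 3) (m n : Fin 2), nf i j k m n ^ 3 = 1 → m = 0 ∧ n = 0 := by
  decide +kernel

lemma nfInj : ∀ (i j k : Fin 3) (m n : Fin 2) (i' j' k' : Fin 3) (m' n' : Fin 2),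
    nf i j k m n = nf i' j' k' m' n' → i = i' ∧ j = j' ∧ k = k' ∧ m = m' ∧ n = n' := by
  decide +kernel

lemma indep9 : ∀ i j k : Fin 3, pA ^ i.val * pB ^ j.val * pC ^ k.val = 1 →
    i = 0 ∧ j = 0 ∧ k = 0 := by
  decide

/-- Every element of `H₀` is a normal form. -/
theorem mem_nf : ∀ σ ∈ K9, ∃ (i j k : Fin 3) (m n : Fin 2), σ = nf i j k m n := by
  intro σ hσ
  induction hσ using Subgroup.closure_induction_left with
  | one => exact ⟨0, 0, 0, 0, 0, by decide⟩
  | mul_left g hg y hy ih =>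
    obtain ⟨i, j, k, m, n, rfl⟩ := ih
    simp only [Set.mem_insert_iff, Set.mem_singleton_iff] at hg
    rcases hg with rfl | rfl | rfl | rfl | rfl
    · exact ⟨_, _, _, _, _, mulA i j k m n⟩
    · exact ⟨_, _, _, _, _, mulB i j k m n⟩
    · exact ⟨_, _, _, _, _, mulC i j k m n⟩
    · exact ⟨_, _, _, _, _, mulX i j k m n⟩
    · exact ⟨_, _, _, _, _, mulY i j k m n⟩
  | inv_mul_cancel g hg y hy ih =>
    obtain ⟨i, j, k, m, n, rfl⟩ := ih
    simp only [Set.mem_insert_iff, Set.mem_singleton_iff] at hg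
    rcases hg with rfl | rfl | rfl | rfl | rfl
    · exact ⟨_, _, _, _, _, mulAi i j k m n⟩
    · exact ⟨_, _, _, _, _, mulBi i j k m n⟩
    · exact ⟨_, _, _, _, _, mulCi i j k m n⟩
    · exact ⟨_, _, _, _, _, mulXi i j k m n⟩
    · exact ⟨_, _, _, _, _, mulYi i j k m n⟩

def kA : ↥K9 := ⟨pA, subset_closure (by simp)⟩
def kB : ↥K9 := ⟨pB, subset_closure (by simp)⟩
def kC : ↥K9 := ⟨pC, subset_closure (by simp)⟩
def kX : ↥K9 := ⟨pX, subset_closure (by simp)⟩
def kY : ↥K9 := ⟨pY, subset_closure (by simp)⟩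

/-- Normal form in `H₀`. -/
def kNf (i j k : Fin 3) (m n : Fin 2) : ↥K9 :=
  kA ^ i.val * kB ^ j.val * kC ^ k.val * kX ^ m.val * kY ^ n.val

lemma kNf_val (i j k : Fin 3) (m n : Fin 2) :
    ((kNf i j k m n : ↥K9) : Equiv.Perm (Fin 9)) = nf i j k m n := rfl

lemma exists_kNf (σ : ↥K9) : ∃ (i j k : Fin 3) (m n : Fin 2), σ = kNf i j k m n := by
  obtain ⟨i, j, k, m, n, h⟩ := mem_nf σ.1 σ.2
  exact ⟨i, j, k, m, n, Subtype.ext (by rw [kNf_val]; exact h)⟩

lemma kNf_inj {i j k : Fin 3} {m n : Fin 2} {i' j' k' : Fin 3} {m' n' : Fin 2}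
    (h : kNf i j k m n = kNf i' j' k' m' n') : i = i' ∧ j = j' ∧ k = k' ∧ m = m' ∧ n = n' := by
  apply nfInj
  rw [← kNf_val, ← kNf_val, h]

theorem card_K9 : Nat.card ↥K9 = 108 := by
  have hbij : Function.Bijective
      (fun p : Fin 3 × Fin 3 × Fin 3 × Fin 2 × Fin 2 =>
        kNf p.1 p.2.1 p.2.2.1 p.2.2.2.1 p.2.2.2.2) := by
    constructor
    · rintro ⟨i, j, k, m, n⟩ ⟨i', j', k', m', n'⟩ h
      obtain ⟨h1, h2, h3, h4, h5⟩ := kNf_inj h
      simp only [Prod.mk.injEq]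
      exact ⟨h1, h2, h3, h4, h5⟩
    · intro σ
      obtain ⟨i, j, k, m, n, h⟩ := exists_kNf σ
      exact ⟨(i, j, k, m, n), h.symm⟩
  rw [← Nat.card_congr (Equiv.ofBijective _ hbij), Nat.card_eq_fintype_card]
  simp

theorem struct_aux {G : Type u} [Group G] [Finite G] (H T : Subgroup G)
    (φ : ↥K9 →* G) (hφinj : Function.Injective φ)
    (hφH : ∀ h : G, h ∈ H ↔ ∃ σ : ↥K9, φ σ = h)
    (hcard : Nat.card H = 108)
    (hTH : T ≤ H) (hT : Nat.card T = 27) (hN : normalizer (T : Set G) = H)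
    (hC : ∀ t ∈ T, t ≠ 1 → centralizer ({t} : Set G) ≤ H) :
    Cfsg.Agent.H64.Tm.Cfg G H T (φ kA) (φ kB) (φ kC) (φ kX) (φ kY) := by
  classical
  -- shape of the elements of `T`
  have hTshape : ∀ t ∈ T, ∃ i j k : Fin 3, t = φ (kNf i j k 0 0) := by
    intro t ht
    obtain ⟨σ, rfl⟩ := (hφH t).mp (hTH ht)
    obtain ⟨i, j, k, m, n, rfl⟩ := exists_kNf σ
    have h27 : φ (kNf i j k m n) ^ 27 = 1 := by
      have h1 : (⟨φ (kNf i j k m n), ht⟩ : ↥T) ^ Nat.card ↥T = 1 := pow_card_eq_one'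
      rw [hT] at h1
      exact congrArg Subtype.val h1
    have h27' : kNf i j k m n ^ 27 = 1 := by
      apply hφinj
      rw [map_pow, map_one, h27]
    have h27'' : nf i j k m n ^ 27 = 1 := by
      have := congrArg Subtype.val h27'
      rwa [Subgroup.coe_pow, kNf_val, Subgroup.coe_one] at this
    have h3 : nf i j k m n ^ 3 = 1 := by
      have hg : nf i j k m n ^ Nat.gcd 27 6 = 1 :=
        pow_gcd_eq_one.mpr ⟨h27'', pow6 i j k m n⟩
      have e3 : Nat.gcd 27 6 = 3 := by decide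
      rwa [e3] at hg
    obtain ⟨hm, hn⟩ := pow3 i j k m n h3
    subst hm; subst hn
    exact ⟨i, j, k, rfl⟩
  have hTeq : (T : Set G) = Set.range (fun p : Fin 3 × Fin 3 × Fin 3 =>
      φ (kNf p.1 p.2.1 p.2.2 0 0)) := by
    apply Set.eq_of_subset_of_ncard_le
    · intro t ht
      obtain ⟨i, j, k, h⟩ := hTshape t ht
      exact ⟨(i, j, k), h.symm⟩
    · rw [← Set.image_univ]
      refine (Set.ncard_image_le (Set.toFinite _)).trans ?_
      rw [Set.ncard_univ, ← Nat.card_coe_set_eq, Nat.card_eq_fintype_card (α := Fin 3 × Fin 3 × Fin 3)]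
      have e1 : Nat.card ↥(T : Set G) = 27 := hT
      rw [e1]
      simp
    · exact Set.toFinite _
  have hTmem : ∀ i j k : Fin 3, φ (kNf i j k 0 0) ∈ T := by
    intro i j k
    have : φ (kNf i j k 0 0) ∈ (T : Set G) := by
      rw [hTeq]; exact ⟨(i, j, k), rfl⟩
    exact this
  have hφnf : ∀ (i j k : Fin 3) (m n : Fin 2), φ (kNf i j k m n)
      = φ kA ^ i.val * φ kB ^ j.val * φ kC ^ k.val * φ kX ^ m.val * φ kY ^ n.val := by
    intro i j k m n
    simp only [kNf, map_mul, map_pow]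
  have hnotT : ∀ (i j k : Fin 3) (m n : Fin 2), φ (kNf i j k m n) ∈ T → m = 0 ∧ n = 0 := by
    intro i j k m n h
    obtain ⟨i', j', k', h'⟩ := hTshape _ h
    obtain ⟨-, -, -, h4, h5⟩ := kNf_inj (hφinj h')
    exact ⟨h4, h5⟩
  refine
    { cardT := hT
      cardH := hcard
      TH := hTH
      aT := ?_
      bT := ?_
      cT := ?_
      xH := (hφH _).mpr ⟨kX, rfl⟩
      yH := (hφH _).mpr ⟨kY, rfl⟩
      a3 := ?_
      b3 := ?_
      c3 := ?_
      ab := ?_
      ac := ?_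
      bc := ?_
      x2 := ?_
      y2 := ?_
      xy := ?_
      xa := ?_
      xb := ?_
      xc := ?_
      ya := ?_
      yb := ?_
      yc := ?_
      Telts := ?_
      indep := ?_
      Helts := ?_
      xT := ?_
      yT := ?_
      xyT := ?_
      norm := hN
      loc := hC }
  · have h := hTmem 1 0 0
    have e1 : kNf 1 0 0 0 0 = kA := Subtype.ext (by rw [kNf_val]; decide)
    rwa [e1] at h
  · have h := hTmem 0 1 0
    have e1 : kNf 0 1 0 0 0 = kB := Subtype.ext (by rw [kNf_val]; decide)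
    rwa [e1] at h
  · have h := hTmem 0 0 1
    have e1 : kNf 0 0 1 0 0 = kC := Subtype.ext (by rw [kNf_val]; decide)
    rwa [e1] at h
  · have e1 : kA ^ 3 = 1 := Subtype.ext relA3
    rw [← map_pow, e1, map_one]
  · have e1 : kB ^ 3 = 1 := Subtype.ext relB3
    rw [← map_pow, e1, map_one]
  · have e1 : kC ^ 3 = 1 := Subtype.ext relC3
    rw [← map_pow, e1, map_one]
  · have e1 : kA * kB = kB * kA := Subtype.ext relAB
    rw [← map_mul, e1, map_mul]
  · have e1 : kA * kC = kC * kA := Subtype.ext relAC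
    rw [← map_mul, e1, map_mul]
  · have e1 : kB * kC = kC * kB := Subtype.ext relBC
    rw [← map_mul, e1, map_mul]
  · have e1 : kX * kX = 1 := Subtype.ext relX2
    rw [← map_mul, e1, map_one]
  · have e1 : kY * kY = 1 := Subtype.ext relY2
    rw [← map_mul, e1, map_one]
  · have e1 : kX * kY = kY * kX := Subtype.ext relXY
    rw [← map_mul, e1, map_mul]
  · have e1 : kX * kA = kA⁻¹ * kX := Subtype.ext relXA
    rw [← map_mul, e1, map_mul, map_inv]
  · have e1 : kX * kB = kB⁻¹ * kX := Subtype.ext relXB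
    rw [← map_mul, e1, map_mul, map_inv]
  · have e1 : kX * kC = kC * kX := Subtype.ext relXC
    rw [← map_mul, e1, map_mul]
  · have e1 : kY * kA = kA⁻¹ * kY := Subtype.ext relYA
    rw [← map_mul, e1, map_mul, map_inv]
  · have e1 : kY * kB = kB * kY := Subtype.ext relYB
    rw [← map_mul, e1, map_mul]
  · have e1 : kY * kC = kC⁻¹ * kY := Subtype.ext relYC
    rw [← map_mul, e1, map_mul, map_inv]
  · -- Telts
    intro t ht
    obtain ⟨i, j, k, h⟩ := hTshape t ht
    refine ⟨i.val, j.val, k.val, ?_⟩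
    rw [h, hφnf]
    simp
  · -- indep
    intro i j k h
    have e1 : kA ^ i * kB ^ j * kC ^ k = 1 := by
      apply hφinj
      rw [map_mul, map_mul, map_pow, map_pow, map_pow, map_one, h]
    have e2 : pA ^ i * pB ^ j * pC ^ k = 1 := congrArg Subtype.val e1
    rw [pow_eq_pow_mod i relA3, pow_eq_pow_mod j relB3, pow_eq_pow_mod k relC3] at e2
    obtain ⟨h1, h2, h3⟩ := indep9 ⟨i % 3, Nat.mod_lt _ (by norm_num)⟩
      ⟨j % 3, Nat.mod_lt _ (by norm_num)⟩ ⟨k % 3, Nat.mod_lt _ (by norm_num)⟩ e2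
    refine ⟨Nat.dvd_of_mod_eq_zero ?_, Nat.dvd_of_mod_eq_zero ?_, Nat.dvd_of_mod_eq_zero ?_⟩
    · exact congrArg Fin.val h1
    · exact congrArg Fin.val h2
    · exact congrArg Fin.val h3
  · -- Helts
    intro h hh
    obtain ⟨σ, rfl⟩ := (hφH h).mp hh
    obtain ⟨i, j, k, m, n, rfl⟩ := exists_kNf σ
    refine ⟨φ (kNf i j k 0 0), hTmem i j k, ?_⟩
    rw [hφnf i j k m n, hφnf i j k 0 0]
    fin_cases m <;> fin_cases n <;> simp [mul_assoc]
  · -- xT
    intro h
    have e1 : kNf 0 0 0 1 0 = kX := Subtype.ext (by rw [kNf_val]; decide)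
    rw [← e1] at h
    have := (hnotT _ _ _ _ _ h).1
    exact absurd this (by decide)
  · -- yT
    intro h
    have e1 : kNf 0 0 0 0 1 = kY := Subtype.ext (by rw [kNf_val]; decide)
    rw [← e1] at h
    have := (hnotT _ _ _ _ _ h).2
    exact absurd this (by decide)
  · -- xyT
    intro h
    have e1 : kNf 0 0 0 1 1 = kX * kY := Subtype.ext (by rw [kNf_val]; decide)
    rw [← map_mul, ← e1] at h
    have := (hnotT _ _ _ _ _ h).1
    exact absurd this (by decide)

theorem struct : Cfsg.Agent.H64.Tm.StStruct.{u} := by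
  intro G _ _ H he T hTH hT hN hC
  obtain ⟨e⟩ := he
  have e' : ↥H ≃* ↥K9 := e
  have hcard : Nat.card H = 108 := by
    rw [Nat.card_congr e'.toEquiv, card_K9]
  refine ⟨_, _, _, _, _, struct_aux H T (H.subtype.comp e'.symm.toMonoidHom) ?_ ?_ hcard hTH hT
    hN hC⟩
  · intro σ τ h
    apply e'.symm.injective
    apply Subtype.ext
    exact h
  · intro h
    constructor
    · intro hh
      refine ⟨e' ⟨h, hh⟩, ?_⟩
      simp
    · rintro ⟨σ, rfl⟩
      exact (e'.symm σ).2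

example : Cfsg.Agent.H64.Tm.StStruct.{u} := struct

end Cfsg.Agent.H28.Tm

#print axioms Cfsg.Agent.H28.Tm.struct
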