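import Mathlib
import Cfsg.Agent.H61.TmExDefs
import Cfsg.Agent.H3.TiPrim
import Cfsg.Agent.H3.TiCompDvd
import Cfsg.Agent.H3.TiCycSet

/-!
# TMX-POWERS (helper28, for helper61 / S5987-EXEVEN)

A fixed-point-free `T` with `T ^ r = 1` on a space of dimension `i = ord_r(q)` is killed by one
irreducible factor `φ₁` of the cyclotomic polynomial; for every other factor `φ₀` some power
`T ^ e` is killed by `φ₀` (in `K = F[X]/(φ₁)` the class `ζ` of `X` is a primitive `r`-th root of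
unity, `φ₀` has a root `ζ ^ e`, so `φ₁ ∣ φ₀(X ^ e)`).
-/

set_option autoImplicit false
open scoped MatrixGroups
open scoped Matrix

namespace Cfsg.Agent.H28.Tm

open Cfsg.Agent.H42.Ti Cfsg.Agent.H61.Tm Module Polynomial

universe u

/-- A divisor of positive degree of `X ^ r - 1` has a root among the powers of a nontrivial
`r`-th root of unity. -/
theorem exists_pow_root {F : Type u} [Field F] {K : Type u} [Field K] [Algebra F K] (r : ℕ)
    (hr : r.Prime) (ζ : K) (hζr : ζ ^ r = 1) (hζ1 : ζ ≠ 1) (φ₀ : F[X])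
    (hdvd : φ₀ ∣ X ^ r - 1) (hdeg : 0 < φ₀.natDegree) : ∃ e : ℕ, aeval (ζ ^ e) φ₀ = 0 := by
  classical
  have hrpos : 0 < r := hr.pos
  have : NeZero r := ⟨hr.ne_zero⟩
  have : Fact r.Prime := ⟨hr⟩
  have hprim : IsPrimitiveRoot ζ r := by
    have h := IsPrimitiveRoot.orderOf ζ
    rw [orderOf_eq_prime hζr hζ1] at h
    exact h
  obtain ⟨P, hP⟩ : ∃ P : K[X], P = φ₀.map (algebraMap F K) := ⟨_, rfl⟩
  have hPdvd : P ∣ (X ^ r - 1 : K[X]) := by
    have h1 := Polynomial.map_dvd (algebraMap F K) hdvd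
    rw [Polynomial.map_sub, Polynomial.map_pow, Polynomial.map_X, Polynomial.map_one] at h1
    rw [hP]
    exact h1
  obtain ⟨S, hS⟩ := hPdvd
  have hne : (X ^ r - 1 : K[X]) ≠ 0 := by
    have h1 := Polynomial.X_pow_sub_C_ne_zero hrpos (1 : K)
    rwa [Polynomial.C_1] at h1
  have hPS : P * S ≠ 0 := by rw [← hS]; exact hne
  have hP0 : P ≠ 0 := left_ne_zero_of_mul hPS
  have hS0 : S ≠ 0 := right_ne_zero_of_mul hPS
  have hcard : Multiset.card (X ^ r - 1 : K[X]).roots = r := by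
    have h1 := hprim.card_nthRoots_one
    unfold Polynomial.nthRoots at h1
    rwa [Polynomial.C_1] at h1
  have hdegX : (X ^ r - 1 : K[X]).natDegree = r := by
    have h1 := Polynomial.natDegree_X_pow_sub_C (R := K) (n := r) (r := 1)
    rwa [Polynomial.C_1] at h1
  have hdegP : P.natDegree = φ₀.natDegree := by
    rw [hP]
    exact Polynomial.natDegree_map _
  have h1 : Multiset.card P.roots + Multiset.card S.roots = r := by
    rw [← Multiset.card_add, ← Polynomial.roots_mul hPS, ← hS, hcard]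
  have h2 : P.natDegree + S.natDegree = r := by
    rw [← Polynomial.natDegree_mul hP0 hS0, ← hS, hdegX]
  have h3 := Polynomial.card_roots' P
  have h4 := Polynomial.card_roots' S
  have h5 : 0 < Multiset.card P.roots := by omega
  obtain ⟨α, hα⟩ := Multiset.card_pos_iff_exists_mem.mp h5
  have hα0 : P.eval α = 0 := Polynomial.isRoot_of_mem_roots hα
  have hαr : α ^ r = 1 := by
    have h6 : (X ^ r - 1 : K[X]).eval α = 0 := by
      rw [hS, Polynomial.eval_mul, hα0, zero_mul]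
    rw [Polynomial.eval_sub, Polynomial.eval_pow, Polynomial.eval_X, Polynomial.eval_one] at h6
    exact sub_eq_zero.mp h6
  obtain ⟨e, -, he⟩ := hprim.eq_pow_of_pow_eq_one hαr
  refine ⟨e, ?_⟩
  rw [he, Polynomial.aeval_def, ← Polynomial.eval_map, ← hP]
  exact hα0

/-- TMX-POWERS. -/
theorem powers : StPowers.{u} := by
  intro F _ _ V _ _ _ r T hr hrF hTr hker hdim hipos Φs hΦ φ₀ hφ₀
  classical
  have : Fact r.Prime := ⟨hr⟩
  obtain ⟨-, hcyc⟩ := Cfsg.Agent.H3.Ti.cycSet F r hr hrF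
  obtain ⟨-, hdeg, hprod⟩ := hcyc Φs hΦ
  have htop : (⊤ : Submodule F V) ∈ T.invtSubmodule :=
    (Module.End.mem_invtSubmodule_iff_forall_mem_of_mem T).mpr (fun x _ => Submodule.mem_top)
  -- one factor kills `T`
  have hprim := Cfsg.Agent.H3.Ti.tiPrim.{u, u} Cfsg.Agent.H3.Ti.cycSet F V r T hr hrF hTr Φs hΦ ⊤
    htop
  rw [finrank_top, top_inf_eq, hker, finrank_bot, zero_add, hdim] at hprim
  obtain ⟨φ₁, hφ₁, hpos⟩ : ∃ φ₁ ∈ Φs, 0 < finrank F ↥(⊤ ⊓ LinearMap.ker (aeval T φ₁)) := by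
    by_contra hcon
    have h0 : ∑ φ ∈ Φs, finrank F ↥(⊤ ⊓ LinearMap.ker (aeval T φ)) = 0 := by
      apply Finset.sum_eq_zero
      intro φ hφ
      by_contra h1
      exact hcon ⟨φ, hφ, Nat.pos_of_ne_zero h1⟩
    omega
  have hirr₁ : Irreducible φ₁ := ((hΦ φ₁).mp hφ₁).2.1
  have hdvd₁ := Cfsg.Agent.H3.Ti.tiCompDvd.{u, u} F V T φ₁ hirr₁ ⊤ htop
  rw [hdeg φ₁ hφ₁] at hdvd₁
  have hge := Nat.le_of_dvd hpos hdvd₁
  rw [top_inf_eq] at hge
  have hkertop : LinearMap.ker (aeval T φ₁) = ⊤ := by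
    apply Submodule.eq_top_of_finrank_eq
    have := Submodule.finrank_le (LinearMap.ker (aeval T φ₁))
    omega
  have hT1 : aeval T φ₁ = 0 := LinearMap.ker_eq_top.mp hkertop
  -- the field `K = F[X]/(φ₁)`
  have hfact : Fact (Irreducible φ₁) := ⟨hirr₁⟩
  have hdvdX : ∀ φ ∈ Φs, φ ∣ (X ^ r - 1 : F[X]) := by
    intro φ hφ
    rw [← hprod]
    exact Dvd.dvd.mul_left (Finset.dvd_prod_of_mem _ hφ) _
  obtain ⟨ζ, hζ⟩ : ∃ ζ : AdjoinRoot φ₁, ζ = AdjoinRoot.root φ₁ := ⟨_, rfl⟩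
  have hζiff : ∀ g : F[X], aeval ζ g = 0 ↔ φ₁ ∣ g := by
    intro g
    rw [hζ, AdjoinRoot.aeval_eq, AdjoinRoot.mk_eq_zero]
  have hζr : ζ ^ r = 1 := by
    have h1 := (hζiff _).mpr (hdvdX φ₁ hφ₁)
    rw [map_sub, map_pow, Polynomial.aeval_X, map_one] at h1
    exact sub_eq_zero.mp h1
  have hζ1 : ζ ≠ 1 := by
    intro h1
    have h2 : aeval (1 : AdjoinRoot φ₁) φ₁ = 0 := by
      rw [← h1]
      exact (hζiff φ₁).mpr dvd_rfl
    have h3 : aeval (1 : AdjoinRoot φ₁) φ₁ = algebraMap F (AdjoinRoot φ₁) (φ₁.eval 1) := by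
      have h4 := Polynomial.aeval_algebraMap_apply (AdjoinRoot φ₁) (1 : F) φ₁
      rw [map_one] at h4
      rw [h4]
      rfl
    rw [h3] at h2
    have h5 : φ₁.eval 1 = 0 := by
      have h6 := (algebraMap F (AdjoinRoot φ₁)).injective
      apply h6
      rw [h2, map_zero]
    have h7 : (cyclotomic r F).eval 1 = 0 := by
      obtain ⟨s, hs⟩ := ((hΦ φ₁).mp hφ₁).2.2
      rw [hs, Polynomial.eval_mul, h5, zero_mul]
    rw [Polynomial.eval_one_cyclotomic_prime] at h7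
    exact hrF h7
  obtain ⟨e, he⟩ := exists_pow_root r hr ζ hζr hζ1 φ₀ (hdvdX φ₀ hφ₀)
    (by rw [hdeg φ₀ hφ₀]; exact hipos)
  refine ⟨e, ?_⟩
  have h1 : aeval ζ (φ₀.comp (X ^ e)) = 0 := by
    rw [Polynomial.aeval_comp, map_pow, Polynomial.aeval_X]
    exact he
  obtain ⟨s, hs⟩ := (hζiff _).mp h1
  have h2 : aeval T (φ₀.comp (X ^ e)) = 0 := by
    rw [hs, map_mul, hT1, zero_mul]
  rw [Polynomial.aeval_comp, map_pow, Polynomial.aeval_X] at h2
  exact h2

example : Cfsg.Agent.H61.Tm.StPowers.{u} := powers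

end Cfsg.Agent.H28.Tm

#print axioms Cfsg.Agent.H28.Tm.powers
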