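import Mathlib.LinearAlgebra.Matrix.Transvection
import Mathlib.LinearAlgebra.Matrix.SpecialLinearGroup
import Cfsg.Agent.H28.FStar

/-!
# `F*(C(t)) = O_2(C(t))` for a transvection `t` of `SL(n, 2)`
-/

namespace Cfsg.Agent.H28

open Cfsg

universe u

section criterion

variable {G : Type u} [Group G] [Finite G]

/-- If a normal `p`-subgroup contains its centralizer then `F*(G) = O_p(G)`. -/
theorem genFitting_eq_pCore_of_centralizer_le (p : ℕ) [Fact p.Prime] (Q : Subgroup G)
    (hQn : Q.Normal) (hQ : IsPGroup p Q) (hC : Subgroup.centralizer (Q : Set G) ≤ Q) :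
    generalizedFittingSubgroup G = pCore p G := by
  have hQP : Q ≤ pCore p G := H60.le_pCore hQn hQ
  have hPn : ∀ q : ℕ, (pCore q G).Normal := fun q => Subgroup.sSup_normal _ (fun _ h => h.1)
  have := hPn p
  have hCP : Subgroup.centralizer (pCore p G : Set G) ≤ pCore p G :=
    (Subgroup.centralizer_le hQP).trans (hC.trans hQP)
  have hPF : pCore p G ≤ fittingSubgroup G := H27.pCore_le_fitting p
  have hE : layer G = ⊥ := by
    rw [layer_eq_bot_iff]
    intro K hK
    exact component_not_le_fitting hK ((component_le_of_centralizer_le hK hCP).trans hPF)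
  have hF : fittingSubgroup G ≤ pCore p G := by
    rw [H27.fitting_eq_pCoreJoin]
    apply iSup_le
    rintro ⟨q, hq⟩
    have : Fact q.Prime := ⟨Nat.prime_of_mem_primeFactors hq⟩
    by_cases hqp : q = p
    · subst hqp; exact le_rfl
    · have hd : Disjoint (pCore q G) (pCore p G) :=
        IsPGroup.disjoint_of_ne q p hqp _ _ (H60.isPGroup_pCore q) (H60.isPGroup_pCore p)
      refine le_trans ?_ hCP
      intro x hx
      rw [Subgroup.mem_centralizer_iff]
      intro y hy
      exact (Subgroup.commute_of_normal_of_disjoint _ _ (hPn q) (hPn p) hd x y hx hy).eq.symm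
  rw [genFitting_eq_fitting_of_layer_eq_bot hE]
  exact le_antisymm hF hPF

end criterion

section SL

open Matrix

variable {F : Type*} [Field F] [Fintype F] [DecidableEq F] {n : ℕ}

/-- The subgroup of `SL(n, F)` of matrices agreeing with the identity outside row `i`. -/
def rowSubgroup (F : Type*) [Field F] [Fintype F] [DecidableEq F] {n : ℕ} (i : Fin n) :
    Subgroup (Matrix.SpecialLinearGroup (Fin n) F) where
  carrier := {g | ∀ a, a ≠ i → ∀ d,
    (g : Matrix (Fin n) (Fin n) F) a d = (1 : Matrix (Fin n) (Fin n) F) a d}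
  mul_mem' := by
    intro g h hg hh a ha d
    rw [Matrix.SpecialLinearGroup.coe_mul, Matrix.mul_apply]
    simp only [hg a ha, Matrix.one_apply, ite_mul, one_mul, zero_mul, Finset.sum_ite_eq,
      Finset.mem_univ, if_true]
    exact hh a ha d
  one_mem' := by
    intro a _ d
    rw [Matrix.SpecialLinearGroup.coe_one]
  inv_mem' := by
    intro g hg a ha d
    have h1 : ((g * g⁻¹ : Matrix.SpecialLinearGroup (Fin n) F) : Matrix (Fin n) (Fin n) F) a d =
        (1 : Matrix (Fin n) (Fin n) F) a d := by
      rw [mul_inv_cancel, Matrix.SpecialLinearGroup.coe_one]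
    rw [Matrix.SpecialLinearGroup.coe_mul, Matrix.mul_apply] at h1
    simp only [hg a ha, Matrix.one_apply, ite_mul, one_mul, zero_mul, Finset.sum_ite_eq,
      Finset.mem_univ, if_true] at h1
    rw [h1, Matrix.one_apply]

theorem mem_rowSubgroup_iff {i : Fin n} {g : Matrix.SpecialLinearGroup (Fin n) F} :
    g ∈ rowSubgroup F i ↔ ∀ a, a ≠ i → ∀ d,
      (g : Matrix (Fin n) (Fin n) F) a d = (1 : Matrix (Fin n) (Fin n) F) a d := Iff.rfl

theorem eq_zero_or_one_of_card (hF : Fintype.card F = 2) (z : F) : z = 0 ∨ z = 1 := by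
  by_contra h
  push Not at h
  have h3 : ({0, 1, z} : Finset F).card = 3 := by
    rw [Finset.card_insert_of_notMem, Finset.card_insert_of_notMem, Finset.card_singleton]
    · simp [h.2.symm]
    · simp [h.1.symm]
  have := Finset.card_le_univ ({0, 1, z} : Finset F)
  omega

theorem add_self_of_card (hF : Fintype.card F = 2) (z : F) : z + z = 0 := by
  have h1 : (1 : F) + 1 = 0 := by
    rcases eq_zero_or_one_of_card hF ((1 : F) + 1) with h | h
    · exact h
    · exfalso
      have : (1 : F) = 0 := by
        have h2 : (1 : F) + 1 - 1 = 1 - 1 := by rw [h]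
        simp at h2
      exact one_ne_zero this
  calc z + z = z * (1 + 1) := by ring
    _ = 0 := by rw [h1, mul_zero]

variable {i j : Fin n} {t : Matrix.SpecialLinearGroup (Fin n) F}

omit [Fintype F] [DecidableEq F] in
/-- An element commuting with the transvection `1 + E_{ij}` has `i`-th column supported at `i`. -/
theorem col_eq_zero_of_comm_transvection
    (ht : (t : Matrix (Fin n) (Fin n) F) = Matrix.transvection i j 1)
    {c : Matrix.SpecialLinearGroup (Fin n) F} (hc : c * t = t * c) {a : Fin n} (ha : a ≠ i) :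
    (c : Matrix (Fin n) (Fin n) F) a i = 0 := by
  have h1 : ((c * t : Matrix.SpecialLinearGroup (Fin n) F) : Matrix (Fin n) (Fin n) F) a j =
      ((t * c : Matrix.SpecialLinearGroup (Fin n) F) : Matrix (Fin n) (Fin n) F) a j := by rw [hc]
  rw [Matrix.SpecialLinearGroup.coe_mul, Matrix.SpecialLinearGroup.coe_mul, ht,
    Matrix.mul_transvection_apply_same, Matrix.transvection_mul_apply_of_ne _ _ _ _ ha] at h1
  simpa using h1

omit [Fintype F] [DecidableEq F] in
/-- An element commuting with the transvection `1 + E_{ib}` has `b`-th row supported at `b`. -/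
theorem row_eq_zero_of_comm_transvection {b : Fin n}
    {q c : Matrix.SpecialLinearGroup (Fin n) F}
    (hq : (q : Matrix (Fin n) (Fin n) F) = Matrix.transvection i b 1)
    (hc : c * q = q * c) {d : Fin n} (hd : d ≠ b) :
    (c : Matrix (Fin n) (Fin n) F) b d = 0 := by
  have h1 : ((c * q : Matrix.SpecialLinearGroup (Fin n) F) : Matrix (Fin n) (Fin n) F) i d =
      ((q * c : Matrix.SpecialLinearGroup (Fin n) F) : Matrix (Fin n) (Fin n) F) i d := by rw [hc]
  rw [Matrix.SpecialLinearGroup.coe_mul, Matrix.SpecialLinearGroup.coe_mul, hq,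
    Matrix.transvection_mul_apply_same, Matrix.mul_transvection_apply_of_ne _ _ _ _ hd] at h1
  simpa using h1

omit [Fintype F] [DecidableEq F] in
theorem diag_eq_of_comm_transvection {b : Fin n}
    {q c : Matrix.SpecialLinearGroup (Fin n) F}
    (hq : (q : Matrix (Fin n) (Fin n) F) = Matrix.transvection i b 1)
    (hc : c * q = q * c) :
    (c : Matrix (Fin n) (Fin n) F) b b = (c : Matrix (Fin n) (Fin n) F) i i := by
  have h1 : ((c * q : Matrix.SpecialLinearGroup (Fin n) F) : Matrix (Fin n) (Fin n) F) i b =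
      ((q * c : Matrix.SpecialLinearGroup (Fin n) F) : Matrix (Fin n) (Fin n) F) i b := by rw [hc]
  rw [Matrix.SpecialLinearGroup.coe_mul, Matrix.SpecialLinearGroup.coe_mul, hq,
    Matrix.transvection_mul_apply_same, Matrix.mul_transvection_apply_same] at h1
  simpa using h1.symm

/-- If the `i`-th column of `c ∈ SL(n, 2)` is supported at `i`, its `(i, i)` entry is `1`. -/
theorem diag_eq_one_of_col (hF : Fintype.card F = 2) {c : Matrix.SpecialLinearGroup (Fin n) F}
    (hcol : ∀ a, a ≠ i → (c : Matrix (Fin n) (Fin n) F) a i = 0) :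
    (c : Matrix (Fin n) (Fin n) F) i i = 1 := by
  rcases eq_zero_or_one_of_card hF ((c : Matrix (Fin n) (Fin n) F) i i) with h | h
  · exfalso
    have hdet : (c : Matrix (Fin n) (Fin n) F).det = 0 := by
      apply Matrix.det_eq_zero_of_column_eq_zero i
      intro a
      by_cases ha : a = i
      · rw [ha]; exact h
      · exact hcol a ha
    rw [Matrix.SpecialLinearGroup.det_coe] at hdet
    exact one_ne_zero hdet
  · exact h

/-- The transvection `1 + E_{ib}` as an element of `SL(n, F)`. -/
def transvSL (F : Type*) [Field F] [Fintype F] [DecidableEq F] {n : ℕ} (i b : Fin n)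
    (h : i ≠ b) : Matrix.SpecialLinearGroup (Fin n) F :=
  ⟨Matrix.transvection i b 1, Matrix.det_transvection_of_ne i b h 1⟩

theorem transvSL_mem_rowSubgroup {b : Fin n} (h : i ≠ b) : transvSL F i b h ∈ rowSubgroup F i := by
  intro a ha d
  show Matrix.transvection i b (1 : F) a d = _
  rw [Matrix.transvection, Matrix.add_apply, Matrix.single_apply_of_row_ne (Ne.symm ha), add_zero]

theorem transvSL_comm {b : Fin n} (h : i ≠ b) (hij : i ≠ j)
    (ht : (t : Matrix (Fin n) (Fin n) F) = Matrix.transvection i j 1) :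
    transvSL F i b h * t = t * transvSL F i b h := by
  apply Subtype.ext
  show Matrix.transvection i b (1 : F) * (t : Matrix (Fin n) (Fin n) F) =
    (t : Matrix (Fin n) (Fin n) F) * Matrix.transvection i b (1 : F)
  rw [ht]
  simp only [Matrix.transvection, Matrix.add_mul, Matrix.mul_add, Matrix.one_mul, Matrix.mul_one,
    Matrix.single_mul_single_of_ne _ _ _ _ (Ne.symm h) _,
    Matrix.single_mul_single_of_ne _ _ _ _ (Ne.symm hij) _, add_zero]
  abel

/-- Elements of the row subgroup are involutions in characteristic `2`. -/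
theorem rowSubgroup_sq (hF : Fintype.card F = 2) {g : Matrix.SpecialLinearGroup (Fin n) F}
    (hg : g ∈ rowSubgroup F i) : g * g = 1 := by
  have hii : (g : Matrix (Fin n) (Fin n) F) i i = 1 := by
    apply diag_eq_one_of_col hF
    intro a ha
    rw [hg a ha i, Matrix.one_apply_ne ha]
  apply Matrix.SpecialLinearGroup.ext
  intro a d
  rw [Matrix.SpecialLinearGroup.coe_mul, Matrix.SpecialLinearGroup.coe_one]
  by_cases ha : a = i
  · subst ha
    rw [Matrix.mul_apply, ← Finset.add_sum_erase Finset.univ _ (Finset.mem_univ a), hii, one_mul]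
    have h1 : ∀ k ∈ Finset.univ.erase a, (g : Matrix (Fin n) (Fin n) F) a k *
        (g : Matrix (Fin n) (Fin n) F) k d = (g : Matrix (Fin n) (Fin n) F) a k *
        (1 : Matrix (Fin n) (Fin n) F) k d := by
      intro k hk
      rw [hg k (Finset.ne_of_mem_erase hk) d]
    rw [Finset.sum_congr rfl h1]
    by_cases hd : d = a
    · subst hd
      rw [hii, Matrix.one_apply_eq]
      have : ∑ k ∈ Finset.univ.erase d, (g : Matrix (Fin n) (Fin n) F) d k *
          (1 : Matrix (Fin n) (Fin n) F) k d = 0 := by
        apply Finset.sum_eq_zero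
        intro k hk
        rw [Matrix.one_apply_ne (Finset.ne_of_mem_erase hk), mul_zero]
      rw [this, add_zero]
    · have : ∑ k ∈ Finset.univ.erase a, (g : Matrix (Fin n) (Fin n) F) a k *
          (1 : Matrix (Fin n) (Fin n) F) k d = (g : Matrix (Fin n) (Fin n) F) a d := by
        rw [Finset.sum_eq_single d]
        · rw [Matrix.one_apply_eq, mul_one]
        · intro k _ hkd
          rw [Matrix.one_apply_ne hkd, mul_zero]
        · intro hnd
          exact absurd (Finset.mem_erase.2 ⟨hd, Finset.mem_univ d⟩) hnd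
      rw [this, add_self_of_card hF, Matrix.one_apply_ne (Ne.symm hd)]
  · exact (rowSubgroup F i).mul_mem hg hg a ha d

/-- The centralizer of a transvection of `SL(n, 2)` normalizes the row subgroup. -/
theorem conj_mem_rowSubgroup (ht : (t : Matrix (Fin n) (Fin n) F) = Matrix.transvection i j 1)
    {c g : Matrix.SpecialLinearGroup (Fin n) F} (hc : c * t = t * c) (hg : g ∈ rowSubgroup F i) :
    c * g * c⁻¹ ∈ rowSubgroup F i := by
  intro a ha d
  have h1 : ∀ l, ((c * g : Matrix.SpecialLinearGroup (Fin n) F) : Matrix (Fin n) (Fin n) F) a l =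
      (c : Matrix (Fin n) (Fin n) F) a l := by
    intro l
    rw [Matrix.SpecialLinearGroup.coe_mul, Matrix.mul_apply]
    have h2 : ∀ k ∈ Finset.univ, (c : Matrix (Fin n) (Fin n) F) a k *
        (g : Matrix (Fin n) (Fin n) F) k l = (c : Matrix (Fin n) (Fin n) F) a k *
        (1 : Matrix (Fin n) (Fin n) F) k l := by
      intro k _
      by_cases hk : k = i
      · rw [hk, col_eq_zero_of_comm_transvection ht hc ha, zero_mul, zero_mul]
      · rw [hg k hk l]
    rw [Finset.sum_congr rfl h2, ← Matrix.mul_apply, Matrix.mul_one]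
  have h3 : ((c * g * c⁻¹ : Matrix.SpecialLinearGroup (Fin n) F) : Matrix (Fin n) (Fin n) F) a d =
      ((c * c⁻¹ : Matrix.SpecialLinearGroup (Fin n) F) : Matrix (Fin n) (Fin n) F) a d := by
    have e1 : ((c * g * c⁻¹ : Matrix.SpecialLinearGroup (Fin n) F) : Matrix (Fin n) (Fin n) F) =
        ((c * g : Matrix.SpecialLinearGroup (Fin n) F) : Matrix (Fin n) (Fin n) F) *
          ((c⁻¹ : Matrix.SpecialLinearGroup (Fin n) F) : Matrix (Fin n) (Fin n) F) :=
      Matrix.SpecialLinearGroup.coe_mul _ _
    have e2 : ((c * c⁻¹ : Matrix.SpecialLinearGroup (Fin n) F) : Matrix (Fin n) (Fin n) F) =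
        (c : Matrix (Fin n) (Fin n) F) *
          ((c⁻¹ : Matrix.SpecialLinearGroup (Fin n) F) : Matrix (Fin n) (Fin n) F) :=
      Matrix.SpecialLinearGroup.coe_mul _ _
    rw [e1, e2, Matrix.mul_apply, Matrix.mul_apply]
    exact Finset.sum_congr rfl (fun l _ => by rw [h1 l])
  rw [h3, mul_inv_cancel, Matrix.SpecialLinearGroup.coe_one]

/-- `F*(C(t)) = O_2(C(t))` for a transvection `t` of `SL(n, 2)`. -/
theorem genFitting_centralizer_transvection (hF : Fintype.card F = 2) (hij : i ≠ j)
    (ht : (t : Matrix (Fin n) (Fin n) F) = Matrix.transvection i j 1) :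
    generalizedFittingSubgroup
        ↥(Subgroup.centralizer ({t} : Set (Matrix.SpecialLinearGroup (Fin n) F))) =
      pCore 2 ↥(Subgroup.centralizer ({t} : Set (Matrix.SpecialLinearGroup (Fin n) F))) := by
  have : Fact (Nat.Prime 2) := ⟨Nat.prime_two⟩
  have hmemC : ∀ c : Matrix.SpecialLinearGroup (Fin n) F,
      c ∈ Subgroup.centralizer ({t} : Set (Matrix.SpecialLinearGroup (Fin n) F)) ↔ c * t = t * c := by
    intro c
    rw [Subgroup.mem_centralizer_singleton_iff, eq_comm]
  apply genFitting_eq_pCore_of_centralizer_le 2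
    ((rowSubgroup F i).subgroupOf
      (Subgroup.centralizer ({t} : Set (Matrix.SpecialLinearGroup (Fin n) F))))
  · constructor
    intro g hg c
    rw [Subgroup.mem_subgroupOf] at hg ⊢
    exact conj_mem_rowSubgroup ht ((hmemC _).1 c.2) hg
  · intro g
    refine ⟨1, ?_⟩
    have h := rowSubgroup_sq hF (Subgroup.mem_subgroupOf.1 g.2)
    apply Subtype.ext
    apply Subtype.ext
    rw [pow_one, pow_two]
    exact h
  · intro c hc
    rw [Subgroup.mem_subgroupOf]
    have hcol : ∀ a, a ≠ i → ((c : Matrix.SpecialLinearGroup (Fin n) F) :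
        Matrix (Fin n) (Fin n) F) a i = 0 :=
      fun a ha => col_eq_zero_of_comm_transvection ht ((hmemC _).1 c.2) ha
    have hii := diag_eq_one_of_col hF hcol
    intro b hb d
    have hq : transvSL F i b (Ne.symm hb) ∈
        Subgroup.centralizer ({t} : Set (Matrix.SpecialLinearGroup (Fin n) F)) :=
      (hmemC _).2 (transvSL_comm (Ne.symm hb) hij ht)
    have hcq := Subgroup.mem_centralizer_iff.1 hc ⟨transvSL F i b (Ne.symm hb), hq⟩
      (by
        show _ ∈ (rowSubgroup F i).subgroupOf _
        rw [Subgroup.mem_subgroupOf]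
        exact transvSL_mem_rowSubgroup (Ne.symm hb))
    have hcq' : (c : Matrix.SpecialLinearGroup (Fin n) F) * transvSL F i b (Ne.symm hb) =
        transvSL F i b (Ne.symm hb) * c := (congrArg Subtype.val hcq).symm
    by_cases hd : d = b
    · subst hd
      rw [diag_eq_of_comm_transvection (q := transvSL F i d (Ne.symm hb)) rfl hcq', hii,
        Matrix.one_apply_eq]
    · rw [row_eq_zero_of_comm_transvection (q := transvSL F i b (Ne.symm hb)) rfl hcq' hd,
        Matrix.one_apply_ne (Ne.symm hd)]

end SL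

end Cfsg.Agent.H28
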