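import Mathlib
import Cfsg.Agent.H42.UtDefs
import Cfsg.Agent.H42.SpdEx
import Cfsg.Agent.H32.TiModAdd

/-!
# UT-MODADD (S5953, helper28 for helper42): orthogonal sums of hermitian models
(port of helper32's `TiModAdd`, with the product form of helper40's `UnUModSum`).
-/

set_option autoImplicit false

namespace Cfsg.Agent.H28.Ut

open Cfsg.Agent.H45 Cfsg.Agent.H42.Spd Cfsg.Agent.H42.Un Cfsg.Agent.H42.Ti Cfsg.Agent.H42.Ut
  Cfsg.Agent.H32.Ti Module Polynomial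

universe u

theorem utModAdd : StUtModAdd.{u} := by
  intro F _ _ p _ _ σ r hr hrp Φs n₁ k₁ n₂ k₂ a₁ a₂ h₁ h₂
  have hp : p.Prime := Fact.out
  have hpr : ¬ p ∣ r := fun h => hrp ((Nat.prime_dvd_prime_iff_eq hp hr).mp h).symm
  obtain ⟨V₁, _, _, _, B₁, g₁, hd₁, hg₁, hn₁, hk₁, ha₁⟩ := h₁
  obtain ⟨V₂, _, _, _, B₂, g₂, hd₂, hg₂, hn₂, hk₂, ha₂⟩ := h₂
  let B : (V₁ × V₂) →ₗ[F] (V₁ × V₂) →ₛₗ[σ] F :=
    (B₁.comp (LinearMap.fst F V₁ V₂)).compl₂ (LinearMap.fst F V₁ V₂) +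
      (B₂.comp (LinearMap.snd F V₁ V₂)).compl₂ (LinearMap.snd F V₁ V₂)
  have hB : ∀ x y, B x y = B₁ x.1 y.1 + B₂ x.2 y.2 := fun x y => rfl
  have hgr : (g₁.prodMap g₂) ^ r = 1 := by
    rw [prodMap_pow', hg₁, hg₂, LinearMap.prodMap_one]
  refine ⟨V₁ × V₂, inferInstance, inferInstance, inferInstance, B, g₁.prodMap g₂,
    ⟨?_, ?_, ?_, ?_, ?_⟩, hgr, ?_, ?_, ?_⟩
  · intro x y
    rw [hB, hB, hd₁.herm, hd₂.herm, map_add, mul_add]
  · intro x hx
    apply Prod.ext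
    · apply hd₁.nondeg
      intro y
      have := hx (y, 0)
      rw [hB] at this
      simpa using this
    · apply hd₂.nondeg
      intro y
      have := hx (0, y)
      rw [hB] at this
      simpa using this
  · intro h x
    rw [hB, hd₁.alt h, hd₂.alt h, add_zero]
  · intro x y
    rw [hB, hB]
    simp only [LinearMap.prodMap_apply]
    rw [hd₁.isom, hd₂.isom]
  · exact isSemisimple_of_pow_eq_one p _ _ hpr hgr
  · rw [Module.finrank_prod, hn₁, hn₂]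
  · have h1 : g₁.prodMap g₂ - 1 = (g₁ - 1).prodMap (g₂ - 1) := by
      apply LinearMap.ext
      rintro ⟨x, y⟩
      simp only [LinearMap.sub_apply, LinearMap.prodMap_apply, Module.End.one_apply,
        Prod.mk_sub_mk]
    rw [h1, ker_prodMap, finrank_prod_sub, hk₁, hk₂]
  · intro φ hφ
    rw [aeval_prodMap, ker_prodMap, finrank_prod_sub, ha₁ φ hφ, ha₂ φ hφ]

example : Cfsg.Agent.H42.Ut.StUtModAdd.{u} := utModAdd

end Cfsg.Agent.H28.Ut
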