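import Mathlib
import Cfsg.Agent.H9.XPAbs

set_option autoImplicit false

/-!
# XP-R3 (S5746 team project, helper9)

A subgroup of index 100 with suborbits of sizes 36 and 63 is maximal.
-/

namespace Cfsg.Agent.H28.XP

theorem r3 : Cfsg.Agent.H9.XP.StR3 := by
  intro G _ _ H hindex hex
  obtain ⟨c₁, c₂, hc₁, hc₂⟩ := hex
  classical
  obtain ⟨p0, hp0⟩ : ∃ p0 : G ⧸ H, p0 = ((1 : G) : G ⧸ H) := ⟨_, rfl⟩
  have hstab0 : MulAction.stabilizer G p0 = H := by
    rw [hp0]; exact MulAction.stabilizer_quotient H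
  have hsub : ∀ (L : Subgroup G) (x : G ⧸ H),
      MulAction.stabilizer ↥L x = (MulAction.stabilizer G x).subgroupOf L := by
    intro L x
    ext l
    exact Iff.rfl
  have hfix : ∀ g : G, g • p0 = p0 ↔ g ∈ H := by
    intro g
    rw [← MulAction.mem_stabilizer_iff, hstab0]
  have hsurj : ∀ q : G ⧸ H, ∃ g : G, q = g • p0 := by
    intro q
    obtain ⟨g, rfl⟩ := QuotientGroup.mk_surjective q
    refine ⟨g, ?_⟩
    rw [hp0, MulAction.Quotient.smul_mk, smul_eq_mul, mul_one]
  obtain ⟨a, rfl⟩ := hsurj c₁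
  obtain ⟨b, rfl⟩ := hsurj c₂
  have hX : Nat.card (G ⧸ H) = 100 := by rw [← Subgroup.index_eq_card]; exact hindex
  have hO1 : MulAction.orbit ↥H p0 = {p0} := by
    ext q
    constructor
    · rintro ⟨h, rfl⟩
      show (h : G) • p0 ∈ ({p0} : Set (G ⧸ H))
      rw [Set.mem_singleton_iff, hfix]
      exact h.2
    · rintro rfl
      exact MulAction.mem_orbit_self _
  have hO1c : (MulAction.orbit ↥H p0).ncard = 1 := by rw [hO1, Set.ncard_singleton]
  have hd1 : Disjoint (MulAction.orbit ↥H p0) (MulAction.orbit ↥H (a • p0)) := by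
    rcases MulAction.orbit.eq_or_disjoint (G := ↥H) p0 (a • p0) with h | h
    · rw [h, hc₁] at hO1c; omega
    · exact h
  have hd2 : Disjoint (MulAction.orbit ↥H p0) (MulAction.orbit ↥H (b • p0)) := by
    rcases MulAction.orbit.eq_or_disjoint (G := ↥H) p0 (b • p0) with h | h
    · rw [h, hc₂] at hO1c; omega
    · exact h
  have hd3 : Disjoint (MulAction.orbit ↥H (a • p0)) (MulAction.orbit ↥H (b • p0)) := by
    rcases MulAction.orbit.eq_or_disjoint (G := ↥H) (a • p0) (b • p0) with h | h
    · rw [h, hc₂] at hc₁; omega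
    · exact h
  have hunion : MulAction.orbit ↥H p0 ∪ MulAction.orbit ↥H (a • p0)
      ∪ MulAction.orbit ↥H (b • p0) = Set.univ := by
    apply Set.eq_of_subset_of_ncard_le (Set.subset_univ _) _ (Set.toFinite _)
    rw [Set.ncard_univ, hX, Set.ncard_union_eq (Set.disjoint_union_left.mpr ⟨hd2, hd3⟩)
      (Set.toFinite _) (Set.toFinite _), Set.ncard_union_eq hd1 (Set.toFinite _) (Set.toFinite _),
      hO1c, hc₁, hc₂]
  have hcover : ∀ g : G, g ∈ H ∨ (∃ h : ↥H, g • p0 = h • (a • p0))
      ∨ (∃ h : ↥H, g • p0 = h • (b • p0)) := by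
    intro g
    have hg : g • p0 ∈ MulAction.orbit ↥H p0 ∪ MulAction.orbit ↥H (a • p0)
        ∪ MulAction.orbit ↥H (b • p0) := by rw [hunion]; trivial
    rcases hg with (hg | hg) | hg
    · left
      rw [hO1, Set.mem_singleton_iff, hfix] at hg
      exact hg
    · right; left
      obtain ⟨h, hh⟩ := MulAction.mem_orbit_iff.mp hg
      exact ⟨h, hh.symm⟩
    · right; right
      obtain ⟨h, hh⟩ := MulAction.mem_orbit_iff.mp hg
      exact ⟨h, hh.symm⟩
  refine ⟨?_, fun K hK => ?_⟩
  · intro h
    rw [h, Subgroup.index_top] at hindex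
    omega
  · have hHK : H ≤ K := hK.le
    have hKiff : ∀ (g y : G) (h : ↥H), g • p0 = h • (y • p0) → (g ∈ K ↔ y ∈ K) := by
      intro g y h hgy
      have e0 : g • p0 = ((h : G) * y) • p0 := by
        rw [hgy, mul_smul]; rfl
      have e1 : (((h : G) * y)⁻¹ * g) • p0 = p0 := by
        rw [mul_smul, e0, ← mul_smul, inv_mul_cancel, one_smul]
      have e2 : ((h : G) * y)⁻¹ * g ∈ K := hHK ((hfix _).mp e1)
      have hh : (h : G) ∈ K := hHK h.2
      constructor
      · intro hg
        have e3 : (h : G) * y ∈ K := by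
          have h3 := K.mul_mem hg (K.inv_mem e2)
          have e4 : g * (((h : G) * y)⁻¹ * g)⁻¹ = (h : G) * y := by group
          rwa [e4] at h3
        have h5 := K.mul_mem (K.inv_mem hh) e3
        rwa [inv_mul_cancel_left] at h5
      · intro hy
        have h3 := K.mul_mem (K.mul_mem hh hy) e2
        have e4 : (h : G) * y * (((h : G) * y)⁻¹ * g) = g := by group
        rwa [e4] at h3
    have hOK : (MulAction.orbit ↥K p0).ncard ∣ 100 := by
      rw [← MulAction.index_stabilizer, hsub, hstab0, ← hindex]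
      exact Subgroup.relIndex_dvd_index_of_le hHK
    have key : ∀ (y y' : G) (N : ℕ), (MulAction.orbit ↥H (y • p0)).ncard = N →
        Disjoint (MulAction.orbit ↥H p0) (MulAction.orbit ↥H (y • p0)) →
        (∀ g : G, g ∈ H ∨ (∃ h : ↥H, g • p0 = h • (y • p0))
          ∨ (∃ h : ↥H, g • p0 = h • (y' • p0))) →
        y ∈ K → y' ∉ K → (1 + N) ∣ 100 := by
      intro y y' N hN hdis hcov hy hy'
      have hEq : MulAction.orbit ↥K p0
          = MulAction.orbit ↥H p0 ∪ MulAction.orbit ↥H (y • p0) := by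
        ext q
        constructor
        · rintro ⟨k, rfl⟩
          show (k : G) • p0 ∈ _
          rcases hcov (k : G) with h1 | ⟨h, h1⟩ | ⟨h, h1⟩
          · left
            rw [(hfix _).mpr h1]
            exact MulAction.mem_orbit_self _
          · right
            rw [h1]
            exact MulAction.mem_orbit _ _
          · exact absurd ((hKiff _ _ h h1).mp k.2) hy'
        · rintro (hq | hq)
          · rw [hO1, Set.mem_singleton_iff] at hq
            rw [hq]
            exact MulAction.mem_orbit_self _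
          · obtain ⟨h, rfl⟩ := MulAction.mem_orbit_iff.mp hq
            refine MulAction.mem_orbit_iff.mpr ⟨⟨(h : G) * y, K.mul_mem (hHK h.2) hy⟩, ?_⟩
            show ((h : G) * y) • p0 = (h : G) • (y • p0)
            rw [mul_smul]
      rw [hEq, Set.ncard_union_eq hdis (Set.toFinite _) (Set.toFinite _), hO1c, hN] at hOK
      exact hOK
    obtain ⟨k, hkK, hkH⟩ := SetLike.exists_of_lt hK
    by_cases ha : a ∈ K
    · by_cases hb : b ∈ K
      · rw [eq_top_iff]
        intro g _
        rcases hcover g with h1 | ⟨h, h1⟩ | ⟨h, h1⟩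
        · exact hHK h1
        · exact (hKiff _ _ h h1).mpr ha
        · exact (hKiff _ _ h h1).mpr hb
      · exfalso
        have := key a b 36 hc₁ hd1 hcover ha hb
        omega
    · by_cases hb : b ∈ K
      · exfalso
        have := key b a 63 hc₂ hd2
          (fun g => (hcover g).imp id (fun h => h.symm)) hb ha
        omega
      · exfalso
        rcases hcover k with h1 | ⟨h, h1⟩ | ⟨h, h1⟩
        · exact hkH h1
        · exact ha ((hKiff _ _ h h1).mp hkK)
        · exact hb ((hKiff _ _ h h1).mp hkK)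

example : Cfsg.Agent.H9.XP.StR3 := r3

end Cfsg.Agent.H28.XP

#print axioms Cfsg.Agent.H28.XP.r3
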